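import Cfsg.Agent.Lib.ToddCox.RUC1.Data0
set_option autoImplicit false
set_option maxRecDepth 100000
namespace Cfsg.Agent.Lib.ToddCox.RUC1
def eT_1_3 (j : ℕ) : ℕ := bif Nat.blt j 2 then E_1 else E_2
def eT_0_3 (j : ℕ) : ℕ := bif Nat.blt j 1 then E_0 else (eT_1_3 j)
def eT_3_5 (j : ℕ) : ℕ := bif Nat.blt j 4 then E_3 else E_4
def eT_5_7 (j : ℕ) : ℕ := bif Nat.blt j 6 then E_5 else E_6
def eT_3_7 (j : ℕ) : ℕ := bif Nat.blt j 5 then (eT_3_5 j) else (eT_5_7 j)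
def eT_0_7 (j : ℕ) : ℕ := bif Nat.blt j 3 then (eT_0_3 j) else (eT_3_7 j)
def eT_8_10 (j : ℕ) : ℕ := bif Nat.blt j 9 then E_8 else E_9
def eT_7_10 (j : ℕ) : ℕ := bif Nat.blt j 8 then E_7 else (eT_8_10 j)
def eT_10_12 (j : ℕ) : ℕ := bif Nat.blt j 11 then E_10 else E_11
def eT_12_14 (j : ℕ) : ℕ := bif Nat.blt j 13 then E_12 else E_13
def eT_10_14 (j : ℕ) : ℕ := bif Nat.blt j 12 then (eT_10_12 j) else (eT_12_14 j)
def eT_7_14 (j : ℕ) : ℕ := bif Nat.blt j 10 then (eT_7_10 j) else (eT_10_14 j)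
def eT_0_14 (j : ℕ) : ℕ := bif Nat.blt j 7 then (eT_0_7 j) else (eT_7_14 j)
def eT_15_17 (j : ℕ) : ℕ := bif Nat.blt j 16 then E_15 else E_16
def eT_14_17 (j : ℕ) : ℕ := bif Nat.blt j 15 then E_14 else (eT_15_17 j)
def eT_17_19 (j : ℕ) : ℕ := bif Nat.blt j 18 then E_17 else E_18
def eT_19_21 (j : ℕ) : ℕ := bif Nat.blt j 20 then E_19 else E_20
def eT_17_21 (j : ℕ) : ℕ := bif Nat.blt j 19 then (eT_17_19 j) else (eT_19_21 j)
def eT_14_21 (j : ℕ) : ℕ := bif Nat.blt j 17 then (eT_14_17 j) else (eT_17_21 j)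
def eT_22_24 (j : ℕ) : ℕ := bif Nat.blt j 23 then E_22 else E_23
def eT_21_24 (j : ℕ) : ℕ := bif Nat.blt j 22 then E_21 else (eT_22_24 j)
def eT_24_26 (j : ℕ) : ℕ := bif Nat.blt j 25 then E_24 else E_25
def eT_26_28 (j : ℕ) : ℕ := bif Nat.blt j 27 then E_26 else E_27
def eT_24_28 (j : ℕ) : ℕ := bif Nat.blt j 26 then (eT_24_26 j) else (eT_26_28 j)
def eT_21_28 (j : ℕ) : ℕ := bif Nat.blt j 24 then (eT_21_24 j) else (eT_24_28 j)
def eT_14_28 (j : ℕ) : ℕ := bif Nat.blt j 21 then (eT_14_21 j) else (eT_21_28 j)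
def eT_0_28 (j : ℕ) : ℕ := bif Nat.blt j 14 then (eT_0_14 j) else (eT_14_28 j)
def eT_29_31 (j : ℕ) : ℕ := bif Nat.blt j 30 then E_29 else E_30
def eT_28_31 (j : ℕ) : ℕ := bif Nat.blt j 29 then E_28 else (eT_29_31 j)
def eT_31_33 (j : ℕ) : ℕ := bif Nat.blt j 32 then E_31 else E_32
def eT_33_35 (j : ℕ) : ℕ := bif Nat.blt j 34 then E_33 else E_34
def eT_31_35 (j : ℕ) : ℕ := bif Nat.blt j 33 then (eT_31_33 j) else (eT_33_35 j)
def eT_28_35 (j : ℕ) : ℕ := bif Nat.blt j 31 then (eT_28_31 j) else (eT_31_35 j)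
def eT_36_38 (j : ℕ) : ℕ := bif Nat.blt j 37 then E_36 else E_37
def eT_35_38 (j : ℕ) : ℕ := bif Nat.blt j 36 then E_35 else (eT_36_38 j)
def eT_38_40 (j : ℕ) : ℕ := bif Nat.blt j 39 then E_38 else E_39
def eT_40_42 (j : ℕ) : ℕ := bif Nat.blt j 41 then E_40 else E_41
def eT_38_42 (j : ℕ) : ℕ := bif Nat.blt j 40 then (eT_38_40 j) else (eT_40_42 j)
def eT_35_42 (j : ℕ) : ℕ := bif Nat.blt j 38 then (eT_35_38 j) else (eT_38_42 j)
def eT_28_42 (j : ℕ) : ℕ := bif Nat.blt j 35 then (eT_28_35 j) else (eT_35_42 j)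
def eT_43_45 (j : ℕ) : ℕ := bif Nat.blt j 44 then E_43 else E_44
def eT_42_45 (j : ℕ) : ℕ := bif Nat.blt j 43 then E_42 else (eT_43_45 j)
def eT_45_47 (j : ℕ) : ℕ := bif Nat.blt j 46 then E_45 else E_46
def eT_47_49 (j : ℕ) : ℕ := bif Nat.blt j 48 then E_47 else E_48
def eT_45_49 (j : ℕ) : ℕ := bif Nat.blt j 47 then (eT_45_47 j) else (eT_47_49 j)
def eT_42_49 (j : ℕ) : ℕ := bif Nat.blt j 45 then (eT_42_45 j) else (eT_45_49 j)
def eT_50_52 (j : ℕ) : ℕ := bif Nat.blt j 51 then E_50 else E_51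
def eT_49_52 (j : ℕ) : ℕ := bif Nat.blt j 50 then E_49 else (eT_50_52 j)
def eT_52_54 (j : ℕ) : ℕ := bif Nat.blt j 53 then E_52 else E_53
def eT_54_56 (j : ℕ) : ℕ := bif Nat.blt j 55 then E_54 else E_55
def eT_52_56 (j : ℕ) : ℕ := bif Nat.blt j 54 then (eT_52_54 j) else (eT_54_56 j)
def eT_49_56 (j : ℕ) : ℕ := bif Nat.blt j 52 then (eT_49_52 j) else (eT_52_56 j)
def eT_42_56 (j : ℕ) : ℕ := bif Nat.blt j 49 then (eT_42_49 j) else (eT_49_56 j)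
def eT_28_56 (j : ℕ) : ℕ := bif Nat.blt j 42 then (eT_28_42 j) else (eT_42_56 j)
def eT_0_56 (j : ℕ) : ℕ := bif Nat.blt j 28 then (eT_0_28 j) else (eT_28_56 j)
def eT_57_59 (j : ℕ) : ℕ := bif Nat.blt j 58 then E_57 else E_58
def eT_56_59 (j : ℕ) : ℕ := bif Nat.blt j 57 then E_56 else (eT_57_59 j)
def eT_59_61 (j : ℕ) : ℕ := bif Nat.blt j 60 then E_59 else E_60
def eT_61_63 (j : ℕ) : ℕ := bif Nat.blt j 62 then E_61 else E_62
def eT_59_63 (j : ℕ) : ℕ := bif Nat.blt j 61 then (eT_59_61 j) else (eT_61_63 j)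
def eT_56_63 (j : ℕ) : ℕ := bif Nat.blt j 59 then (eT_56_59 j) else (eT_59_63 j)
def eT_64_66 (j : ℕ) : ℕ := bif Nat.blt j 65 then E_64 else E_65
def eT_63_66 (j : ℕ) : ℕ := bif Nat.blt j 64 then E_63 else (eT_64_66 j)
def eT_66_68 (j : ℕ) : ℕ := bif Nat.blt j 67 then E_66 else E_67
def eT_68_70 (j : ℕ) : ℕ := bif Nat.blt j 69 then E_68 else E_69
def eT_66_70 (j : ℕ) : ℕ := bif Nat.blt j 68 then (eT_66_68 j) else (eT_68_70 j)
def eT_63_70 (j : ℕ) : ℕ := bif Nat.blt j 66 then (eT_63_66 j) else (eT_66_70 j)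
def eT_56_70 (j : ℕ) : ℕ := bif Nat.blt j 63 then (eT_56_63 j) else (eT_63_70 j)
def eT_71_73 (j : ℕ) : ℕ := bif Nat.blt j 72 then E_71 else E_72
def eT_70_73 (j : ℕ) : ℕ := bif Nat.blt j 71 then E_70 else (eT_71_73 j)
def eT_73_75 (j : ℕ) : ℕ := bif Nat.blt j 74 then E_73 else E_74
def eT_75_77 (j : ℕ) : ℕ := bif Nat.blt j 76 then E_75 else E_76
def eT_73_77 (j : ℕ) : ℕ := bif Nat.blt j 75 then (eT_73_75 j) else (eT_75_77 j)
def eT_70_77 (j : ℕ) : ℕ := bif Nat.blt j 73 then (eT_70_73 j) else (eT_73_77 j)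
def eT_78_80 (j : ℕ) : ℕ := bif Nat.blt j 79 then E_78 else E_79
def eT_77_80 (j : ℕ) : ℕ := bif Nat.blt j 78 then E_77 else (eT_78_80 j)
def eT_80_82 (j : ℕ) : ℕ := bif Nat.blt j 81 then E_80 else E_81
def eT_82_84 (j : ℕ) : ℕ := bif Nat.blt j 83 then E_82 else E_83
def eT_80_84 (j : ℕ) : ℕ := bif Nat.blt j 82 then (eT_80_82 j) else (eT_82_84 j)
def eT_77_84 (j : ℕ) : ℕ := bif Nat.blt j 80 then (eT_77_80 j) else (eT_80_84 j)
def eT_70_84 (j : ℕ) : ℕ := bif Nat.blt j 77 then (eT_70_77 j) else (eT_77_84 j)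
def eT_56_84 (j : ℕ) : ℕ := bif Nat.blt j 70 then (eT_56_70 j) else (eT_70_84 j)
def eT_85_87 (j : ℕ) : ℕ := bif Nat.blt j 86 then E_85 else E_86
def eT_84_87 (j : ℕ) : ℕ := bif Nat.blt j 85 then E_84 else (eT_85_87 j)
def eT_87_89 (j : ℕ) : ℕ := bif Nat.blt j 88 then E_87 else E_88
def eT_89_91 (j : ℕ) : ℕ := bif Nat.blt j 90 then E_89 else E_90
def eT_87_91 (j : ℕ) : ℕ := bif Nat.blt j 89 then (eT_87_89 j) else (eT_89_91 j)
def eT_84_91 (j : ℕ) : ℕ := bif Nat.blt j 87 then (eT_84_87 j) else (eT_87_91 j)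
def eT_92_94 (j : ℕ) : ℕ := bif Nat.blt j 93 then E_92 else E_93
def eT_91_94 (j : ℕ) : ℕ := bif Nat.blt j 92 then E_91 else (eT_92_94 j)
def eT_94_96 (j : ℕ) : ℕ := bif Nat.blt j 95 then E_94 else E_95
def eT_96_98 (j : ℕ) : ℕ := bif Nat.blt j 97 then E_96 else E_97
def eT_94_98 (j : ℕ) : ℕ := bif Nat.blt j 96 then (eT_94_96 j) else (eT_96_98 j)
def eT_91_98 (j : ℕ) : ℕ := bif Nat.blt j 94 then (eT_91_94 j) else (eT_94_98 j)
def eT_84_98 (j : ℕ) : ℕ := bif Nat.blt j 91 then (eT_84_91 j) else (eT_91_98 j)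
def eT_99_101 (j : ℕ) : ℕ := bif Nat.blt j 100 then E_99 else E_100
def eT_98_101 (j : ℕ) : ℕ := bif Nat.blt j 99 then E_98 else (eT_99_101 j)
def eT_101_103 (j : ℕ) : ℕ := bif Nat.blt j 102 then E_101 else E_102
def eT_103_105 (j : ℕ) : ℕ := bif Nat.blt j 104 then E_103 else E_104
def eT_101_105 (j : ℕ) : ℕ := bif Nat.blt j 103 then (eT_101_103 j) else (eT_103_105 j)
def eT_98_105 (j : ℕ) : ℕ := bif Nat.blt j 101 then (eT_98_101 j) else (eT_101_105 j)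
def eT_106_108 (j : ℕ) : ℕ := bif Nat.blt j 107 then E_106 else E_107
def eT_105_108 (j : ℕ) : ℕ := bif Nat.blt j 106 then E_105 else (eT_106_108 j)
def eT_108_110 (j : ℕ) : ℕ := bif Nat.blt j 109 then E_108 else E_109
def eT_110_112 (j : ℕ) : ℕ := bif Nat.blt j 111 then E_110 else E_111
def eT_108_112 (j : ℕ) : ℕ := bif Nat.blt j 110 then (eT_108_110 j) else (eT_110_112 j)
def eT_105_112 (j : ℕ) : ℕ := bif Nat.blt j 108 then (eT_105_108 j) else (eT_108_112 j)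
def eT_98_112 (j : ℕ) : ℕ := bif Nat.blt j 105 then (eT_98_105 j) else (eT_105_112 j)
def eT_84_112 (j : ℕ) : ℕ := bif Nat.blt j 98 then (eT_84_98 j) else (eT_98_112 j)
def eT_56_112 (j : ℕ) : ℕ := bif Nat.blt j 84 then (eT_56_84 j) else (eT_84_112 j)
def eT_0_112 (j : ℕ) : ℕ := bif Nat.blt j 56 then (eT_0_56 j) else (eT_56_112 j)
def eT_113_115 (j : ℕ) : ℕ := bif Nat.blt j 114 then E_113 else E_114
def eT_112_115 (j : ℕ) : ℕ := bif Nat.blt j 113 then E_112 else (eT_113_115 j)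
def eT_115_117 (j : ℕ) : ℕ := bif Nat.blt j 116 then E_115 else E_116
def eT_117_119 (j : ℕ) : ℕ := bif Nat.blt j 118 then E_117 else E_118
def eT_115_119 (j : ℕ) : ℕ := bif Nat.blt j 117 then (eT_115_117 j) else (eT_117_119 j)
def eT_112_119 (j : ℕ) : ℕ := bif Nat.blt j 115 then (eT_112_115 j) else (eT_115_119 j)
def eT_120_122 (j : ℕ) : ℕ := bif Nat.blt j 121 then E_120 else E_121
def eT_119_122 (j : ℕ) : ℕ := bif Nat.blt j 120 then E_119 else (eT_120_122 j)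
def eT_122_124 (j : ℕ) : ℕ := bif Nat.blt j 123 then E_122 else E_123
def eT_124_126 (j : ℕ) : ℕ := bif Nat.blt j 125 then E_124 else E_125
def eT_122_126 (j : ℕ) : ℕ := bif Nat.blt j 124 then (eT_122_124 j) else (eT_124_126 j)
def eT_119_126 (j : ℕ) : ℕ := bif Nat.blt j 122 then (eT_119_122 j) else (eT_122_126 j)
def eT_112_126 (j : ℕ) : ℕ := bif Nat.blt j 119 then (eT_112_119 j) else (eT_119_126 j)
def eT_127_129 (j : ℕ) : ℕ := bif Nat.blt j 128 then E_127 else E_128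
def eT_126_129 (j : ℕ) : ℕ := bif Nat.blt j 127 then E_126 else (eT_127_129 j)
def eT_129_131 (j : ℕ) : ℕ := bif Nat.blt j 130 then E_129 else E_130
def eT_131_133 (j : ℕ) : ℕ := bif Nat.blt j 132 then E_131 else E_132
def eT_129_133 (j : ℕ) : ℕ := bif Nat.blt j 131 then (eT_129_131 j) else (eT_131_133 j)
def eT_126_133 (j : ℕ) : ℕ := bif Nat.blt j 129 then (eT_126_129 j) else (eT_129_133 j)
def eT_134_136 (j : ℕ) : ℕ := bif Nat.blt j 135 then E_134 else E_135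
def eT_133_136 (j : ℕ) : ℕ := bif Nat.blt j 134 then E_133 else (eT_134_136 j)
def eT_136_138 (j : ℕ) : ℕ := bif Nat.blt j 137 then E_136 else E_137
def eT_138_140 (j : ℕ) : ℕ := bif Nat.blt j 139 then E_138 else E_139
def eT_136_140 (j : ℕ) : ℕ := bif Nat.blt j 138 then (eT_136_138 j) else (eT_138_140 j)
def eT_133_140 (j : ℕ) : ℕ := bif Nat.blt j 136 then (eT_133_136 j) else (eT_136_140 j)
def eT_126_140 (j : ℕ) : ℕ := bif Nat.blt j 133 then (eT_126_133 j) else (eT_133_140 j)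
def eT_112_140 (j : ℕ) : ℕ := bif Nat.blt j 126 then (eT_112_126 j) else (eT_126_140 j)
def eT_141_143 (j : ℕ) : ℕ := bif Nat.blt j 142 then E_141 else E_142
def eT_140_143 (j : ℕ) : ℕ := bif Nat.blt j 141 then E_140 else (eT_141_143 j)
def eT_143_145 (j : ℕ) : ℕ := bif Nat.blt j 144 then E_143 else E_144
def eT_145_147 (j : ℕ) : ℕ := bif Nat.blt j 146 then E_145 else E_146
def eT_143_147 (j : ℕ) : ℕ := bif Nat.blt j 145 then (eT_143_145 j) else (eT_145_147 j)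
def eT_140_147 (j : ℕ) : ℕ := bif Nat.blt j 143 then (eT_140_143 j) else (eT_143_147 j)
def eT_148_150 (j : ℕ) : ℕ := bif Nat.blt j 149 then E_148 else E_149
def eT_147_150 (j : ℕ) : ℕ := bif Nat.blt j 148 then E_147 else (eT_148_150 j)
def eT_150_152 (j : ℕ) : ℕ := bif Nat.blt j 151 then E_150 else E_151
def eT_152_154 (j : ℕ) : ℕ := bif Nat.blt j 153 then E_152 else E_153
def eT_150_154 (j : ℕ) : ℕ := bif Nat.blt j 152 then (eT_150_152 j) else (eT_152_154 j)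
def eT_147_154 (j : ℕ) : ℕ := bif Nat.blt j 150 then (eT_147_150 j) else (eT_150_154 j)
def eT_140_154 (j : ℕ) : ℕ := bif Nat.blt j 147 then (eT_140_147 j) else (eT_147_154 j)
def eT_155_157 (j : ℕ) : ℕ := bif Nat.blt j 156 then E_155 else E_156
def eT_154_157 (j : ℕ) : ℕ := bif Nat.blt j 155 then E_154 else (eT_155_157 j)
def eT_157_159 (j : ℕ) : ℕ := bif Nat.blt j 158 then E_157 else E_158
def eT_159_161 (j : ℕ) : ℕ := bif Nat.blt j 160 then E_159 else E_160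
def eT_157_161 (j : ℕ) : ℕ := bif Nat.blt j 159 then (eT_157_159 j) else (eT_159_161 j)
def eT_154_161 (j : ℕ) : ℕ := bif Nat.blt j 157 then (eT_154_157 j) else (eT_157_161 j)
def eT_162_164 (j : ℕ) : ℕ := bif Nat.blt j 163 then E_162 else E_163
def eT_161_164 (j : ℕ) : ℕ := bif Nat.blt j 162 then E_161 else (eT_162_164 j)
def eT_164_166 (j : ℕ) : ℕ := bif Nat.blt j 165 then E_164 else E_165
def eT_166_168 (j : ℕ) : ℕ := bif Nat.blt j 167 then E_166 else E_167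
def eT_164_168 (j : ℕ) : ℕ := bif Nat.blt j 166 then (eT_164_166 j) else (eT_166_168 j)
def eT_161_168 (j : ℕ) : ℕ := bif Nat.blt j 164 then (eT_161_164 j) else (eT_164_168 j)
def eT_154_168 (j : ℕ) : ℕ := bif Nat.blt j 161 then (eT_154_161 j) else (eT_161_168 j)
def eT_140_168 (j : ℕ) : ℕ := bif Nat.blt j 154 then (eT_140_154 j) else (eT_154_168 j)
def eT_112_168 (j : ℕ) : ℕ := bif Nat.blt j 140 then (eT_112_140 j) else (eT_140_168 j)
def eT_169_171 (j : ℕ) : ℕ := bif Nat.blt j 170 then E_169 else E_170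
def eT_168_171 (j : ℕ) : ℕ := bif Nat.blt j 169 then E_168 else (eT_169_171 j)
def eT_171_173 (j : ℕ) : ℕ := bif Nat.blt j 172 then E_171 else E_172
def eT_173_175 (j : ℕ) : ℕ := bif Nat.blt j 174 then E_173 else E_174
def eT_171_175 (j : ℕ) : ℕ := bif Nat.blt j 173 then (eT_171_173 j) else (eT_173_175 j)
def eT_168_175 (j : ℕ) : ℕ := bif Nat.blt j 171 then (eT_168_171 j) else (eT_171_175 j)
def eT_176_178 (j : ℕ) : ℕ := bif Nat.blt j 177 then E_176 else E_177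
def eT_175_178 (j : ℕ) : ℕ := bif Nat.blt j 176 then E_175 else (eT_176_178 j)
def eT_178_180 (j : ℕ) : ℕ := bif Nat.blt j 179 then E_178 else E_179
def eT_180_182 (j : ℕ) : ℕ := bif Nat.blt j 181 then E_180 else E_181
def eT_178_182 (j : ℕ) : ℕ := bif Nat.blt j 180 then (eT_178_180 j) else (eT_180_182 j)
def eT_175_182 (j : ℕ) : ℕ := bif Nat.blt j 178 then (eT_175_178 j) else (eT_178_182 j)
def eT_168_182 (j : ℕ) : ℕ := bif Nat.blt j 175 then (eT_168_175 j) else (eT_175_182 j)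
def eT_183_185 (j : ℕ) : ℕ := bif Nat.blt j 184 then E_183 else E_184
def eT_182_185 (j : ℕ) : ℕ := bif Nat.blt j 183 then E_182 else (eT_183_185 j)
def eT_185_187 (j : ℕ) : ℕ := bif Nat.blt j 186 then E_185 else E_186
def eT_187_189 (j : ℕ) : ℕ := bif Nat.blt j 188 then E_187 else E_188
def eT_185_189 (j : ℕ) : ℕ := bif Nat.blt j 187 then (eT_185_187 j) else (eT_187_189 j)
def eT_182_189 (j : ℕ) : ℕ := bif Nat.blt j 185 then (eT_182_185 j) else (eT_185_189 j)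
def eT_190_192 (j : ℕ) : ℕ := bif Nat.blt j 191 then E_190 else E_191
def eT_189_192 (j : ℕ) : ℕ := bif Nat.blt j 190 then E_189 else (eT_190_192 j)
def eT_192_194 (j : ℕ) : ℕ := bif Nat.blt j 193 then E_192 else E_193
def eT_194_196 (j : ℕ) : ℕ := bif Nat.blt j 195 then E_194 else E_195
def eT_192_196 (j : ℕ) : ℕ := bif Nat.blt j 194 then (eT_192_194 j) else (eT_194_196 j)
def eT_189_196 (j : ℕ) : ℕ := bif Nat.blt j 192 then (eT_189_192 j) else (eT_192_196 j)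
def eT_182_196 (j : ℕ) : ℕ := bif Nat.blt j 189 then (eT_182_189 j) else (eT_189_196 j)
def eT_168_196 (j : ℕ) : ℕ := bif Nat.blt j 182 then (eT_168_182 j) else (eT_182_196 j)
def eT_197_199 (j : ℕ) : ℕ := bif Nat.blt j 198 then E_197 else E_198
def eT_196_199 (j : ℕ) : ℕ := bif Nat.blt j 197 then E_196 else (eT_197_199 j)
def eT_199_201 (j : ℕ) : ℕ := bif Nat.blt j 200 then E_199 else E_200
def eT_201_203 (j : ℕ) : ℕ := bif Nat.blt j 202 then E_201 else E_202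
def eT_199_203 (j : ℕ) : ℕ := bif Nat.blt j 201 then (eT_199_201 j) else (eT_201_203 j)
def eT_196_203 (j : ℕ) : ℕ := bif Nat.blt j 199 then (eT_196_199 j) else (eT_199_203 j)
def eT_204_206 (j : ℕ) : ℕ := bif Nat.blt j 205 then E_204 else E_205
def eT_203_206 (j : ℕ) : ℕ := bif Nat.blt j 204 then E_203 else (eT_204_206 j)
def eT_206_208 (j : ℕ) : ℕ := bif Nat.blt j 207 then E_206 else E_207
def eT_208_210 (j : ℕ) : ℕ := bif Nat.blt j 209 then E_208 else E_209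
def eT_206_210 (j : ℕ) : ℕ := bif Nat.blt j 208 then (eT_206_208 j) else (eT_208_210 j)
def eT_203_210 (j : ℕ) : ℕ := bif Nat.blt j 206 then (eT_203_206 j) else (eT_206_210 j)
def eT_196_210 (j : ℕ) : ℕ := bif Nat.blt j 203 then (eT_196_203 j) else (eT_203_210 j)
def eT_211_213 (j : ℕ) : ℕ := bif Nat.blt j 212 then E_211 else E_212
def eT_210_213 (j : ℕ) : ℕ := bif Nat.blt j 211 then E_210 else (eT_211_213 j)
def eT_213_215 (j : ℕ) : ℕ := bif Nat.blt j 214 then E_213 else E_214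
def eT_215_217 (j : ℕ) : ℕ := bif Nat.blt j 216 then E_215 else E_216
def eT_213_217 (j : ℕ) : ℕ := bif Nat.blt j 215 then (eT_213_215 j) else (eT_215_217 j)
def eT_210_217 (j : ℕ) : ℕ := bif Nat.blt j 213 then (eT_210_213 j) else (eT_213_217 j)
def eT_218_220 (j : ℕ) : ℕ := bif Nat.blt j 219 then E_218 else E_219
def eT_217_220 (j : ℕ) : ℕ := bif Nat.blt j 218 then E_217 else (eT_218_220 j)
def eT_220_222 (j : ℕ) : ℕ := bif Nat.blt j 221 then E_220 else E_221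
def eT_222_224 (j : ℕ) : ℕ := bif Nat.blt j 223 then E_222 else E_223
def eT_220_224 (j : ℕ) : ℕ := bif Nat.blt j 222 then (eT_220_222 j) else (eT_222_224 j)
def eT_217_224 (j : ℕ) : ℕ := bif Nat.blt j 220 then (eT_217_220 j) else (eT_220_224 j)
def eT_210_224 (j : ℕ) : ℕ := bif Nat.blt j 217 then (eT_210_217 j) else (eT_217_224 j)
def eT_196_224 (j : ℕ) : ℕ := bif Nat.blt j 210 then (eT_196_210 j) else (eT_210_224 j)
def eT_168_224 (j : ℕ) : ℕ := bif Nat.blt j 196 then (eT_168_196 j) else (eT_196_224 j)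
def eT_112_224 (j : ℕ) : ℕ := bif Nat.blt j 168 then (eT_112_168 j) else (eT_168_224 j)
def eT_0_224 (j : ℕ) : ℕ := bif Nat.blt j 112 then (eT_0_112 j) else (eT_112_224 j)
def eT_225_227 (j : ℕ) : ℕ := bif Nat.blt j 226 then E_225 else E_226
def eT_224_227 (j : ℕ) : ℕ := bif Nat.blt j 225 then E_224 else (eT_225_227 j)
def eT_227_229 (j : ℕ) : ℕ := bif Nat.blt j 228 then E_227 else E_228
def eT_229_231 (j : ℕ) : ℕ := bif Nat.blt j 230 then E_229 else E_230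
def eT_227_231 (j : ℕ) : ℕ := bif Nat.blt j 229 then (eT_227_229 j) else (eT_229_231 j)
def eT_224_231 (j : ℕ) : ℕ := bif Nat.blt j 227 then (eT_224_227 j) else (eT_227_231 j)
def eT_232_234 (j : ℕ) : ℕ := bif Nat.blt j 233 then E_232 else E_233
def eT_231_234 (j : ℕ) : ℕ := bif Nat.blt j 232 then E_231 else (eT_232_234 j)
def eT_234_236 (j : ℕ) : ℕ := bif Nat.blt j 235 then E_234 else E_235
def eT_236_238 (j : ℕ) : ℕ := bif Nat.blt j 237 then E_236 else E_237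
def eT_234_238 (j : ℕ) : ℕ := bif Nat.blt j 236 then (eT_234_236 j) else (eT_236_238 j)
def eT_231_238 (j : ℕ) : ℕ := bif Nat.blt j 234 then (eT_231_234 j) else (eT_234_238 j)
def eT_224_238 (j : ℕ) : ℕ := bif Nat.blt j 231 then (eT_224_231 j) else (eT_231_238 j)
def eT_239_241 (j : ℕ) : ℕ := bif Nat.blt j 240 then E_239 else E_240
def eT_238_241 (j : ℕ) : ℕ := bif Nat.blt j 239 then E_238 else (eT_239_241 j)
def eT_241_243 (j : ℕ) : ℕ := bif Nat.blt j 242 then E_241 else E_242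
def eT_243_245 (j : ℕ) : ℕ := bif Nat.blt j 244 then E_243 else E_244
def eT_241_245 (j : ℕ) : ℕ := bif Nat.blt j 243 then (eT_241_243 j) else (eT_243_245 j)
def eT_238_245 (j : ℕ) : ℕ := bif Nat.blt j 241 then (eT_238_241 j) else (eT_241_245 j)
def eT_246_248 (j : ℕ) : ℕ := bif Nat.blt j 247 then E_246 else E_247
def eT_245_248 (j : ℕ) : ℕ := bif Nat.blt j 246 then E_245 else (eT_246_248 j)
def eT_248_250 (j : ℕ) : ℕ := bif Nat.blt j 249 then E_248 else E_249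
def eT_250_252 (j : ℕ) : ℕ := bif Nat.blt j 251 then E_250 else E_251
def eT_248_252 (j : ℕ) : ℕ := bif Nat.blt j 250 then (eT_248_250 j) else (eT_250_252 j)
def eT_245_252 (j : ℕ) : ℕ := bif Nat.blt j 248 then (eT_245_248 j) else (eT_248_252 j)
def eT_238_252 (j : ℕ) : ℕ := bif Nat.blt j 245 then (eT_238_245 j) else (eT_245_252 j)
def eT_224_252 (j : ℕ) : ℕ := bif Nat.blt j 238 then (eT_224_238 j) else (eT_238_252 j)
def eT_253_255 (j : ℕ) : ℕ := bif Nat.blt j 254 then E_253 else E_254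
def eT_252_255 (j : ℕ) : ℕ := bif Nat.blt j 253 then E_252 else (eT_253_255 j)
def eT_255_257 (j : ℕ) : ℕ := bif Nat.blt j 256 then E_255 else E_256
def eT_257_259 (j : ℕ) : ℕ := bif Nat.blt j 258 then E_257 else E_258
def eT_255_259 (j : ℕ) : ℕ := bif Nat.blt j 257 then (eT_255_257 j) else (eT_257_259 j)
def eT_252_259 (j : ℕ) : ℕ := bif Nat.blt j 255 then (eT_252_255 j) else (eT_255_259 j)
def eT_260_262 (j : ℕ) : ℕ := bif Nat.blt j 261 then E_260 else E_261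
def eT_259_262 (j : ℕ) : ℕ := bif Nat.blt j 260 then E_259 else (eT_260_262 j)
def eT_262_264 (j : ℕ) : ℕ := bif Nat.blt j 263 then E_262 else E_263
def eT_264_266 (j : ℕ) : ℕ := bif Nat.blt j 265 then E_264 else E_265
def eT_262_266 (j : ℕ) : ℕ := bif Nat.blt j 264 then (eT_262_264 j) else (eT_264_266 j)
def eT_259_266 (j : ℕ) : ℕ := bif Nat.blt j 262 then (eT_259_262 j) else (eT_262_266 j)
def eT_252_266 (j : ℕ) : ℕ := bif Nat.blt j 259 then (eT_252_259 j) else (eT_259_266 j)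
def eT_267_269 (j : ℕ) : ℕ := bif Nat.blt j 268 then E_267 else E_268
def eT_266_269 (j : ℕ) : ℕ := bif Nat.blt j 267 then E_266 else (eT_267_269 j)
def eT_269_271 (j : ℕ) : ℕ := bif Nat.blt j 270 then E_269 else E_270
def eT_271_273 (j : ℕ) : ℕ := bif Nat.blt j 272 then E_271 else E_272
def eT_269_273 (j : ℕ) : ℕ := bif Nat.blt j 271 then (eT_269_271 j) else (eT_271_273 j)
def eT_266_273 (j : ℕ) : ℕ := bif Nat.blt j 269 then (eT_266_269 j) else (eT_269_273 j)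
def eT_274_276 (j : ℕ) : ℕ := bif Nat.blt j 275 then E_274 else E_275
def eT_273_276 (j : ℕ) : ℕ := bif Nat.blt j 274 then E_273 else (eT_274_276 j)
def eT_276_278 (j : ℕ) : ℕ := bif Nat.blt j 277 then E_276 else E_277
def eT_278_280 (j : ℕ) : ℕ := bif Nat.blt j 279 then E_278 else E_279
def eT_276_280 (j : ℕ) : ℕ := bif Nat.blt j 278 then (eT_276_278 j) else (eT_278_280 j)
def eT_273_280 (j : ℕ) : ℕ := bif Nat.blt j 276 then (eT_273_276 j) else (eT_276_280 j)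
def eT_266_280 (j : ℕ) : ℕ := bif Nat.blt j 273 then (eT_266_273 j) else (eT_273_280 j)
def eT_252_280 (j : ℕ) : ℕ := bif Nat.blt j 266 then (eT_252_266 j) else (eT_266_280 j)
def eT_224_280 (j : ℕ) : ℕ := bif Nat.blt j 252 then (eT_224_252 j) else (eT_252_280 j)
def eT_281_283 (j : ℕ) : ℕ := bif Nat.blt j 282 then E_281 else E_282
def eT_280_283 (j : ℕ) : ℕ := bif Nat.blt j 281 then E_280 else (eT_281_283 j)
def eT_283_285 (j : ℕ) : ℕ := bif Nat.blt j 284 then E_283 else E_284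
def eT_285_287 (j : ℕ) : ℕ := bif Nat.blt j 286 then E_285 else E_286
def eT_283_287 (j : ℕ) : ℕ := bif Nat.blt j 285 then (eT_283_285 j) else (eT_285_287 j)
def eT_280_287 (j : ℕ) : ℕ := bif Nat.blt j 283 then (eT_280_283 j) else (eT_283_287 j)
def eT_288_290 (j : ℕ) : ℕ := bif Nat.blt j 289 then E_288 else E_289
def eT_287_290 (j : ℕ) : ℕ := bif Nat.blt j 288 then E_287 else (eT_288_290 j)
def eT_290_292 (j : ℕ) : ℕ := bif Nat.blt j 291 then E_290 else E_291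
def eT_292_294 (j : ℕ) : ℕ := bif Nat.blt j 293 then E_292 else E_293
def eT_290_294 (j : ℕ) : ℕ := bif Nat.blt j 292 then (eT_290_292 j) else (eT_292_294 j)
def eT_287_294 (j : ℕ) : ℕ := bif Nat.blt j 290 then (eT_287_290 j) else (eT_290_294 j)
def eT_280_294 (j : ℕ) : ℕ := bif Nat.blt j 287 then (eT_280_287 j) else (eT_287_294 j)
def eT_295_297 (j : ℕ) : ℕ := bif Nat.blt j 296 then E_295 else E_296
def eT_294_297 (j : ℕ) : ℕ := bif Nat.blt j 295 then E_294 else (eT_295_297 j)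
def eT_297_299 (j : ℕ) : ℕ := bif Nat.blt j 298 then E_297 else E_298
def eT_299_301 (j : ℕ) : ℕ := bif Nat.blt j 300 then E_299 else E_300
def eT_297_301 (j : ℕ) : ℕ := bif Nat.blt j 299 then (eT_297_299 j) else (eT_299_301 j)
def eT_294_301 (j : ℕ) : ℕ := bif Nat.blt j 297 then (eT_294_297 j) else (eT_297_301 j)
def eT_302_304 (j : ℕ) : ℕ := bif Nat.blt j 303 then E_302 else E_303
def eT_301_304 (j : ℕ) : ℕ := bif Nat.blt j 302 then E_301 else (eT_302_304 j)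
def eT_304_306 (j : ℕ) : ℕ := bif Nat.blt j 305 then E_304 else E_305
def eT_306_308 (j : ℕ) : ℕ := bif Nat.blt j 307 then E_306 else E_307
def eT_304_308 (j : ℕ) : ℕ := bif Nat.blt j 306 then (eT_304_306 j) else (eT_306_308 j)
def eT_301_308 (j : ℕ) : ℕ := bif Nat.blt j 304 then (eT_301_304 j) else (eT_304_308 j)
def eT_294_308 (j : ℕ) : ℕ := bif Nat.blt j 301 then (eT_294_301 j) else (eT_301_308 j)
def eT_280_308 (j : ℕ) : ℕ := bif Nat.blt j 294 then (eT_280_294 j) else (eT_294_308 j)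
def eT_309_311 (j : ℕ) : ℕ := bif Nat.blt j 310 then E_309 else E_310
def eT_308_311 (j : ℕ) : ℕ := bif Nat.blt j 309 then E_308 else (eT_309_311 j)
def eT_311_313 (j : ℕ) : ℕ := bif Nat.blt j 312 then E_311 else E_312
def eT_313_315 (j : ℕ) : ℕ := bif Nat.blt j 314 then E_313 else E_314
def eT_311_315 (j : ℕ) : ℕ := bif Nat.blt j 313 then (eT_311_313 j) else (eT_313_315 j)
def eT_308_315 (j : ℕ) : ℕ := bif Nat.blt j 311 then (eT_308_311 j) else (eT_311_315 j)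
def eT_316_318 (j : ℕ) : ℕ := bif Nat.blt j 317 then E_316 else E_317
def eT_315_318 (j : ℕ) : ℕ := bif Nat.blt j 316 then E_315 else (eT_316_318 j)
def eT_318_320 (j : ℕ) : ℕ := bif Nat.blt j 319 then E_318 else E_319
def eT_320_322 (j : ℕ) : ℕ := bif Nat.blt j 321 then E_320 else E_321
def eT_318_322 (j : ℕ) : ℕ := bif Nat.blt j 320 then (eT_318_320 j) else (eT_320_322 j)
def eT_315_322 (j : ℕ) : ℕ := bif Nat.blt j 318 then (eT_315_318 j) else (eT_318_322 j)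
def eT_308_322 (j : ℕ) : ℕ := bif Nat.blt j 315 then (eT_308_315 j) else (eT_315_322 j)
def eT_323_325 (j : ℕ) : ℕ := bif Nat.blt j 324 then E_323 else E_324
def eT_322_325 (j : ℕ) : ℕ := bif Nat.blt j 323 then E_322 else (eT_323_325 j)
def eT_325_327 (j : ℕ) : ℕ := bif Nat.blt j 326 then E_325 else E_326
def eT_327_329 (j : ℕ) : ℕ := bif Nat.blt j 328 then E_327 else E_328
def eT_325_329 (j : ℕ) : ℕ := bif Nat.blt j 327 then (eT_325_327 j) else (eT_327_329 j)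
def eT_322_329 (j : ℕ) : ℕ := bif Nat.blt j 325 then (eT_322_325 j) else (eT_325_329 j)
def eT_330_332 (j : ℕ) : ℕ := bif Nat.blt j 331 then E_330 else E_331
def eT_329_332 (j : ℕ) : ℕ := bif Nat.blt j 330 then E_329 else (eT_330_332 j)
def eT_332_334 (j : ℕ) : ℕ := bif Nat.blt j 333 then E_332 else E_333
def eT_334_336 (j : ℕ) : ℕ := bif Nat.blt j 335 then E_334 else E_335
def eT_332_336 (j : ℕ) : ℕ := bif Nat.blt j 334 then (eT_332_334 j) else (eT_334_336 j)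
def eT_329_336 (j : ℕ) : ℕ := bif Nat.blt j 332 then (eT_329_332 j) else (eT_332_336 j)
def eT_322_336 (j : ℕ) : ℕ := bif Nat.blt j 329 then (eT_322_329 j) else (eT_329_336 j)
def eT_308_336 (j : ℕ) : ℕ := bif Nat.blt j 322 then (eT_308_322 j) else (eT_322_336 j)
def eT_280_336 (j : ℕ) : ℕ := bif Nat.blt j 308 then (eT_280_308 j) else (eT_308_336 j)
def eT_224_336 (j : ℕ) : ℕ := bif Nat.blt j 280 then (eT_224_280 j) else (eT_280_336 j)
def eT_337_339 (j : ℕ) : ℕ := bif Nat.blt j 338 then E_337 else E_338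
def eT_336_339 (j : ℕ) : ℕ := bif Nat.blt j 337 then E_336 else (eT_337_339 j)
def eT_339_341 (j : ℕ) : ℕ := bif Nat.blt j 340 then E_339 else E_340
def eT_341_343 (j : ℕ) : ℕ := bif Nat.blt j 342 then E_341 else E_342
def eT_339_343 (j : ℕ) : ℕ := bif Nat.blt j 341 then (eT_339_341 j) else (eT_341_343 j)
def eT_336_343 (j : ℕ) : ℕ := bif Nat.blt j 339 then (eT_336_339 j) else (eT_339_343 j)
def eT_344_346 (j : ℕ) : ℕ := bif Nat.blt j 345 then E_344 else E_345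
def eT_343_346 (j : ℕ) : ℕ := bif Nat.blt j 344 then E_343 else (eT_344_346 j)
def eT_346_348 (j : ℕ) : ℕ := bif Nat.blt j 347 then E_346 else E_347
def eT_348_350 (j : ℕ) : ℕ := bif Nat.blt j 349 then E_348 else E_349
def eT_346_350 (j : ℕ) : ℕ := bif Nat.blt j 348 then (eT_346_348 j) else (eT_348_350 j)
def eT_343_350 (j : ℕ) : ℕ := bif Nat.blt j 346 then (eT_343_346 j) else (eT_346_350 j)
def eT_336_350 (j : ℕ) : ℕ := bif Nat.blt j 343 then (eT_336_343 j) else (eT_343_350 j)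
def eT_351_353 (j : ℕ) : ℕ := bif Nat.blt j 352 then E_351 else E_352
def eT_350_353 (j : ℕ) : ℕ := bif Nat.blt j 351 then E_350 else (eT_351_353 j)
def eT_353_355 (j : ℕ) : ℕ := bif Nat.blt j 354 then E_353 else E_354
def eT_355_357 (j : ℕ) : ℕ := bif Nat.blt j 356 then E_355 else E_356
def eT_353_357 (j : ℕ) : ℕ := bif Nat.blt j 355 then (eT_353_355 j) else (eT_355_357 j)
def eT_350_357 (j : ℕ) : ℕ := bif Nat.blt j 353 then (eT_350_353 j) else (eT_353_357 j)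
def eT_358_360 (j : ℕ) : ℕ := bif Nat.blt j 359 then E_358 else E_359
def eT_357_360 (j : ℕ) : ℕ := bif Nat.blt j 358 then E_357 else (eT_358_360 j)
def eT_360_362 (j : ℕ) : ℕ := bif Nat.blt j 361 then E_360 else E_361
def eT_362_364 (j : ℕ) : ℕ := bif Nat.blt j 363 then E_362 else E_363
def eT_360_364 (j : ℕ) : ℕ := bif Nat.blt j 362 then (eT_360_362 j) else (eT_362_364 j)
def eT_357_364 (j : ℕ) : ℕ := bif Nat.blt j 360 then (eT_357_360 j) else (eT_360_364 j)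
def eT_350_364 (j : ℕ) : ℕ := bif Nat.blt j 357 then (eT_350_357 j) else (eT_357_364 j)
def eT_336_364 (j : ℕ) : ℕ := bif Nat.blt j 350 then (eT_336_350 j) else (eT_350_364 j)
def eT_365_367 (j : ℕ) : ℕ := bif Nat.blt j 366 then E_365 else E_366
def eT_364_367 (j : ℕ) : ℕ := bif Nat.blt j 365 then E_364 else (eT_365_367 j)
def eT_367_369 (j : ℕ) : ℕ := bif Nat.blt j 368 then E_367 else E_368
def eT_369_371 (j : ℕ) : ℕ := bif Nat.blt j 370 then E_369 else E_370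
def eT_367_371 (j : ℕ) : ℕ := bif Nat.blt j 369 then (eT_367_369 j) else (eT_369_371 j)
def eT_364_371 (j : ℕ) : ℕ := bif Nat.blt j 367 then (eT_364_367 j) else (eT_367_371 j)
def eT_372_374 (j : ℕ) : ℕ := bif Nat.blt j 373 then E_372 else E_373
def eT_371_374 (j : ℕ) : ℕ := bif Nat.blt j 372 then E_371 else (eT_372_374 j)
def eT_374_376 (j : ℕ) : ℕ := bif Nat.blt j 375 then E_374 else E_375
def eT_376_378 (j : ℕ) : ℕ := bif Nat.blt j 377 then E_376 else E_377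
def eT_374_378 (j : ℕ) : ℕ := bif Nat.blt j 376 then (eT_374_376 j) else (eT_376_378 j)
def eT_371_378 (j : ℕ) : ℕ := bif Nat.blt j 374 then (eT_371_374 j) else (eT_374_378 j)
def eT_364_378 (j : ℕ) : ℕ := bif Nat.blt j 371 then (eT_364_371 j) else (eT_371_378 j)
def eT_379_381 (j : ℕ) : ℕ := bif Nat.blt j 380 then E_379 else E_380
def eT_378_381 (j : ℕ) : ℕ := bif Nat.blt j 379 then E_378 else (eT_379_381 j)
def eT_381_383 (j : ℕ) : ℕ := bif Nat.blt j 382 then E_381 else E_382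
def eT_383_385 (j : ℕ) : ℕ := bif Nat.blt j 384 then E_383 else E_384
def eT_381_385 (j : ℕ) : ℕ := bif Nat.blt j 383 then (eT_381_383 j) else (eT_383_385 j)
def eT_378_385 (j : ℕ) : ℕ := bif Nat.blt j 381 then (eT_378_381 j) else (eT_381_385 j)
def eT_386_388 (j : ℕ) : ℕ := bif Nat.blt j 387 then E_386 else E_387
def eT_385_388 (j : ℕ) : ℕ := bif Nat.blt j 386 then E_385 else (eT_386_388 j)
def eT_388_390 (j : ℕ) : ℕ := bif Nat.blt j 389 then E_388 else E_389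
def eT_390_392 (j : ℕ) : ℕ := bif Nat.blt j 391 then E_390 else E_391
def eT_388_392 (j : ℕ) : ℕ := bif Nat.blt j 390 then (eT_388_390 j) else (eT_390_392 j)
def eT_385_392 (j : ℕ) : ℕ := bif Nat.blt j 388 then (eT_385_388 j) else (eT_388_392 j)
def eT_378_392 (j : ℕ) : ℕ := bif Nat.blt j 385 then (eT_378_385 j) else (eT_385_392 j)
def eT_364_392 (j : ℕ) : ℕ := bif Nat.blt j 378 then (eT_364_378 j) else (eT_378_392 j)
def eT_336_392 (j : ℕ) : ℕ := bif Nat.blt j 364 then (eT_336_364 j) else (eT_364_392 j)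
def eT_393_395 (j : ℕ) : ℕ := bif Nat.blt j 394 then E_393 else E_394
def eT_392_395 (j : ℕ) : ℕ := bif Nat.blt j 393 then E_392 else (eT_393_395 j)
def eT_395_397 (j : ℕ) : ℕ := bif Nat.blt j 396 then E_395 else E_396
def eT_397_399 (j : ℕ) : ℕ := bif Nat.blt j 398 then E_397 else E_398
def eT_395_399 (j : ℕ) : ℕ := bif Nat.blt j 397 then (eT_395_397 j) else (eT_397_399 j)
def eT_392_399 (j : ℕ) : ℕ := bif Nat.blt j 395 then (eT_392_395 j) else (eT_395_399 j)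
def eT_400_402 (j : ℕ) : ℕ := bif Nat.blt j 401 then E_400 else E_401
def eT_399_402 (j : ℕ) : ℕ := bif Nat.blt j 400 then E_399 else (eT_400_402 j)
def eT_402_404 (j : ℕ) : ℕ := bif Nat.blt j 403 then E_402 else E_403
def eT_404_406 (j : ℕ) : ℕ := bif Nat.blt j 405 then E_404 else E_405
def eT_402_406 (j : ℕ) : ℕ := bif Nat.blt j 404 then (eT_402_404 j) else (eT_404_406 j)
def eT_399_406 (j : ℕ) : ℕ := bif Nat.blt j 402 then (eT_399_402 j) else (eT_402_406 j)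
def eT_392_406 (j : ℕ) : ℕ := bif Nat.blt j 399 then (eT_392_399 j) else (eT_399_406 j)
def eT_407_409 (j : ℕ) : ℕ := bif Nat.blt j 408 then E_407 else E_408
def eT_406_409 (j : ℕ) : ℕ := bif Nat.blt j 407 then E_406 else (eT_407_409 j)
def eT_409_411 (j : ℕ) : ℕ := bif Nat.blt j 410 then E_409 else E_410
def eT_411_413 (j : ℕ) : ℕ := bif Nat.blt j 412 then E_411 else E_412
def eT_409_413 (j : ℕ) : ℕ := bif Nat.blt j 411 then (eT_409_411 j) else (eT_411_413 j)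
def eT_406_413 (j : ℕ) : ℕ := bif Nat.blt j 409 then (eT_406_409 j) else (eT_409_413 j)
def eT_414_416 (j : ℕ) : ℕ := bif Nat.blt j 415 then E_414 else E_415
def eT_413_416 (j : ℕ) : ℕ := bif Nat.blt j 414 then E_413 else (eT_414_416 j)
def eT_416_418 (j : ℕ) : ℕ := bif Nat.blt j 417 then E_416 else E_417
def eT_418_420 (j : ℕ) : ℕ := bif Nat.blt j 419 then E_418 else E_419
def eT_416_420 (j : ℕ) : ℕ := bif Nat.blt j 418 then (eT_416_418 j) else (eT_418_420 j)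
def eT_413_420 (j : ℕ) : ℕ := bif Nat.blt j 416 then (eT_413_416 j) else (eT_416_420 j)
def eT_406_420 (j : ℕ) : ℕ := bif Nat.blt j 413 then (eT_406_413 j) else (eT_413_420 j)
def eT_392_420 (j : ℕ) : ℕ := bif Nat.blt j 406 then (eT_392_406 j) else (eT_406_420 j)
def eT_421_423 (j : ℕ) : ℕ := bif Nat.blt j 422 then E_421 else E_422
def eT_420_423 (j : ℕ) : ℕ := bif Nat.blt j 421 then E_420 else (eT_421_423 j)
def eT_423_425 (j : ℕ) : ℕ := bif Nat.blt j 424 then E_423 else E_424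
def eT_425_427 (j : ℕ) : ℕ := bif Nat.blt j 426 then E_425 else E_426
def eT_423_427 (j : ℕ) : ℕ := bif Nat.blt j 425 then (eT_423_425 j) else (eT_425_427 j)
def eT_420_427 (j : ℕ) : ℕ := bif Nat.blt j 423 then (eT_420_423 j) else (eT_423_427 j)
def eT_428_430 (j : ℕ) : ℕ := bif Nat.blt j 429 then E_428 else E_429
def eT_427_430 (j : ℕ) : ℕ := bif Nat.blt j 428 then E_427 else (eT_428_430 j)
def eT_430_432 (j : ℕ) : ℕ := bif Nat.blt j 431 then E_430 else E_431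
def eT_432_434 (j : ℕ) : ℕ := bif Nat.blt j 433 then E_432 else E_433
def eT_430_434 (j : ℕ) : ℕ := bif Nat.blt j 432 then (eT_430_432 j) else (eT_432_434 j)
def eT_427_434 (j : ℕ) : ℕ := bif Nat.blt j 430 then (eT_427_430 j) else (eT_430_434 j)
def eT_420_434 (j : ℕ) : ℕ := bif Nat.blt j 427 then (eT_420_427 j) else (eT_427_434 j)
def eT_435_437 (j : ℕ) : ℕ := bif Nat.blt j 436 then E_435 else E_436
def eT_434_437 (j : ℕ) : ℕ := bif Nat.blt j 435 then E_434 else (eT_435_437 j)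
def eT_437_439 (j : ℕ) : ℕ := bif Nat.blt j 438 then E_437 else E_438
def eT_439_441 (j : ℕ) : ℕ := bif Nat.blt j 440 then E_439 else E_440
def eT_437_441 (j : ℕ) : ℕ := bif Nat.blt j 439 then (eT_437_439 j) else (eT_439_441 j)
def eT_434_441 (j : ℕ) : ℕ := bif Nat.blt j 437 then (eT_434_437 j) else (eT_437_441 j)
def eT_441_443 (j : ℕ) : ℕ := bif Nat.blt j 442 then E_441 else E_442
def eT_443_445 (j : ℕ) : ℕ := bif Nat.blt j 444 then E_443 else E_444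
def eT_441_445 (j : ℕ) : ℕ := bif Nat.blt j 443 then (eT_441_443 j) else (eT_443_445 j)
def eT_445_447 (j : ℕ) : ℕ := bif Nat.blt j 446 then E_445 else E_446
def eT_447_449 (j : ℕ) : ℕ := bif Nat.blt j 448 then E_447 else E_448
def eT_445_449 (j : ℕ) : ℕ := bif Nat.blt j 447 then (eT_445_447 j) else (eT_447_449 j)
def eT_441_449 (j : ℕ) : ℕ := bif Nat.blt j 445 then (eT_441_445 j) else (eT_445_449 j)
def eT_434_449 (j : ℕ) : ℕ := bif Nat.blt j 441 then (eT_434_441 j) else (eT_441_449 j)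
def eT_420_449 (j : ℕ) : ℕ := bif Nat.blt j 434 then (eT_420_434 j) else (eT_434_449 j)
def eT_392_449 (j : ℕ) : ℕ := bif Nat.blt j 420 then (eT_392_420 j) else (eT_420_449 j)
def eT_336_449 (j : ℕ) : ℕ := bif Nat.blt j 392 then (eT_336_392 j) else (eT_392_449 j)
def eT_224_449 (j : ℕ) : ℕ := bif Nat.blt j 336 then (eT_224_336 j) else (eT_336_449 j)
def eT_0_449 (j : ℕ) : ℕ := bif Nat.blt j 224 then (eT_0_224 j) else (eT_224_449 j)
def eT (j : ℕ) : ℕ := (eT_0_449 j)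
noncomputable def chunkF (h : ℕ) : ℕ := Nat.rec (motive := fun _ => ℕ) (eT 0) (fun n _ => eT (Nat.succ n)) h
noncomputable def Eo (r : ℕ) : ℕ := Nat.land (Nat.shiftRight (chunkF (Nat.shiftRight r 8)) (Nat.mul (Nat.land r 255) 54)) 18014398509481983
def invT : ℕ := 0xffef7cefae78df6d74cf2c70beeb6caeaa689e69648e28607de75c6da6585d65544d24503ce34c2ca2481871440c2040
def inv (y : ℕ) : ℕ := invOf invT y
def Wt_0_2 (j : ℕ) : List ℕ := bif Nat.blt j 1 then [nat_lit 0, nat_lit 2, nat_lit 0, nat_lit 2] else [nat_lit 2, nat_lit 3, nat_lit 2, nat_lit 3]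
def Wt_3_5 (j : ℕ) : List ℕ := bif Nat.blt j 4 then [nat_lit 3, nat_lit 4, nat_lit 1, nat_lit 2, nat_lit 4, nat_lit 3, nat_lit 1, nat_lit 3, nat_lit 1, nat_lit 3, nat_lit 1, nat_lit 3, nat_lit 4, nat_lit 2, nat_lit 1, nat_lit 4] else [nat_lit 2, nat_lit 0, nat_lit 2, nat_lit 0]
def Wt_2_5 (j : ℕ) : List ℕ := bif Nat.blt j 3 then [nat_lit 1, nat_lit 0, nat_lit 3, nat_lit 1, nat_lit 4, nat_lit 1, nat_lit 3, nat_lit 0, nat_lit 1, nat_lit 0, nat_lit 3, nat_lit 1, nat_lit 4, nat_lit 1, nat_lit 3, nat_lit 0] else (Wt_3_5 j)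
def Wt_0_5 (j : ℕ) : List ℕ := bif Nat.blt j 2 then (Wt_0_2 j) else (Wt_2_5 j)
def Wt_6_8 (j : ℕ) : List ℕ := bif Nat.blt j 7 then [nat_lit 1, nat_lit 2, nat_lit 1, nat_lit 2, nat_lit 1, nat_lit 2, nat_lit 1, nat_lit 2] else [nat_lit 0, nat_lit 1, nat_lit 2, nat_lit 1, nat_lit 0, nat_lit 2, nat_lit 0, nat_lit 1, nat_lit 2, nat_lit 1, nat_lit 0, nat_lit 2]
def Wt_5_8 (j : ℕ) : List ℕ := bif Nat.blt j 6 then [nat_lit 3, nat_lit 4, nat_lit 1, nat_lit 0, nat_lit 4, nat_lit 1, nat_lit 0, nat_lit 2, nat_lit 1, nat_lit 0, nat_lit 1, nat_lit 3, nat_lit 4, nat_lit 0, nat_lit 1, nat_lit 4, nat_lit 1] else (Wt_6_8 j)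
def Wt_9_11 (j : ℕ) : List ℕ := bif Nat.blt j 10 then [nat_lit 2, nat_lit 4, nat_lit 2, nat_lit 4, nat_lit 2, nat_lit 4, nat_lit 2, nat_lit 4, nat_lit 2, nat_lit 4, nat_lit 2, nat_lit 4] else [nat_lit 2, nat_lit 4, nat_lit 3, nat_lit 4, nat_lit 2, nat_lit 4, nat_lit 1, nat_lit 2, nat_lit 1, nat_lit 3, nat_lit 0, nat_lit 3, nat_lit 4, nat_lit 3, nat_lit 4, nat_lit 2, nat_lit 4]
def Wt_8_11 (j : ℕ) : List ℕ := bif Nat.blt j 9 then [nat_lit 3, nat_lit 2, nat_lit 3, nat_lit 2] else (Wt_9_11 j)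
def Wt_5_11 (j : ℕ) : List ℕ := bif Nat.blt j 8 then (Wt_5_8 j) else (Wt_8_11 j)
def Wt_0_11 (j : ℕ) : List ℕ := bif Nat.blt j 5 then (Wt_0_5 j) else (Wt_5_11 j)
def Wt_12_14 (j : ℕ) : List ℕ := bif Nat.blt j 13 then [nat_lit 63, nat_lit 2, nat_lit 63, nat_lit 2] else [nat_lit 63, nat_lit 3, nat_lit 63, nat_lit 3]
def Wt_11_14 (j : ℕ) : List ℕ := bif Nat.blt j 12 then [nat_lit 63, nat_lit 1, nat_lit 2, nat_lit 1, nat_lit 4, nat_lit 2, nat_lit 4, nat_lit 3, nat_lit 4, nat_lit 2, nat_lit 4, nat_lit 2, nat_lit 4, nat_lit 3, nat_lit 4, nat_lit 3, nat_lit 0, nat_lit 3] else (Wt_12_14 j)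
def Wt_15_17 (j : ℕ) : List ℕ := bif Nat.blt j 16 then [nat_lit 2, nat_lit 2, nat_lit 63] else [nat_lit 3, nat_lit 3, nat_lit 63]
def Wt_14_17 (j : ℕ) : List ℕ := bif Nat.blt j 15 then [nat_lit 63, nat_lit 1, nat_lit 63, nat_lit 1] else (Wt_15_17 j)
def Wt_11_17 (j : ℕ) : List ℕ := bif Nat.blt j 14 then (Wt_11_14 j) else (Wt_14_17 j)
def Wt_18_20 (j : ℕ) : List ℕ := bif Nat.blt j 19 then [nat_lit 2, nat_lit 0, nat_lit 1, nat_lit 2, nat_lit 1, nat_lit 0, nat_lit 2, nat_lit 0, nat_lit 1, nat_lit 2, nat_lit 1, nat_lit 0] else [nat_lit 3, nat_lit 4, nat_lit 2, nat_lit 4, nat_lit 1, nat_lit 2, nat_lit 1, nat_lit 3, nat_lit 0, nat_lit 3, nat_lit 4, nat_lit 3, nat_lit 4, nat_lit 2, nat_lit 4, nat_lit 2, nat_lit 4]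
def Wt_17_20 (j : ℕ) : List ℕ := bif Nat.blt j 18 then [nat_lit 1, nat_lit 1, nat_lit 63] else (Wt_18_20 j)
def Wt_21_23 (j : ℕ) : List ℕ := bif Nat.blt j 22 then [nat_lit 4, nat_lit 2, nat_lit 0, nat_lit 4, nat_lit 0, nat_lit 2, nat_lit 4, nat_lit 0, nat_lit 2, nat_lit 4, nat_lit 3, nat_lit 2, nat_lit 3, nat_lit 0, nat_lit 4, nat_lit 2, nat_lit 0] else [nat_lit 2, nat_lit 3, nat_lit 4, nat_lit 2, nat_lit 0, nat_lit 4, nat_lit 2, nat_lit 0, nat_lit 4, nat_lit 0, nat_lit 2, nat_lit 4, nat_lit 0, nat_lit 2, nat_lit 4, nat_lit 0, nat_lit 3]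
def Wt_20_23 (j : ℕ) : List ℕ := bif Nat.blt j 21 then [nat_lit 4, nat_lit 3, nat_lit 2, nat_lit 4, nat_lit 3, nat_lit 4, nat_lit 0, nat_lit 1, nat_lit 3, nat_lit 2, nat_lit 1, nat_lit 4, nat_lit 0, nat_lit 1, nat_lit 0, nat_lit 4, nat_lit 1] else (Wt_21_23 j)
def Wt_17_23 (j : ℕ) : List ℕ := bif Nat.blt j 20 then (Wt_17_20 j) else (Wt_20_23 j)
def Wt_11_23 (j : ℕ) : List ℕ := bif Nat.blt j 17 then (Wt_11_17 j) else (Wt_17_23 j)
def Wt_0_23 (j : ℕ) : List ℕ := bif Nat.blt j 11 then (Wt_0_11 j) else (Wt_11_23 j)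
def Wt_24_26 (j : ℕ) : List ℕ := bif Nat.blt j 25 then [nat_lit 0, nat_lit 4, nat_lit 1, nat_lit 4, nat_lit 2, nat_lit 1, nat_lit 4, nat_lit 1, nat_lit 4, nat_lit 3, nat_lit 2, nat_lit 0, nat_lit 3, nat_lit 1, nat_lit 4, nat_lit 1, nat_lit 4] else [nat_lit 1, nat_lit 4, nat_lit 0, nat_lit 2, nat_lit 4, nat_lit 1, nat_lit 4, nat_lit 2, nat_lit 0, nat_lit 4, nat_lit 1, nat_lit 4, nat_lit 2, nat_lit 0, nat_lit 4]
def Wt_23_26 (j : ℕ) : List ℕ := bif Nat.blt j 24 then [nat_lit 3, nat_lit 2, nat_lit 0, nat_lit 1, nat_lit 2, nat_lit 0, nat_lit 3, nat_lit 2, nat_lit 0, nat_lit 1, nat_lit 2, nat_lit 0, nat_lit 3, nat_lit 2, nat_lit 0, nat_lit 1, nat_lit 2, nat_lit 0] else (Wt_24_26 j)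
def Wt_27_29 (j : ℕ) : List ℕ := bif Nat.blt j 28 then [nat_lit 1, nat_lit 4, nat_lit 1, nat_lit 2, nat_lit 4, nat_lit 1, nat_lit 4, nat_lit 2, nat_lit 0, nat_lit 2, nat_lit 4, nat_lit 1, nat_lit 4, nat_lit 2, nat_lit 1, nat_lit 4] else [nat_lit 2, nat_lit 0, nat_lit 3, nat_lit 1, nat_lit 4, nat_lit 1, nat_lit 4, nat_lit 0, nat_lit 4, nat_lit 1, nat_lit 4, nat_lit 2, nat_lit 1, nat_lit 4, nat_lit 1, nat_lit 4, nat_lit 3]
def Wt_26_29 (j : ℕ) : List ℕ := bif Nat.blt j 27 then [nat_lit 4, nat_lit 2, nat_lit 1, nat_lit 4, nat_lit 1, nat_lit 4, nat_lit 1, nat_lit 2, nat_lit 4, nat_lit 1, nat_lit 4, nat_lit 2, nat_lit 0, nat_lit 2, nat_lit 4, nat_lit 1] else (Wt_27_29 j)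
def Wt_23_29 (j : ℕ) : List ℕ := bif Nat.blt j 26 then (Wt_23_26 j) else (Wt_26_29 j)
def Wt_30_32 (j : ℕ) : List ℕ := bif Nat.blt j 31 then [nat_lit 1, nat_lit 2, nat_lit 3, nat_lit 0, nat_lit 3, nat_lit 1, nat_lit 2, nat_lit 3, nat_lit 0, nat_lit 3, nat_lit 1, nat_lit 2, nat_lit 3, nat_lit 0, nat_lit 3, nat_lit 1, nat_lit 2, nat_lit 3, nat_lit 0, nat_lit 3] else [nat_lit 1, nat_lit 2, nat_lit 4, nat_lit 1, nat_lit 4, nat_lit 2, nat_lit 0, nat_lit 2, nat_lit 4, nat_lit 1, nat_lit 4, nat_lit 2, nat_lit 1, nat_lit 4, nat_lit 1, nat_lit 4]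
def Wt_29_32 (j : ℕ) : List ℕ := bif Nat.blt j 30 then [nat_lit 3, nat_lit 1, nat_lit 4, nat_lit 1, nat_lit 4, nat_lit 0, nat_lit 4, nat_lit 1, nat_lit 4, nat_lit 2, nat_lit 1, nat_lit 4, nat_lit 1, nat_lit 4, nat_lit 3, nat_lit 2, nat_lit 0] else (Wt_30_32 j)
def Wt_33_35 (j : ℕ) : List ℕ := bif Nat.blt j 34 then [nat_lit 63, nat_lit 0, nat_lit 63, nat_lit 0] else [nat_lit 0, nat_lit 0, nat_lit 63]
def Wt_32_35 (j : ℕ) : List ℕ := bif Nat.blt j 33 then [nat_lit 63, nat_lit 4, nat_lit 1, nat_lit 4, nat_lit 1, nat_lit 2, nat_lit 4, nat_lit 1, nat_lit 4, nat_lit 0, nat_lit 4, nat_lit 1, nat_lit 4, nat_lit 1, nat_lit 3, nat_lit 0, nat_lit 2, nat_lit 3] else (Wt_33_35 j)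
def Wt_29_35 (j : ℕ) : List ℕ := bif Nat.blt j 32 then (Wt_29_32 j) else (Wt_32_35 j)
def Wt_23_35 (j : ℕ) : List ℕ := bif Nat.blt j 29 then (Wt_23_29 j) else (Wt_29_35 j)
def Wt_36_38 (j : ℕ) : List ℕ := bif Nat.blt j 37 then [nat_lit 1, nat_lit 4, nat_lit 2, nat_lit 4, nat_lit 3, nat_lit 2, nat_lit 4, nat_lit 1, nat_lit 3, nat_lit 0, nat_lit 3, nat_lit 4, nat_lit 2, nat_lit 3, nat_lit 4, nat_lit 2, nat_lit 4] else [nat_lit 3, nat_lit 1, nat_lit 2, nat_lit 1, nat_lit 4, nat_lit 2, nat_lit 4, nat_lit 3, nat_lit 4, nat_lit 2, nat_lit 4, nat_lit 2, nat_lit 4, nat_lit 3, nat_lit 4, nat_lit 3, nat_lit 0]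
def Wt_35_38 (j : ℕ) : List ℕ := bif Nat.blt j 36 then [nat_lit 2, nat_lit 1, nat_lit 0, nat_lit 2, nat_lit 0, nat_lit 1, nat_lit 2, nat_lit 1, nat_lit 0, nat_lit 2, nat_lit 0, nat_lit 1] else (Wt_36_38 j)
def Wt_39_41 (j : ℕ) : List ℕ := bif Nat.blt j 40 then [nat_lit 1, nat_lit 2, nat_lit 1, nat_lit 4, nat_lit 2, nat_lit 4, nat_lit 3, nat_lit 4, nat_lit 2, nat_lit 4, nat_lit 2, nat_lit 4, nat_lit 3, nat_lit 4, nat_lit 3, nat_lit 0, nat_lit 3] else [nat_lit 3, nat_lit 1, nat_lit 2, nat_lit 1, nat_lit 4, nat_lit 3, nat_lit 4, nat_lit 2, nat_lit 4, nat_lit 2, nat_lit 4, nat_lit 3, nat_lit 4, nat_lit 2, nat_lit 4, nat_lit 3, nat_lit 0]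
def Wt_38_41 (j : ℕ) : List ℕ := bif Nat.blt j 39 then [nat_lit 2, nat_lit 4, nat_lit 2, nat_lit 4, nat_lit 3, nat_lit 4, nat_lit 1, nat_lit 2, nat_lit 1, nat_lit 3, nat_lit 0, nat_lit 3, nat_lit 4, nat_lit 2, nat_lit 4, nat_lit 3, nat_lit 4] else (Wt_39_41 j)
def Wt_35_41 (j : ℕ) : List ℕ := bif Nat.blt j 38 then (Wt_35_38 j) else (Wt_38_41 j)
def Wt_42_44 (j : ℕ) : List ℕ := bif Nat.blt j 43 then [nat_lit 3, nat_lit 4, nat_lit 3, nat_lit 4, nat_lit 3, nat_lit 4, nat_lit 3, nat_lit 4, nat_lit 3, nat_lit 4, nat_lit 3, nat_lit 4, nat_lit 3, nat_lit 4, nat_lit 3, nat_lit 4] else [nat_lit 1, nat_lit 4, nat_lit 3, nat_lit 4, nat_lit 3, nat_lit 4, nat_lit 3, nat_lit 4, nat_lit 3, nat_lit 1, nat_lit 4, nat_lit 1, nat_lit 4, nat_lit 1, nat_lit 4]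
def Wt_41_44 (j : ℕ) : List ℕ := bif Nat.blt j 42 then [nat_lit 4, nat_lit 1, nat_lit 4, nat_lit 1, nat_lit 4, nat_lit 1, nat_lit 4, nat_lit 1, nat_lit 3, nat_lit 4, nat_lit 3, nat_lit 4, nat_lit 3, nat_lit 4, nat_lit 3] else (Wt_42_44 j)
def Wt_45_47 (j : ℕ) : List ℕ := bif Nat.blt j 46 then [nat_lit 0, nat_lit 2, nat_lit 1, nat_lit 0, nat_lit 1, nat_lit 2, nat_lit 0, nat_lit 2, nat_lit 1, nat_lit 0, nat_lit 1, nat_lit 2, nat_lit 0, nat_lit 2, nat_lit 1, nat_lit 0, nat_lit 1, nat_lit 2] else [nat_lit 2, nat_lit 1, nat_lit 0, nat_lit 1, nat_lit 2, nat_lit 1, nat_lit 0, nat_lit 1, nat_lit 2, nat_lit 1, nat_lit 0, nat_lit 1]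
def Wt_44_47 (j : ℕ) : List ℕ := bif Nat.blt j 45 then [nat_lit 0, nat_lit 1, nat_lit 0, nat_lit 1, nat_lit 0, nat_lit 1, nat_lit 0, nat_lit 1, nat_lit 0, nat_lit 1, nat_lit 0, nat_lit 1] else (Wt_45_47 j)
def Wt_41_47 (j : ℕ) : List ℕ := bif Nat.blt j 44 then (Wt_41_44 j) else (Wt_44_47 j)
def Wt_35_47 (j : ℕ) : List ℕ := bif Nat.blt j 41 then (Wt_35_41 j) else (Wt_41_47 j)
def Wt_23_47 (j : ℕ) : List ℕ := bif Nat.blt j 35 then (Wt_23_35 j) else (Wt_35_47 j)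
def Wt_0_47 (j : ℕ) : List ℕ := bif Nat.blt j 23 then (Wt_0_23 j) else (Wt_23_47 j)
def Wt_48_50 (j : ℕ) : List ℕ := bif Nat.blt j 49 then [nat_lit 2, nat_lit 3, nat_lit 0, nat_lit 4, nat_lit 2, nat_lit 0, nat_lit 4, nat_lit 2, nat_lit 0, nat_lit 4, nat_lit 0, nat_lit 2, nat_lit 4, nat_lit 0, nat_lit 2, nat_lit 4, nat_lit 3] else [nat_lit 2, nat_lit 4, nat_lit 1, nat_lit 4, nat_lit 2, nat_lit 0, nat_lit 4, nat_lit 1, nat_lit 4, nat_lit 2, nat_lit 0, nat_lit 4, nat_lit 1, nat_lit 4, nat_lit 0]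
def Wt_47_50 (j : ℕ) : List ℕ := bif Nat.blt j 48 then [nat_lit 1, nat_lit 0, nat_lit 4, nat_lit 1, nat_lit 2, nat_lit 1, nat_lit 4, nat_lit 1, nat_lit 2, nat_lit 1, nat_lit 4, nat_lit 0, nat_lit 1, nat_lit 4, nat_lit 3, nat_lit 2, nat_lit 4] else (Wt_48_50 j)
def Wt_51_53 (j : ℕ) : List ℕ := bif Nat.blt j 52 then [nat_lit 3, nat_lit 4, nat_lit 3, nat_lit 4, nat_lit 3, nat_lit 4, nat_lit 3, nat_lit 1, nat_lit 4, nat_lit 1, nat_lit 4, nat_lit 1, nat_lit 4, nat_lit 1, nat_lit 4] else [nat_lit 1, nat_lit 2, nat_lit 4, nat_lit 1, nat_lit 3, nat_lit 4, nat_lit 0, nat_lit 4, nat_lit 2, nat_lit 0, nat_lit 4, nat_lit 0, nat_lit 4, nat_lit 3, nat_lit 1, nat_lit 4, nat_lit 2]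
def Wt_50_53 (j : ℕ) : List ℕ := bif Nat.blt j 51 then [nat_lit 4, nat_lit 3, nat_lit 4, nat_lit 2, nat_lit 3, nat_lit 4, nat_lit 3, nat_lit 4, nat_lit 0, nat_lit 3, nat_lit 4, nat_lit 0, nat_lit 3, nat_lit 0, nat_lit 4, nat_lit 3, nat_lit 0] else (Wt_51_53 j)
def Wt_47_53 (j : ℕ) : List ℕ := bif Nat.blt j 50 then (Wt_47_50 j) else (Wt_50_53 j)
def Wt_54_56 (j : ℕ) : List ℕ := bif Nat.blt j 55 then [nat_lit 63, nat_lit 3, nat_lit 0, nat_lit 1, nat_lit 3, nat_lit 2, nat_lit 3, nat_lit 0, nat_lit 3, nat_lit 0, nat_lit 1, nat_lit 3, nat_lit 2, nat_lit 3, nat_lit 0, nat_lit 3, nat_lit 0, nat_lit 1, nat_lit 3, nat_lit 2, nat_lit 3, nat_lit 0] else [nat_lit 4, nat_lit 1, nat_lit 2, nat_lit 1, nat_lit 4, nat_lit 0, nat_lit 1, nat_lit 4, nat_lit 3, nat_lit 2, nat_lit 4, nat_lit 1, nat_lit 0, nat_lit 4, nat_lit 1, nat_lit 2, nat_lit 1]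
def Wt_53_56 (j : ℕ) : List ℕ := bif Nat.blt j 54 then [nat_lit 1, nat_lit 2, nat_lit 1, nat_lit 0, nat_lit 1, nat_lit 2, nat_lit 1, nat_lit 0, nat_lit 1, nat_lit 2, nat_lit 1, nat_lit 0] else (Wt_54_56 j)
def Wt_57_59 (j : ℕ) : List ℕ := bif Nat.blt j 58 then [nat_lit 3, nat_lit 4, nat_lit 2, nat_lit 3, nat_lit 4, nat_lit 1, nat_lit 4, nat_lit 0, nat_lit 1, nat_lit 0, nat_lit 4, nat_lit 1, nat_lit 2, nat_lit 3, nat_lit 1, nat_lit 0, nat_lit 4] else [nat_lit 0, nat_lit 2, nat_lit 4, nat_lit 1, nat_lit 4, nat_lit 2, nat_lit 1, nat_lit 4, nat_lit 1, nat_lit 4, nat_lit 1, nat_lit 2, nat_lit 4, nat_lit 1, nat_lit 4, nat_lit 2]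
def Wt_56_59 (j : ℕ) : List ℕ := bif Nat.blt j 57 then [nat_lit 1, nat_lit 2, nat_lit 0, nat_lit 1, nat_lit 4, nat_lit 0, nat_lit 1, nat_lit 4, nat_lit 3, nat_lit 1, nat_lit 4, nat_lit 1, nat_lit 0, nat_lit 4, nat_lit 3, nat_lit 1, nat_lit 0] else (Wt_57_59 j)
def Wt_53_59 (j : ℕ) : List ℕ := bif Nat.blt j 56 then (Wt_53_56 j) else (Wt_56_59 j)
def Wt_47_59 (j : ℕ) : List ℕ := bif Nat.blt j 53 then (Wt_47_53 j) else (Wt_53_59 j)
def Wt_60_62 (j : ℕ) : List ℕ := bif Nat.blt j 61 then [nat_lit 1, nat_lit 0, nat_lit 1, nat_lit 0, nat_lit 1, nat_lit 0, nat_lit 1, nat_lit 0, nat_lit 1, nat_lit 0, nat_lit 1, nat_lit 0] else [nat_lit 2, nat_lit 4, nat_lit 0, nat_lit 4, nat_lit 3, nat_lit 1, nat_lit 4, nat_lit 2, nat_lit 1, nat_lit 2, nat_lit 4, nat_lit 1, nat_lit 3, nat_lit 4, nat_lit 0, nat_lit 4, nat_lit 0]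
def Wt_59_62 (j : ℕ) : List ℕ := bif Nat.blt j 60 then [nat_lit 1, nat_lit 3, nat_lit 1, nat_lit 3, nat_lit 4, nat_lit 2, nat_lit 1, nat_lit 4, nat_lit 3, nat_lit 4, nat_lit 1, nat_lit 2, nat_lit 4, nat_lit 3, nat_lit 1, nat_lit 3] else (Wt_60_62 j)
def Wt_63_65 (j : ℕ) : List ℕ := bif Nat.blt j 64 then [nat_lit 1, nat_lit 4, nat_lit 1, nat_lit 4, nat_lit 1, nat_lit 4, nat_lit 3, nat_lit 4, nat_lit 3, nat_lit 4, nat_lit 3, nat_lit 4, nat_lit 3, nat_lit 1, nat_lit 4] else [nat_lit 4, nat_lit 3, nat_lit 4, nat_lit 3, nat_lit 4, nat_lit 3, nat_lit 1, nat_lit 4, nat_lit 1, nat_lit 4, nat_lit 1, nat_lit 4, nat_lit 1, nat_lit 4, nat_lit 3]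
def Wt_62_65 (j : ℕ) : List ℕ := bif Nat.blt j 63 then [nat_lit 4, nat_lit 3, nat_lit 1, nat_lit 4, nat_lit 1, nat_lit 4, nat_lit 1, nat_lit 4, nat_lit 1, nat_lit 4, nat_lit 3, nat_lit 4, nat_lit 3, nat_lit 4, nat_lit 3] else (Wt_63_65 j)
def Wt_59_65 (j : ℕ) : List ℕ := bif Nat.blt j 62 then (Wt_59_62 j) else (Wt_62_65 j)
def Wt_66_68 (j : ℕ) : List ℕ := bif Nat.blt j 67 then [nat_lit 4, nat_lit 2, nat_lit 4, nat_lit 1, nat_lit 4, nat_lit 2, nat_lit 4, nat_lit 3, nat_lit 2, nat_lit 4, nat_lit 1, nat_lit 3, nat_lit 0, nat_lit 3, nat_lit 4, nat_lit 2, nat_lit 3] else [nat_lit 3, nat_lit 0, nat_lit 2, nat_lit 1, nat_lit 0, nat_lit 2, nat_lit 3, nat_lit 0, nat_lit 2, nat_lit 1, nat_lit 0, nat_lit 2, nat_lit 3, nat_lit 0, nat_lit 2, nat_lit 1, nat_lit 0, nat_lit 2]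
def Wt_65_68 (j : ℕ) : List ℕ := bif Nat.blt j 66 then [nat_lit 4, nat_lit 0, nat_lit 4, nat_lit 2, nat_lit 0, nat_lit 4, nat_lit 0, nat_lit 4, nat_lit 3, nat_lit 1, nat_lit 4, nat_lit 2, nat_lit 1, nat_lit 2, nat_lit 4, nat_lit 1, nat_lit 3] else (Wt_66_68 j)
def Wt_69_71 (j : ℕ) : List ℕ := bif Nat.blt j 70 then [nat_lit 1, nat_lit 0, nat_lit 2, nat_lit 0, nat_lit 1, nat_lit 2, nat_lit 1, nat_lit 0, nat_lit 2, nat_lit 0, nat_lit 1, nat_lit 2] else [nat_lit 2, nat_lit 3, nat_lit 1, nat_lit 0, nat_lit 3, nat_lit 0, nat_lit 3, nat_lit 2, nat_lit 3, nat_lit 1, nat_lit 0, nat_lit 3, nat_lit 0, nat_lit 3, nat_lit 2, nat_lit 3, nat_lit 1, nat_lit 0, nat_lit 3, nat_lit 0, nat_lit 3]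
def Wt_68_71 (j : ℕ) : List ℕ := bif Nat.blt j 69 then [nat_lit 0, nat_lit 2, nat_lit 1, nat_lit 0, nat_lit 2, nat_lit 3, nat_lit 0, nat_lit 2, nat_lit 1, nat_lit 0, nat_lit 2, nat_lit 3, nat_lit 0, nat_lit 2, nat_lit 1, nat_lit 0, nat_lit 2, nat_lit 3] else (Wt_69_71 j)
def Wt_65_71 (j : ℕ) : List ℕ := bif Nat.blt j 68 then (Wt_65_68 j) else (Wt_68_71 j)
def Wt_59_71 (j : ℕ) : List ℕ := bif Nat.blt j 65 then (Wt_59_65 j) else (Wt_65_71 j)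
def Wt_47_71 (j : ℕ) : List ℕ := bif Nat.blt j 59 then (Wt_47_59 j) else (Wt_59_71 j)
def Wt_72_74 (j : ℕ) : List ℕ := bif Nat.blt j 73 then [nat_lit 0, nat_lit 3, nat_lit 1, nat_lit 4, nat_lit 2, nat_lit 3, nat_lit 4, nat_lit 2, nat_lit 4, nat_lit 1, nat_lit 4, nat_lit 2, nat_lit 4, nat_lit 3, nat_lit 2, nat_lit 4, nat_lit 3] else [nat_lit 1, nat_lit 2, nat_lit 1, nat_lit 4, nat_lit 1, nat_lit 2, nat_lit 1, nat_lit 4, nat_lit 0, nat_lit 1, nat_lit 4, nat_lit 3, nat_lit 2, nat_lit 4, nat_lit 1, nat_lit 0, nat_lit 4]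
def Wt_71_74 (j : ℕ) : List ℕ := bif Nat.blt j 72 then [nat_lit 2, nat_lit 4, nat_lit 1, nat_lit 3, nat_lit 0, nat_lit 3, nat_lit 4, nat_lit 2, nat_lit 3, nat_lit 4, nat_lit 2, nat_lit 4, nat_lit 1, nat_lit 4, nat_lit 2, nat_lit 4, nat_lit 3] else (Wt_72_74 j)
def Wt_75_77 (j : ℕ) : List ℕ := bif Nat.blt j 76 then [nat_lit 4, nat_lit 1, nat_lit 3, nat_lit 0, nat_lit 3, nat_lit 4, nat_lit 2, nat_lit 3, nat_lit 4, nat_lit 2, nat_lit 4, nat_lit 1, nat_lit 4, nat_lit 2, nat_lit 4, nat_lit 3, nat_lit 2] else [nat_lit 3, nat_lit 0, nat_lit 3, nat_lit 1, nat_lit 4, nat_lit 2, nat_lit 3, nat_lit 4, nat_lit 2, nat_lit 4, nat_lit 1, nat_lit 4, nat_lit 2, nat_lit 4, nat_lit 3, nat_lit 2, nat_lit 4]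
def Wt_74_77 (j : ℕ) : List ℕ := bif Nat.blt j 75 then [nat_lit 2, nat_lit 4, nat_lit 3, nat_lit 2, nat_lit 4, nat_lit 1, nat_lit 3, nat_lit 0, nat_lit 3, nat_lit 4, nat_lit 2, nat_lit 3, nat_lit 4, nat_lit 2, nat_lit 4, nat_lit 1, nat_lit 4] else (Wt_75_77 j)
def Wt_71_77 (j : ℕ) : List ℕ := bif Nat.blt j 74 then (Wt_71_74 j) else (Wt_74_77 j)
def Wt_78_80 (j : ℕ) : List ℕ := bif Nat.blt j 79 then [nat_lit 4, nat_lit 2, nat_lit 4, nat_lit 3, nat_lit 4, nat_lit 2, nat_lit 1, nat_lit 4, nat_lit 1, nat_lit 2, nat_lit 4, nat_lit 2, nat_lit 4, nat_lit 2, nat_lit 1, nat_lit 4, nat_lit 1] else [nat_lit 1, nat_lit 3, nat_lit 0, nat_lit 3, nat_lit 4, nat_lit 3, nat_lit 4, nat_lit 2, nat_lit 4, nat_lit 2, nat_lit 4, nat_lit 3, nat_lit 4, nat_lit 2, nat_lit 4, nat_lit 1, nat_lit 2]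
def Wt_77_80 (j : ℕ) : List ℕ := bif Nat.blt j 78 then [nat_lit 2, nat_lit 4, nat_lit 3, nat_lit 4, nat_lit 2, nat_lit 4, nat_lit 1, nat_lit 4, nat_lit 1, nat_lit 2, nat_lit 4, nat_lit 2, nat_lit 4, nat_lit 2, nat_lit 1, nat_lit 4, nat_lit 1] else (Wt_78_80 j)
def Wt_81_83 (j : ℕ) : List ℕ := bif Nat.blt j 82 then [nat_lit 3, nat_lit 4, nat_lit 3, nat_lit 4, nat_lit 0, nat_lit 3, nat_lit 4, nat_lit 0, nat_lit 3, nat_lit 0, nat_lit 4, nat_lit 3, nat_lit 0, nat_lit 4, nat_lit 3, nat_lit 4, nat_lit 2] else [nat_lit 1, nat_lit 0, nat_lit 2, nat_lit 1, nat_lit 0, nat_lit 1, nat_lit 3, nat_lit 4, nat_lit 0, nat_lit 1, nat_lit 4, nat_lit 1, nat_lit 3, nat_lit 4, nat_lit 1, nat_lit 0, nat_lit 4]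
def Wt_80_83 (j : ℕ) : List ℕ := bif Nat.blt j 81 then [nat_lit 0, nat_lit 2, nat_lit 3, nat_lit 0, nat_lit 2, nat_lit 1, nat_lit 0, nat_lit 2, nat_lit 3, nat_lit 0, nat_lit 2, nat_lit 1, nat_lit 0, nat_lit 2, nat_lit 3, nat_lit 0, nat_lit 2, nat_lit 1] else (Wt_81_83 j)
def Wt_77_83 (j : ℕ) : List ℕ := bif Nat.blt j 80 then (Wt_77_80 j) else (Wt_80_83 j)
def Wt_71_83 (j : ℕ) : List ℕ := bif Nat.blt j 77 then (Wt_71_77 j) else (Wt_77_83 j)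
def Wt_84_86 (j : ℕ) : List ℕ := bif Nat.blt j 85 then [nat_lit 3, nat_lit 1, nat_lit 0, nat_lit 1, nat_lit 2, nat_lit 0, nat_lit 1, nat_lit 4, nat_lit 0, nat_lit 1, nat_lit 4, nat_lit 3, nat_lit 1, nat_lit 4, nat_lit 1, nat_lit 0, nat_lit 4] else [nat_lit 4, nat_lit 1, nat_lit 4, nat_lit 3, nat_lit 4, nat_lit 3, nat_lit 4, nat_lit 3, nat_lit 4, nat_lit 3, nat_lit 1, nat_lit 4, nat_lit 1, nat_lit 4, nat_lit 1]
def Wt_83_86 (j : ℕ) : List ℕ := bif Nat.blt j 84 then [nat_lit 3, nat_lit 4, nat_lit 2, nat_lit 1, nat_lit 4, nat_lit 3, nat_lit 4, nat_lit 1, nat_lit 2, nat_lit 4, nat_lit 3, nat_lit 1, nat_lit 3, nat_lit 1, nat_lit 3, nat_lit 1] else (Wt_84_86 j)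
def Wt_87_89 (j : ℕ) : List ℕ := bif Nat.blt j 88 then [nat_lit 3, nat_lit 0, nat_lit 4, nat_lit 3, nat_lit 0, nat_lit 4, nat_lit 3, nat_lit 4, nat_lit 2, nat_lit 3, nat_lit 4, nat_lit 3, nat_lit 4, nat_lit 0, nat_lit 3, nat_lit 4, nat_lit 0] else [nat_lit 1, nat_lit 4, nat_lit 1, nat_lit 4, nat_lit 3, nat_lit 4, nat_lit 3, nat_lit 4, nat_lit 3, nat_lit 4, nat_lit 3, nat_lit 1, nat_lit 4, nat_lit 1, nat_lit 4]
def Wt_86_89 (j : ℕ) : List ℕ := bif Nat.blt j 87 then [nat_lit 1, nat_lit 2, nat_lit 3, nat_lit 1, nat_lit 0, nat_lit 4, nat_lit 3, nat_lit 4, nat_lit 2, nat_lit 3, nat_lit 4, nat_lit 1, nat_lit 4, nat_lit 0, nat_lit 1, nat_lit 0, nat_lit 4] else (Wt_87_89 j)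
def Wt_83_89 (j : ℕ) : List ℕ := bif Nat.blt j 86 then (Wt_83_86 j) else (Wt_86_89 j)
def Wt_90_92 (j : ℕ) : List ℕ := bif Nat.blt j 91 then [nat_lit 63, nat_lit 3, nat_lit 4, nat_lit 1, nat_lit 2, nat_lit 4, nat_lit 3, nat_lit 1, nat_lit 3, nat_lit 1, nat_lit 3, nat_lit 1, nat_lit 3, nat_lit 4, nat_lit 2, nat_lit 1, nat_lit 4] else [nat_lit 4, nat_lit 4, nat_lit 63]
def Wt_89_92 (j : ℕ) : List ℕ := bif Nat.blt j 90 then [nat_lit 63, nat_lit 1, nat_lit 4, nat_lit 1, nat_lit 4, nat_lit 1, nat_lit 2, nat_lit 4, nat_lit 1, nat_lit 4, nat_lit 2, nat_lit 0, nat_lit 2, nat_lit 4, nat_lit 1, nat_lit 4, nat_lit 2] else (Wt_90_92 j)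
def Wt_93_95 (j : ℕ) : List ℕ := bif Nat.blt j 94 then [nat_lit 2, nat_lit 1, nat_lit 4, nat_lit 1, nat_lit 2, nat_lit 4, nat_lit 3, nat_lit 4, nat_lit 2, nat_lit 4, nat_lit 1, nat_lit 4, nat_lit 1, nat_lit 2, nat_lit 4, nat_lit 2, nat_lit 4] else [nat_lit 63, nat_lit 3, nat_lit 4, nat_lit 2, nat_lit 1, nat_lit 4, nat_lit 1, nat_lit 2, nat_lit 4, nat_lit 2, nat_lit 4, nat_lit 2, nat_lit 1, nat_lit 4, nat_lit 1, nat_lit 4, nat_lit 2, nat_lit 4]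
def Wt_92_95 (j : ℕ) : List ℕ := bif Nat.blt j 93 then [nat_lit 3, nat_lit 4, nat_lit 3, nat_lit 4, nat_lit 3, nat_lit 4, nat_lit 1, nat_lit 4, nat_lit 1, nat_lit 4, nat_lit 1, nat_lit 4, nat_lit 1, nat_lit 3, nat_lit 4] else (Wt_93_95 j)
def Wt_89_95 (j : ℕ) : List ℕ := bif Nat.blt j 92 then (Wt_89_92 j) else (Wt_92_95 j)
def Wt_83_95 (j : ℕ) : List ℕ := bif Nat.blt j 89 then (Wt_83_89 j) else (Wt_89_95 j)
def Wt_71_95 (j : ℕ) : List ℕ := bif Nat.blt j 83 then (Wt_71_83 j) else (Wt_83_95 j)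
def Wt_47_95 (j : ℕ) : List ℕ := bif Nat.blt j 71 then (Wt_47_71 j) else (Wt_71_95 j)
def Wt_0_95 (j : ℕ) : List ℕ := bif Nat.blt j 47 then (Wt_0_47 j) else (Wt_47_95 j)
def Wt_95_97 (j : ℕ) : List ℕ := bif Nat.blt j 96 then [nat_lit 63, nat_lit 2, nat_lit 1, nat_lit 4, nat_lit 2, nat_lit 4, nat_lit 3, nat_lit 4, nat_lit 2, nat_lit 4, nat_lit 2, nat_lit 4, nat_lit 3, nat_lit 4, nat_lit 3, nat_lit 0, nat_lit 3, nat_lit 1] else [nat_lit 63, nat_lit 3, nat_lit 1, nat_lit 2, nat_lit 1, nat_lit 4, nat_lit 2, nat_lit 4, nat_lit 3, nat_lit 4, nat_lit 2, nat_lit 4, nat_lit 2, nat_lit 4, nat_lit 3, nat_lit 4, nat_lit 3, nat_lit 0]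
def Wt_98_100 (j : ℕ) : List ℕ := bif Nat.blt j 99 then [nat_lit 1, nat_lit 2, nat_lit 4, nat_lit 3, nat_lit 4, nat_lit 2, nat_lit 4, nat_lit 1, nat_lit 4, nat_lit 1, nat_lit 2, nat_lit 4, nat_lit 2, nat_lit 4, nat_lit 2, nat_lit 1, nat_lit 4] else [nat_lit 0, nat_lit 2, nat_lit 3, nat_lit 4, nat_lit 1, nat_lit 4, nat_lit 1, nat_lit 2, nat_lit 4, nat_lit 1, nat_lit 4, nat_lit 0, nat_lit 4, nat_lit 1, nat_lit 4, nat_lit 1, nat_lit 3]
def Wt_97_100 (j : ℕ) : List ℕ := bif Nat.blt j 98 then [nat_lit 63, nat_lit 3, nat_lit 0, nat_lit 3, nat_lit 4, nat_lit 2, nat_lit 4, nat_lit 3, nat_lit 4, nat_lit 2, nat_lit 4, nat_lit 2, nat_lit 4, nat_lit 3, nat_lit 4, nat_lit 1, nat_lit 2, nat_lit 1] else (Wt_98_100 j)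
def Wt_95_100 (j : ℕ) : List ℕ := bif Nat.blt j 97 then (Wt_95_97 j) else (Wt_97_100 j)
def Wt_101_103 (j : ℕ) : List ℕ := bif Nat.blt j 102 then [nat_lit 3, nat_lit 0, nat_lit 1, nat_lit 3, nat_lit 2, nat_lit 3, nat_lit 0, nat_lit 3, nat_lit 0, nat_lit 1, nat_lit 3, nat_lit 2, nat_lit 3, nat_lit 0, nat_lit 3, nat_lit 0, nat_lit 1, nat_lit 3, nat_lit 2, nat_lit 3, nat_lit 0] else [nat_lit 0, nat_lit 3, nat_lit 2, nat_lit 0, nat_lit 1, nat_lit 2, nat_lit 0, nat_lit 3, nat_lit 2, nat_lit 0, nat_lit 1, nat_lit 2, nat_lit 0, nat_lit 3, nat_lit 2, nat_lit 0, nat_lit 1, nat_lit 2]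
def Wt_100_103 (j : ℕ) : List ℕ := bif Nat.blt j 101 then [nat_lit 3, nat_lit 4, nat_lit 3, nat_lit 4, nat_lit 3, nat_lit 1, nat_lit 4, nat_lit 1, nat_lit 4, nat_lit 1, nat_lit 4, nat_lit 1, nat_lit 4, nat_lit 3, nat_lit 4] else (Wt_101_103 j)
def Wt_104_106 (j : ℕ) : List ℕ := bif Nat.blt j 105 then [nat_lit 1, nat_lit 0, nat_lit 4, nat_lit 1, nat_lit 4, nat_lit 3, nat_lit 2, nat_lit 4, nat_lit 3, nat_lit 4, nat_lit 0, nat_lit 1, nat_lit 3, nat_lit 2, nat_lit 1, nat_lit 4, nat_lit 0] else [nat_lit 1, nat_lit 2, nat_lit 1, nat_lit 4, nat_lit 3, nat_lit 4, nat_lit 2, nat_lit 4, nat_lit 2, nat_lit 4, nat_lit 3, nat_lit 4, nat_lit 2, nat_lit 4, nat_lit 3, nat_lit 0, nat_lit 3]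
def Wt_103_106 (j : ℕ) : List ℕ := bif Nat.blt j 104 then [nat_lit 1, nat_lit 0, nat_lit 4, nat_lit 3, nat_lit 4, nat_lit 2, nat_lit 3, nat_lit 4, nat_lit 1, nat_lit 4, nat_lit 0, nat_lit 1, nat_lit 0, nat_lit 4, nat_lit 1, nat_lit 2, nat_lit 3] else (Wt_104_106 j)
def Wt_100_106 (j : ℕ) : List ℕ := bif Nat.blt j 103 then (Wt_100_103 j) else (Wt_103_106 j)
def Wt_95_106 (j : ℕ) : List ℕ := bif Nat.blt j 100 then (Wt_95_100 j) else (Wt_100_106 j)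
def Wt_107_109 (j : ℕ) : List ℕ := bif Nat.blt j 108 then [nat_lit 4, nat_lit 2, nat_lit 1, nat_lit 2, nat_lit 4, nat_lit 1, nat_lit 3, nat_lit 4, nat_lit 0, nat_lit 4, nat_lit 2, nat_lit 0, nat_lit 4, nat_lit 0, nat_lit 4, nat_lit 3, nat_lit 1] else [nat_lit 2, nat_lit 0, nat_lit 1, nat_lit 2, nat_lit 0, nat_lit 3, nat_lit 2, nat_lit 0, nat_lit 1, nat_lit 2, nat_lit 0, nat_lit 3, nat_lit 2, nat_lit 0, nat_lit 1, nat_lit 2, nat_lit 0, nat_lit 3]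
def Wt_106_109 (j : ℕ) : List ℕ := bif Nat.blt j 107 then [nat_lit 1, nat_lit 2, nat_lit 0, nat_lit 3, nat_lit 2, nat_lit 0, nat_lit 1, nat_lit 2, nat_lit 0, nat_lit 3, nat_lit 2, nat_lit 0, nat_lit 1, nat_lit 2, nat_lit 0, nat_lit 3, nat_lit 2, nat_lit 0] else (Wt_107_109 j)
def Wt_110_112 (j : ℕ) : List ℕ := bif Nat.blt j 111 then [nat_lit 63, nat_lit 1, nat_lit 3, nat_lit 2, nat_lit 3, nat_lit 0, nat_lit 3, nat_lit 0, nat_lit 1, nat_lit 3, nat_lit 2, nat_lit 3, nat_lit 0, nat_lit 3, nat_lit 0, nat_lit 1, nat_lit 3, nat_lit 2, nat_lit 3, nat_lit 0, nat_lit 3, nat_lit 0] else [nat_lit 1, nat_lit 0, nat_lit 2, nat_lit 3, nat_lit 0, nat_lit 2, nat_lit 1, nat_lit 0, nat_lit 2, nat_lit 3, nat_lit 0, nat_lit 2, nat_lit 1, nat_lit 0, nat_lit 2, nat_lit 3, nat_lit 0, nat_lit 2]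
def Wt_109_112 (j : ℕ) : List ℕ := bif Nat.blt j 110 then [nat_lit 63, nat_lit 3, nat_lit 2, nat_lit 3, nat_lit 2] else (Wt_110_112 j)
def Wt_106_112 (j : ℕ) : List ℕ := bif Nat.blt j 109 then (Wt_106_109 j) else (Wt_109_112 j)
def Wt_113_115 (j : ℕ) : List ℕ := bif Nat.blt j 114 then [nat_lit 2, nat_lit 3, nat_lit 4, nat_lit 1, nat_lit 4, nat_lit 1, nat_lit 2, nat_lit 4, nat_lit 1, nat_lit 4, nat_lit 0, nat_lit 4, nat_lit 1, nat_lit 4, nat_lit 1, nat_lit 3, nat_lit 0] else [nat_lit 1, nat_lit 4, nat_lit 1, nat_lit 4, nat_lit 1, nat_lit 4, nat_lit 1, nat_lit 3, nat_lit 4, nat_lit 3, nat_lit 4, nat_lit 3, nat_lit 4, nat_lit 3, nat_lit 4]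
def Wt_112_115 (j : ℕ) : List ℕ := bif Nat.blt j 113 then [nat_lit 3, nat_lit 0, nat_lit 4, nat_lit 3, nat_lit 4, nat_lit 2, nat_lit 3, nat_lit 4, nat_lit 3, nat_lit 4, nat_lit 0, nat_lit 3, nat_lit 4, nat_lit 0, nat_lit 3, nat_lit 0, nat_lit 4] else (Wt_113_115 j)
def Wt_116_118 (j : ℕ) : List ℕ := bif Nat.blt j 117 then [nat_lit 0, nat_lit 1, nat_lit 4, nat_lit 1, nat_lit 3, nat_lit 4, nat_lit 1, nat_lit 0, nat_lit 4, nat_lit 1, nat_lit 0, nat_lit 2, nat_lit 1, nat_lit 0, nat_lit 1, nat_lit 3, nat_lit 4] else [nat_lit 2, nat_lit 0, nat_lit 1, nat_lit 2, nat_lit 0, nat_lit 1, nat_lit 2, nat_lit 0, nat_lit 1, nat_lit 2, nat_lit 0, nat_lit 1, nat_lit 2, nat_lit 0, nat_lit 1]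
def Wt_115_118 (j : ℕ) : List ℕ := bif Nat.blt j 116 then [nat_lit 3, nat_lit 4, nat_lit 3, nat_lit 4, nat_lit 3, nat_lit 4, nat_lit 3, nat_lit 4, nat_lit 1, nat_lit 4, nat_lit 1, nat_lit 4, nat_lit 1, nat_lit 4, nat_lit 1] else (Wt_116_118 j)
def Wt_112_118 (j : ℕ) : List ℕ := bif Nat.blt j 115 then (Wt_112_115 j) else (Wt_115_118 j)
def Wt_106_118 (j : ℕ) : List ℕ := bif Nat.blt j 112 then (Wt_106_112 j) else (Wt_112_118 j)
def Wt_95_118 (j : ℕ) : List ℕ := bif Nat.blt j 106 then (Wt_95_106 j) else (Wt_106_118 j)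
def Wt_119_121 (j : ℕ) : List ℕ := bif Nat.blt j 120 then [nat_lit 3, nat_lit 0, nat_lit 3, nat_lit 2, nat_lit 3, nat_lit 1, nat_lit 0, nat_lit 3, nat_lit 0, nat_lit 3, nat_lit 2, nat_lit 3, nat_lit 1, nat_lit 0, nat_lit 3, nat_lit 0, nat_lit 3, nat_lit 2, nat_lit 3, nat_lit 1, nat_lit 0] else [nat_lit 2, nat_lit 3, nat_lit 0, nat_lit 3, nat_lit 0, nat_lit 1, nat_lit 3, nat_lit 2, nat_lit 3, nat_lit 0, nat_lit 3, nat_lit 0, nat_lit 1, nat_lit 3, nat_lit 2, nat_lit 3, nat_lit 0, nat_lit 3, nat_lit 0, nat_lit 1, nat_lit 3]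
def Wt_118_121 (j : ℕ) : List ℕ := bif Nat.blt j 119 then [nat_lit 0, nat_lit 2, nat_lit 1, nat_lit 0, nat_lit 2, nat_lit 1, nat_lit 0, nat_lit 2, nat_lit 1, nat_lit 0, nat_lit 2, nat_lit 1, nat_lit 0, nat_lit 2, nat_lit 1] else (Wt_119_121 j)
def Wt_122_124 (j : ℕ) : List ℕ := bif Nat.blt j 123 then [nat_lit 2, nat_lit 4, nat_lit 3, nat_lit 4, nat_lit 3, nat_lit 0, nat_lit 3, nat_lit 1, nat_lit 2, nat_lit 1, nat_lit 4, nat_lit 2, nat_lit 4, nat_lit 3, nat_lit 4, nat_lit 2, nat_lit 4] else [nat_lit 2, nat_lit 4, nat_lit 2, nat_lit 4, nat_lit 3, nat_lit 4, nat_lit 3, nat_lit 0, nat_lit 3, nat_lit 1, nat_lit 2, nat_lit 1, nat_lit 4, nat_lit 2, nat_lit 4, nat_lit 3, nat_lit 4]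
def Wt_121_124 (j : ℕ) : List ℕ := bif Nat.blt j 122 then [nat_lit 3, nat_lit 4, nat_lit 1, nat_lit 4, nat_lit 1, nat_lit 4, nat_lit 1, nat_lit 4, nat_lit 1, nat_lit 3, nat_lit 4, nat_lit 3, nat_lit 4, nat_lit 3, nat_lit 4] else (Wt_122_124 j)
def Wt_118_124 (j : ℕ) : List ℕ := bif Nat.blt j 121 then (Wt_118_121 j) else (Wt_121_124 j)
def Wt_125_127 (j : ℕ) : List ℕ := bif Nat.blt j 126 then [nat_lit 1, nat_lit 4, nat_lit 2, nat_lit 0, nat_lit 2, nat_lit 4, nat_lit 1, nat_lit 4, nat_lit 2, nat_lit 1, nat_lit 4, nat_lit 1, nat_lit 4, nat_lit 1, nat_lit 2, nat_lit 4] else [nat_lit 0, nat_lit 4, nat_lit 1, nat_lit 4, nat_lit 2, nat_lit 0, nat_lit 4, nat_lit 1, nat_lit 4, nat_lit 0, nat_lit 2, nat_lit 4, nat_lit 1, nat_lit 4, nat_lit 2]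
def Wt_124_127 (j : ℕ) : List ℕ := bif Nat.blt j 125 then [nat_lit 63, nat_lit 1, nat_lit 2, nat_lit 1, nat_lit 4, nat_lit 3, nat_lit 4, nat_lit 2, nat_lit 4, nat_lit 2, nat_lit 4, nat_lit 3, nat_lit 4, nat_lit 2, nat_lit 4, nat_lit 3, nat_lit 0, nat_lit 3] else (Wt_125_127 j)
def Wt_128_130 (j : ℕ) : List ℕ := bif Nat.blt j 129 then [nat_lit 63, nat_lit 3, nat_lit 1, nat_lit 4, nat_lit 1, nat_lit 4, nat_lit 0, nat_lit 4, nat_lit 1, nat_lit 4, nat_lit 2, nat_lit 1, nat_lit 4, nat_lit 1, nat_lit 4, nat_lit 3, nat_lit 2, nat_lit 0] else [nat_lit 3, nat_lit 2, nat_lit 1, nat_lit 4, nat_lit 0, nat_lit 1, nat_lit 0, nat_lit 4, nat_lit 1, nat_lit 4, nat_lit 3, nat_lit 2, nat_lit 4, nat_lit 3, nat_lit 4, nat_lit 0, nat_lit 1]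
def Wt_127_130 (j : ℕ) : List ℕ := bif Nat.blt j 128 then [nat_lit 1, nat_lit 4, nat_lit 1, nat_lit 4, nat_lit 1, nat_lit 2, nat_lit 4, nat_lit 1, nat_lit 4, nat_lit 2, nat_lit 0, nat_lit 2, nat_lit 4, nat_lit 1, nat_lit 4, nat_lit 2] else (Wt_128_130 j)
def Wt_124_130 (j : ℕ) : List ℕ := bif Nat.blt j 127 then (Wt_124_127 j) else (Wt_127_130 j)
def Wt_118_130 (j : ℕ) : List ℕ := bif Nat.blt j 124 then (Wt_118_124 j) else (Wt_124_130 j)
def Wt_131_133 (j : ℕ) : List ℕ := bif Nat.blt j 132 then [nat_lit 1, nat_lit 4, nat_lit 1, nat_lit 4, nat_lit 1, nat_lit 4, nat_lit 1, nat_lit 4, nat_lit 3, nat_lit 4, nat_lit 3, nat_lit 4, nat_lit 3, nat_lit 4, nat_lit 3] else [nat_lit 2, nat_lit 1, nat_lit 4, nat_lit 1, nat_lit 4, nat_lit 1, nat_lit 2, nat_lit 4, nat_lit 1, nat_lit 4, nat_lit 2, nat_lit 0, nat_lit 2, nat_lit 4, nat_lit 1, nat_lit 4]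
def Wt_130_133 (j : ℕ) : List ℕ := bif Nat.blt j 131 then [nat_lit 1, nat_lit 0, nat_lit 2, nat_lit 1, nat_lit 0, nat_lit 2, nat_lit 1, nat_lit 0, nat_lit 2, nat_lit 1, nat_lit 0, nat_lit 2, nat_lit 1, nat_lit 0, nat_lit 2] else (Wt_131_133 j)
def Wt_134_136 (j : ℕ) : List ℕ := bif Nat.blt j 135 then [nat_lit 4, nat_lit 2, nat_lit 4, nat_lit 1, nat_lit 4, nat_lit 1, nat_lit 2, nat_lit 4, nat_lit 2, nat_lit 4, nat_lit 2, nat_lit 1, nat_lit 4, nat_lit 1, nat_lit 2, nat_lit 4, nat_lit 3] else [nat_lit 3, nat_lit 0, nat_lit 3, nat_lit 4, nat_lit 2, nat_lit 4, nat_lit 3, nat_lit 4, nat_lit 2, nat_lit 4, nat_lit 2, nat_lit 4, nat_lit 3, nat_lit 4, nat_lit 1, nat_lit 2, nat_lit 1]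
def Wt_133_136 (j : ℕ) : List ℕ := bif Nat.blt j 134 then [nat_lit 4, nat_lit 2, nat_lit 1, nat_lit 4, nat_lit 1, nat_lit 2, nat_lit 4, nat_lit 3, nat_lit 4, nat_lit 2, nat_lit 4, nat_lit 1, nat_lit 4, nat_lit 1, nat_lit 2, nat_lit 4, nat_lit 2] else (Wt_134_136 j)
def Wt_130_136 (j : ℕ) : List ℕ := bif Nat.blt j 133 then (Wt_130_133 j) else (Wt_133_136 j)
def Wt_137_139 (j : ℕ) : List ℕ := bif Nat.blt j 138 then [nat_lit 0, nat_lit 1, nat_lit 2, nat_lit 1, nat_lit 0, nat_lit 1, nat_lit 2, nat_lit 1, nat_lit 0, nat_lit 1, nat_lit 2, nat_lit 1] else [nat_lit 3, nat_lit 0, nat_lit 3, nat_lit 4, nat_lit 2, nat_lit 3, nat_lit 4, nat_lit 2, nat_lit 4, nat_lit 1, nat_lit 4, nat_lit 2, nat_lit 4, nat_lit 3, nat_lit 2, nat_lit 4, nat_lit 1]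
def Wt_136_139 (j : ℕ) : List ℕ := bif Nat.blt j 137 then [nat_lit 0, nat_lit 1, nat_lit 3, nat_lit 2, nat_lit 3, nat_lit 0, nat_lit 3, nat_lit 0, nat_lit 1, nat_lit 3, nat_lit 2, nat_lit 3, nat_lit 0, nat_lit 3, nat_lit 0, nat_lit 1, nat_lit 3, nat_lit 2, nat_lit 3, nat_lit 0, nat_lit 3] else (Wt_137_139 j)
def Wt_140_142 (j : ℕ) : List ℕ := bif Nat.blt j 141 then [nat_lit 63, nat_lit 4, nat_lit 3, nat_lit 4, nat_lit 2, nat_lit 4, nat_lit 2, nat_lit 4, nat_lit 3, nat_lit 4, nat_lit 3, nat_lit 0, nat_lit 3, nat_lit 1, nat_lit 2, nat_lit 1, nat_lit 4, nat_lit 2] else [nat_lit 63, nat_lit 4, nat_lit 63, nat_lit 4]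
def Wt_139_142 (j : ℕ) : List ℕ := bif Nat.blt j 140 then [nat_lit 2, nat_lit 4, nat_lit 2, nat_lit 4, nat_lit 3, nat_lit 4, nat_lit 2, nat_lit 4, nat_lit 1, nat_lit 2, nat_lit 1, nat_lit 3, nat_lit 0, nat_lit 3, nat_lit 4, nat_lit 3, nat_lit 4] else (Wt_140_142 j)
def Wt_136_142 (j : ℕ) : List ℕ := bif Nat.blt j 139 then (Wt_136_139 j) else (Wt_139_142 j)
def Wt_130_142 (j : ℕ) : List ℕ := bif Nat.blt j 136 then (Wt_130_136 j) else (Wt_136_142 j)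
def Wt_118_142 (j : ℕ) : List ℕ := bif Nat.blt j 130 then (Wt_118_130 j) else (Wt_130_142 j)
def Wt_95_142 (j : ℕ) : List ℕ := bif Nat.blt j 118 then (Wt_95_118 j) else (Wt_118_142 j)
def Wt_143_145 (j : ℕ) : List ℕ := bif Nat.blt j 144 then [nat_lit 2, nat_lit 1, nat_lit 0, nat_lit 2, nat_lit 1, nat_lit 0, nat_lit 2, nat_lit 1, nat_lit 0, nat_lit 2, nat_lit 1, nat_lit 0, nat_lit 2, nat_lit 1, nat_lit 0] else [nat_lit 4, nat_lit 0, nat_lit 2, nat_lit 4, nat_lit 3, nat_lit 2, nat_lit 3, nat_lit 0, nat_lit 4, nat_lit 2, nat_lit 0, nat_lit 4, nat_lit 2, nat_lit 0, nat_lit 4, nat_lit 0, nat_lit 2]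
def Wt_142_145 (j : ℕ) : List ℕ := bif Nat.blt j 143 then [nat_lit 0, nat_lit 1, nat_lit 2, nat_lit 0, nat_lit 1, nat_lit 2, nat_lit 0, nat_lit 1, nat_lit 2, nat_lit 0, nat_lit 1, nat_lit 2, nat_lit 0, nat_lit 1, nat_lit 2] else (Wt_143_145 j)
def Wt_146_148 (j : ℕ) : List ℕ := bif Nat.blt j 147 then [nat_lit 3, nat_lit 1, nat_lit 4, nat_lit 2, nat_lit 3, nat_lit 4, nat_lit 2, nat_lit 4, nat_lit 1, nat_lit 4, nat_lit 2, nat_lit 4, nat_lit 3, nat_lit 2, nat_lit 4, nat_lit 3, nat_lit 0] else [nat_lit 63, nat_lit 1, nat_lit 4, nat_lit 2, nat_lit 4, nat_lit 3, nat_lit 4, nat_lit 2, nat_lit 4, nat_lit 2, nat_lit 4, nat_lit 3, nat_lit 4, nat_lit 3, nat_lit 0, nat_lit 3, nat_lit 1, nat_lit 2]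
def Wt_145_148 (j : ℕ) : List ℕ := bif Nat.blt j 146 then [nat_lit 0, nat_lit 3, nat_lit 4, nat_lit 2, nat_lit 3, nat_lit 4, nat_lit 2, nat_lit 4, nat_lit 1, nat_lit 4, nat_lit 2, nat_lit 4, nat_lit 3, nat_lit 2, nat_lit 4, nat_lit 1, nat_lit 3] else (Wt_146_148 j)
def Wt_142_148 (j : ℕ) : List ℕ := bif Nat.blt j 145 then (Wt_142_145 j) else (Wt_145_148 j)
def Wt_149_151 (j : ℕ) : List ℕ := bif Nat.blt j 150 then [nat_lit 3, nat_lit 0, nat_lit 3, nat_lit 4, nat_lit 3, nat_lit 4, nat_lit 2, nat_lit 4, nat_lit 2, nat_lit 4, nat_lit 3, nat_lit 4, nat_lit 2, nat_lit 4, nat_lit 1, nat_lit 2, nat_lit 1] else [nat_lit 4, nat_lit 2, nat_lit 4, nat_lit 3, nat_lit 4, nat_lit 2, nat_lit 4, nat_lit 1, nat_lit 2, nat_lit 1, nat_lit 3, nat_lit 0, nat_lit 3, nat_lit 4, nat_lit 3, nat_lit 4, nat_lit 2]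
def Wt_148_151 (j : ℕ) : List ℕ := bif Nat.blt j 149 then [nat_lit 0, nat_lit 3, nat_lit 4, nat_lit 2, nat_lit 4, nat_lit 3, nat_lit 4, nat_lit 2, nat_lit 4, nat_lit 2, nat_lit 4, nat_lit 3, nat_lit 4, nat_lit 1, nat_lit 2, nat_lit 1, nat_lit 3] else (Wt_149_151 j)
def Wt_152_154 (j : ℕ) : List ℕ := bif Nat.blt j 153 then [nat_lit 0, nat_lit 3, nat_lit 1, nat_lit 2, nat_lit 3, nat_lit 0, nat_lit 3, nat_lit 1, nat_lit 2, nat_lit 3, nat_lit 0, nat_lit 3, nat_lit 1, nat_lit 2, nat_lit 3, nat_lit 0, nat_lit 3, nat_lit 1, nat_lit 2, nat_lit 3] else [nat_lit 3, nat_lit 2, nat_lit 1, nat_lit 3, nat_lit 0, nat_lit 3, nat_lit 2, nat_lit 1, nat_lit 3, nat_lit 0, nat_lit 3, nat_lit 2, nat_lit 1, nat_lit 3, nat_lit 0, nat_lit 3, nat_lit 2, nat_lit 1, nat_lit 3, nat_lit 0]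
def Wt_151_154 (j : ℕ) : List ℕ := bif Nat.blt j 152 then [nat_lit 63, nat_lit 1, nat_lit 2, nat_lit 1, nat_lit 3, nat_lit 0, nat_lit 3, nat_lit 4, nat_lit 3, nat_lit 4, nat_lit 2, nat_lit 4, nat_lit 2, nat_lit 4, nat_lit 3, nat_lit 4, nat_lit 2, nat_lit 4] else (Wt_152_154 j)
def Wt_148_154 (j : ℕ) : List ℕ := bif Nat.blt j 151 then (Wt_148_151 j) else (Wt_151_154 j)
def Wt_142_154 (j : ℕ) : List ℕ := bif Nat.blt j 148 then (Wt_142_148 j) else (Wt_148_154 j)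
def Wt_155_157 (j : ℕ) : List ℕ := bif Nat.blt j 156 then [nat_lit 4, nat_lit 0, nat_lit 4, nat_lit 1, nat_lit 4, nat_lit 2, nat_lit 1, nat_lit 4, nat_lit 1, nat_lit 4, nat_lit 3, nat_lit 2, nat_lit 0, nat_lit 3, nat_lit 1, nat_lit 4, nat_lit 1] else [nat_lit 0, nat_lit 2, nat_lit 4, nat_lit 1, nat_lit 4, nat_lit 2, nat_lit 0, nat_lit 4, nat_lit 1, nat_lit 4, nat_lit 2, nat_lit 0, nat_lit 4, nat_lit 1, nat_lit 4]
def Wt_154_157 (j : ℕ) : List ℕ := bif Nat.blt j 155 then [nat_lit 4, nat_lit 1, nat_lit 2, nat_lit 4, nat_lit 2, nat_lit 4, nat_lit 2, nat_lit 1, nat_lit 4, nat_lit 1, nat_lit 4, nat_lit 2, nat_lit 4, nat_lit 3, nat_lit 4, nat_lit 2, nat_lit 1] else (Wt_155_157 j)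
def Wt_158_160 (j : ℕ) : List ℕ := bif Nat.blt j 159 then [nat_lit 1, nat_lit 0, nat_lit 1, nat_lit 2, nat_lit 0, nat_lit 2, nat_lit 1, nat_lit 0, nat_lit 1, nat_lit 2, nat_lit 0, nat_lit 2, nat_lit 1, nat_lit 0, nat_lit 1, nat_lit 2, nat_lit 0, nat_lit 2] else [nat_lit 0, nat_lit 3, nat_lit 1, nat_lit 0, nat_lit 3, nat_lit 0, nat_lit 3, nat_lit 0, nat_lit 3, nat_lit 1, nat_lit 0, nat_lit 3, nat_lit 0, nat_lit 3, nat_lit 0, nat_lit 3, nat_lit 1, nat_lit 0, nat_lit 3, nat_lit 0, nat_lit 3]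
def Wt_157_160 (j : ℕ) : List ℕ := bif Nat.blt j 158 then [nat_lit 2, nat_lit 0, nat_lit 4, nat_lit 1, nat_lit 4, nat_lit 2, nat_lit 0, nat_lit 4, nat_lit 1, nat_lit 4, nat_lit 0, nat_lit 2, nat_lit 4, nat_lit 1, nat_lit 4] else (Wt_158_160 j)
def Wt_154_160 (j : ℕ) : List ℕ := bif Nat.blt j 157 then (Wt_154_157 j) else (Wt_157_160 j)
def Wt_161_163 (j : ℕ) : List ℕ := bif Nat.blt j 162 then [nat_lit 0, nat_lit 1, nat_lit 0, nat_lit 3, nat_lit 1, nat_lit 4, nat_lit 1, nat_lit 3, nat_lit 0, nat_lit 1, nat_lit 0, nat_lit 3, nat_lit 1, nat_lit 4, nat_lit 1, nat_lit 3] else [nat_lit 2, nat_lit 1, nat_lit 0, nat_lit 2, nat_lit 3, nat_lit 0, nat_lit 2, nat_lit 1, nat_lit 0, nat_lit 2, nat_lit 3, nat_lit 0, nat_lit 2, nat_lit 1, nat_lit 0, nat_lit 2, nat_lit 3, nat_lit 0]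
def Wt_160_163 (j : ℕ) : List ℕ := bif Nat.blt j 161 then [nat_lit 3, nat_lit 1, nat_lit 0, nat_lit 3, nat_lit 0, nat_lit 3, nat_lit 0, nat_lit 3, nat_lit 1, nat_lit 0, nat_lit 3, nat_lit 0, nat_lit 3, nat_lit 0, nat_lit 3, nat_lit 1, nat_lit 0, nat_lit 3, nat_lit 0, nat_lit 3, nat_lit 0] else (Wt_161_163 j)
def Wt_164_166 (j : ℕ) : List ℕ := bif Nat.blt j 165 then [nat_lit 0, nat_lit 3, nat_lit 0, nat_lit 3, nat_lit 0, nat_lit 1, nat_lit 3, nat_lit 0, nat_lit 3, nat_lit 0, nat_lit 3, nat_lit 0, nat_lit 1, nat_lit 3, nat_lit 0, nat_lit 3, nat_lit 0, nat_lit 3, nat_lit 0, nat_lit 1, nat_lit 3] else [nat_lit 63, nat_lit 0, nat_lit 2, nat_lit 0, nat_lit 2]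
def Wt_163_166 (j : ℕ) : List ℕ := bif Nat.blt j 164 then [nat_lit 63, nat_lit 2, nat_lit 3, nat_lit 1, nat_lit 0, nat_lit 3, nat_lit 0, nat_lit 3, nat_lit 2, nat_lit 3, nat_lit 1, nat_lit 0, nat_lit 3, nat_lit 0, nat_lit 3, nat_lit 2, nat_lit 3, nat_lit 1, nat_lit 0, nat_lit 3, nat_lit 0, nat_lit 3] else (Wt_164_166 j)
def Wt_160_166 (j : ℕ) : List ℕ := bif Nat.blt j 163 then (Wt_160_163 j) else (Wt_163_166 j)
def Wt_154_166 (j : ℕ) : List ℕ := bif Nat.blt j 160 then (Wt_154_160 j) else (Wt_160_166 j)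
def Wt_142_166 (j : ℕ) : List ℕ := bif Nat.blt j 154 then (Wt_142_154 j) else (Wt_154_166 j)
def Wt_167_169 (j : ℕ) : List ℕ := bif Nat.blt j 168 then [nat_lit 63, nat_lit 1, nat_lit 0, nat_lit 2, nat_lit 3, nat_lit 0, nat_lit 2, nat_lit 1, nat_lit 0, nat_lit 2, nat_lit 3, nat_lit 0, nat_lit 2, nat_lit 1, nat_lit 0, nat_lit 2, nat_lit 3, nat_lit 0, nat_lit 2] else [nat_lit 63, nat_lit 4, nat_lit 3, nat_lit 4, nat_lit 2, nat_lit 4, nat_lit 1, nat_lit 2, nat_lit 1, nat_lit 3, nat_lit 0, nat_lit 3, nat_lit 4, nat_lit 3, nat_lit 4, nat_lit 2, nat_lit 4, nat_lit 2]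
def Wt_166_169 (j : ℕ) : List ℕ := bif Nat.blt j 167 then [nat_lit 63, nat_lit 0, nat_lit 1, nat_lit 3, nat_lit 2, nat_lit 3, nat_lit 0, nat_lit 3, nat_lit 0, nat_lit 1, nat_lit 3, nat_lit 2, nat_lit 3, nat_lit 0, nat_lit 3, nat_lit 0, nat_lit 1, nat_lit 3, nat_lit 2, nat_lit 3, nat_lit 0, nat_lit 3] else (Wt_167_169 j)
def Wt_170_172 (j : ℕ) : List ℕ := bif Nat.blt j 171 then [nat_lit 63, nat_lit 3, nat_lit 4, nat_lit 2, nat_lit 4, nat_lit 1, nat_lit 2, nat_lit 1, nat_lit 3, nat_lit 0, nat_lit 3, nat_lit 4, nat_lit 3, nat_lit 4, nat_lit 2, nat_lit 4, nat_lit 2, nat_lit 4] else [nat_lit 1, nat_lit 3, nat_lit 0, nat_lit 3, nat_lit 4, nat_lit 2, nat_lit 4, nat_lit 3, nat_lit 4, nat_lit 2, nat_lit 4, nat_lit 2, nat_lit 4, nat_lit 3, nat_lit 4, nat_lit 1, nat_lit 2]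
def Wt_169_172 (j : ℕ) : List ℕ := bif Nat.blt j 170 then [nat_lit 63, nat_lit 4, nat_lit 2, nat_lit 4, nat_lit 3, nat_lit 4, nat_lit 1, nat_lit 2, nat_lit 1, nat_lit 3, nat_lit 0, nat_lit 3, nat_lit 4, nat_lit 2, nat_lit 4, nat_lit 3, nat_lit 4, nat_lit 2] else (Wt_170_172 j)
def Wt_166_172 (j : ℕ) : List ℕ := bif Nat.blt j 169 then (Wt_166_169 j) else (Wt_169_172 j)
def Wt_173_175 (j : ℕ) : List ℕ := bif Nat.blt j 174 then [nat_lit 63, nat_lit 0, nat_lit 2, nat_lit 3, nat_lit 4, nat_lit 1, nat_lit 4, nat_lit 1, nat_lit 2, nat_lit 4, nat_lit 1, nat_lit 4, nat_lit 0, nat_lit 4, nat_lit 1, nat_lit 4, nat_lit 1, nat_lit 3] else [nat_lit 63, nat_lit 0, nat_lit 3, nat_lit 4, nat_lit 3, nat_lit 4, nat_lit 2, nat_lit 4, nat_lit 2, nat_lit 4, nat_lit 3, nat_lit 4, nat_lit 2, nat_lit 4, nat_lit 1, nat_lit 2, nat_lit 1, nat_lit 3]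
def Wt_172_175 (j : ℕ) : List ℕ := bif Nat.blt j 173 then [nat_lit 63, nat_lit 0, nat_lit 4, nat_lit 1, nat_lit 4, nat_lit 2, nat_lit 1, nat_lit 4, nat_lit 1, nat_lit 4, nat_lit 3, nat_lit 2, nat_lit 0, nat_lit 3, nat_lit 1, nat_lit 4, nat_lit 1, nat_lit 4] else (Wt_173_175 j)
def Wt_176_178 (j : ℕ) : List ℕ := bif Nat.blt j 177 then [nat_lit 1, nat_lit 4, nat_lit 2, nat_lit 1, nat_lit 4, nat_lit 1, nat_lit 4, nat_lit 1, nat_lit 2, nat_lit 4, nat_lit 1, nat_lit 4, nat_lit 2, nat_lit 0, nat_lit 2, nat_lit 4] else [nat_lit 3, nat_lit 0, nat_lit 2, nat_lit 3, nat_lit 4, nat_lit 1, nat_lit 4, nat_lit 1, nat_lit 2, nat_lit 4, nat_lit 1, nat_lit 4, nat_lit 0, nat_lit 4, nat_lit 1, nat_lit 4, nat_lit 1]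
def Wt_175_178 (j : ℕ) : List ℕ := bif Nat.blt j 176 then [nat_lit 4, nat_lit 3, nat_lit 1, nat_lit 4, nat_lit 2, nat_lit 1, nat_lit 2, nat_lit 4, nat_lit 1, nat_lit 3, nat_lit 4, nat_lit 0, nat_lit 4, nat_lit 2, nat_lit 0, nat_lit 4, nat_lit 0] else (Wt_176_178 j)
def Wt_172_178 (j : ℕ) : List ℕ := bif Nat.blt j 175 then (Wt_172_175 j) else (Wt_175_178 j)
def Wt_166_178 (j : ℕ) : List ℕ := bif Nat.blt j 172 then (Wt_166_172 j) else (Wt_172_178 j)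
def Wt_179_181 (j : ℕ) : List ℕ := bif Nat.blt j 180 then [nat_lit 2, nat_lit 4, nat_lit 1, nat_lit 4, nat_lit 2, nat_lit 4, nat_lit 3, nat_lit 2, nat_lit 4, nat_lit 1, nat_lit 3, nat_lit 0, nat_lit 3, nat_lit 4, nat_lit 2, nat_lit 3, nat_lit 4] else [nat_lit 4, nat_lit 1, nat_lit 3, nat_lit 0, nat_lit 1, nat_lit 0, nat_lit 3, nat_lit 1, nat_lit 4, nat_lit 1, nat_lit 3, nat_lit 0, nat_lit 1, nat_lit 0, nat_lit 3, nat_lit 1]
def Wt_178_181 (j : ℕ) : List ℕ := bif Nat.blt j 179 then [nat_lit 63, nat_lit 2, nat_lit 3, nat_lit 2, nat_lit 3] else (Wt_179_181 j)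
def Wt_182_184 (j : ℕ) : List ℕ := bif Nat.blt j 183 then [nat_lit 1, nat_lit 4, nat_lit 2, nat_lit 0, nat_lit 4, nat_lit 1, nat_lit 4, nat_lit 2, nat_lit 0, nat_lit 4, nat_lit 1, nat_lit 4, nat_lit 0, nat_lit 2, nat_lit 4] else [nat_lit 4, nat_lit 3, nat_lit 4, nat_lit 3, nat_lit 4, nat_lit 3, nat_lit 4, nat_lit 3, nat_lit 1, nat_lit 4, nat_lit 1, nat_lit 4, nat_lit 1, nat_lit 4, nat_lit 1]
def Wt_181_184 (j : ℕ) : List ℕ := bif Nat.blt j 182 then [nat_lit 63, nat_lit 4, nat_lit 3, nat_lit 4, nat_lit 2, nat_lit 4, nat_lit 2, nat_lit 4, nat_lit 3, nat_lit 4, nat_lit 2, nat_lit 4, nat_lit 3, nat_lit 0, nat_lit 3, nat_lit 1, nat_lit 2, nat_lit 1] else (Wt_182_184 j)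
def Wt_178_184 (j : ℕ) : List ℕ := bif Nat.blt j 181 then (Wt_178_181 j) else (Wt_181_184 j)
def Wt_185_187 (j : ℕ) : List ℕ := bif Nat.blt j 186 then [nat_lit 63, nat_lit 1, nat_lit 0, nat_lit 4, nat_lit 3, nat_lit 4, nat_lit 2, nat_lit 3, nat_lit 4, nat_lit 1, nat_lit 4, nat_lit 0, nat_lit 1, nat_lit 0, nat_lit 4, nat_lit 1, nat_lit 2, nat_lit 3] else [nat_lit 2, nat_lit 1, nat_lit 2, nat_lit 1, nat_lit 2, nat_lit 1, nat_lit 2, nat_lit 1]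
def Wt_184_187 (j : ℕ) : List ℕ := bif Nat.blt j 185 then [nat_lit 63, nat_lit 4, nat_lit 1, nat_lit 4, nat_lit 2, nat_lit 0, nat_lit 2, nat_lit 4, nat_lit 1, nat_lit 4, nat_lit 2, nat_lit 1, nat_lit 4, nat_lit 1, nat_lit 4, nat_lit 1, nat_lit 2] else (Wt_185_187 j)
def Wt_188_190 (j : ℕ) : List ℕ := bif Nat.blt j 189 then [nat_lit 1, nat_lit 0, nat_lit 1, nat_lit 2, nat_lit 1, nat_lit 0, nat_lit 1, nat_lit 2, nat_lit 1, nat_lit 0, nat_lit 1, nat_lit 2] else [nat_lit 0, nat_lit 2, nat_lit 0, nat_lit 1, nat_lit 2, nat_lit 1, nat_lit 0, nat_lit 2, nat_lit 0, nat_lit 1, nat_lit 2, nat_lit 1]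
def Wt_187_190 (j : ℕ) : List ℕ := bif Nat.blt j 188 then [nat_lit 0, nat_lit 3, nat_lit 1, nat_lit 2, nat_lit 1, nat_lit 4, nat_lit 3, nat_lit 4, nat_lit 2, nat_lit 4, nat_lit 2, nat_lit 4, nat_lit 3, nat_lit 4, nat_lit 2, nat_lit 4, nat_lit 3] else (Wt_188_190 j)
def Wt_184_190 (j : ℕ) : List ℕ := bif Nat.blt j 187 then (Wt_184_187 j) else (Wt_187_190 j)
def Wt_178_190 (j : ℕ) : List ℕ := bif Nat.blt j 184 then (Wt_178_184 j) else (Wt_184_190 j)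
def Wt_166_190 (j : ℕ) : List ℕ := bif Nat.blt j 178 then (Wt_166_178 j) else (Wt_178_190 j)
def Wt_142_190 (j : ℕ) : List ℕ := bif Nat.blt j 166 then (Wt_142_166 j) else (Wt_166_190 j)
def Wt_95_190 (j : ℕ) : List ℕ := bif Nat.blt j 142 then (Wt_95_142 j) else (Wt_142_190 j)
def Wt_0_190 (j : ℕ) : List ℕ := bif Nat.blt j 95 then (Wt_0_95 j) else (Wt_95_190 j)
def Wt_190_192 (j : ℕ) : List ℕ := bif Nat.blt j 191 then [nat_lit 4, nat_lit 1, nat_lit 4, nat_lit 2, nat_lit 0, nat_lit 2, nat_lit 4, nat_lit 1, nat_lit 4, nat_lit 2, nat_lit 1, nat_lit 4, nat_lit 1, nat_lit 4, nat_lit 1, nat_lit 2] else [nat_lit 63, nat_lit 3, nat_lit 4, nat_lit 3, nat_lit 4, nat_lit 3, nat_lit 4, nat_lit 3, nat_lit 4, nat_lit 1, nat_lit 4, nat_lit 1, nat_lit 4, nat_lit 1, nat_lit 4, nat_lit 1]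
def Wt_193_195 (j : ℕ) : List ℕ := bif Nat.blt j 194 then [nat_lit 63, nat_lit 2, nat_lit 4, nat_lit 3, nat_lit 2, nat_lit 4, nat_lit 1, nat_lit 3, nat_lit 0, nat_lit 3, nat_lit 4, nat_lit 2, nat_lit 3, nat_lit 4, nat_lit 2, nat_lit 4, nat_lit 1, nat_lit 4] else [nat_lit 1, nat_lit 2, nat_lit 4, nat_lit 2, nat_lit 4, nat_lit 2, nat_lit 1, nat_lit 4, nat_lit 1, nat_lit 4, nat_lit 2, nat_lit 4, nat_lit 3, nat_lit 4, nat_lit 2, nat_lit 1, nat_lit 4]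
def Wt_192_195 (j : ℕ) : List ℕ := bif Nat.blt j 193 then [nat_lit 63, nat_lit 1, nat_lit 3, nat_lit 1, nat_lit 3, nat_lit 4, nat_lit 2, nat_lit 1, nat_lit 4, nat_lit 3, nat_lit 4, nat_lit 1, nat_lit 2, nat_lit 4, nat_lit 3, nat_lit 1, nat_lit 3] else (Wt_193_195 j)
def Wt_190_195 (j : ℕ) : List ℕ := bif Nat.blt j 192 then (Wt_190_192 j) else (Wt_192_195 j)
def Wt_196_198 (j : ℕ) : List ℕ := bif Nat.blt j 197 then [nat_lit 2, nat_lit 1, nat_lit 2, nat_lit 4, nat_lit 1, nat_lit 3, nat_lit 4, nat_lit 0, nat_lit 4, nat_lit 2, nat_lit 0, nat_lit 4, nat_lit 0, nat_lit 4, nat_lit 3, nat_lit 1, nat_lit 4] else [nat_lit 3, nat_lit 1, nat_lit 0, nat_lit 1, nat_lit 2, nat_lit 1, nat_lit 3, nat_lit 1, nat_lit 0, nat_lit 1, nat_lit 2, nat_lit 1, nat_lit 3, nat_lit 1, nat_lit 0, nat_lit 1, nat_lit 2, nat_lit 1]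
def Wt_195_198 (j : ℕ) : List ℕ := bif Nat.blt j 196 then [nat_lit 4, nat_lit 2, nat_lit 4, nat_lit 2, nat_lit 4, nat_lit 2, nat_lit 4, nat_lit 2, nat_lit 4, nat_lit 2, nat_lit 4, nat_lit 2] else (Wt_196_198 j)
def Wt_199_201 (j : ℕ) : List ℕ := bif Nat.blt j 200 then [nat_lit 63, nat_lit 2, nat_lit 1, nat_lit 0, nat_lit 1, nat_lit 2, nat_lit 3, nat_lit 1, nat_lit 2, nat_lit 1, nat_lit 0, nat_lit 1, nat_lit 2, nat_lit 3, nat_lit 1, nat_lit 2, nat_lit 1, nat_lit 0, nat_lit 1, nat_lit 2, nat_lit 3, nat_lit 1] else [nat_lit 63, nat_lit 0, nat_lit 1, nat_lit 2, nat_lit 0, nat_lit 1, nat_lit 2, nat_lit 0, nat_lit 1, nat_lit 2, nat_lit 0, nat_lit 1, nat_lit 2, nat_lit 0, nat_lit 1, nat_lit 2]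
def Wt_198_201 (j : ℕ) : List ℕ := bif Nat.blt j 199 then [nat_lit 0, nat_lit 1, nat_lit 2, nat_lit 3, nat_lit 1, nat_lit 2, nat_lit 1, nat_lit 0, nat_lit 1, nat_lit 2, nat_lit 3, nat_lit 1, nat_lit 2, nat_lit 1, nat_lit 0, nat_lit 1, nat_lit 2, nat_lit 3, nat_lit 1, nat_lit 2, nat_lit 1] else (Wt_199_201 j)
def Wt_195_201 (j : ℕ) : List ℕ := bif Nat.blt j 198 then (Wt_195_198 j) else (Wt_198_201 j)
def Wt_190_201 (j : ℕ) : List ℕ := bif Nat.blt j 195 then (Wt_190_195 j) else (Wt_195_201 j)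
def Wt_202_204 (j : ℕ) : List ℕ := bif Nat.blt j 203 then [nat_lit 2, nat_lit 1, nat_lit 4, nat_lit 2, nat_lit 4, nat_lit 3, nat_lit 4, nat_lit 2, nat_lit 4, nat_lit 2, nat_lit 4, nat_lit 3, nat_lit 4, nat_lit 3, nat_lit 0, nat_lit 3, nat_lit 1] else [nat_lit 0, nat_lit 3, nat_lit 1, nat_lit 4, nat_lit 1, nat_lit 3, nat_lit 0, nat_lit 1, nat_lit 0, nat_lit 3, nat_lit 1, nat_lit 4, nat_lit 1, nat_lit 3, nat_lit 0, nat_lit 1]
def Wt_201_204 (j : ℕ) : List ℕ := bif Nat.blt j 202 then [nat_lit 63, nat_lit 3, nat_lit 1, nat_lit 0, nat_lit 3, nat_lit 0, nat_lit 3, nat_lit 0, nat_lit 3, nat_lit 1, nat_lit 0, nat_lit 3, nat_lit 0, nat_lit 3, nat_lit 0, nat_lit 3, nat_lit 1, nat_lit 0, nat_lit 3, nat_lit 0, nat_lit 3, nat_lit 0] else (Wt_202_204 j)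
def Wt_205_207 (j : ℕ) : List ℕ := bif Nat.blt j 206 then [nat_lit 63, nat_lit 2, nat_lit 3, nat_lit 4, nat_lit 2, nat_lit 4, nat_lit 1, nat_lit 4, nat_lit 2, nat_lit 4, nat_lit 3, nat_lit 2, nat_lit 4, nat_lit 3, nat_lit 0, nat_lit 3, nat_lit 1, nat_lit 4] else [nat_lit 0, nat_lit 3, nat_lit 1, nat_lit 4, nat_lit 1, nat_lit 4, nat_lit 0, nat_lit 4, nat_lit 1, nat_lit 4, nat_lit 2, nat_lit 1, nat_lit 4, nat_lit 1, nat_lit 4, nat_lit 3, nat_lit 2]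
def Wt_204_207 (j : ℕ) : List ℕ := bif Nat.blt j 205 then [nat_lit 4, nat_lit 1, nat_lit 4, nat_lit 2, nat_lit 4, nat_lit 3, nat_lit 2, nat_lit 4, nat_lit 3, nat_lit 0, nat_lit 3, nat_lit 1, nat_lit 4, nat_lit 2, nat_lit 3, nat_lit 4, nat_lit 2] else (Wt_205_207 j)
def Wt_201_207 (j : ℕ) : List ℕ := bif Nat.blt j 204 then (Wt_201_204 j) else (Wt_204_207 j)
def Wt_208_210 (j : ℕ) : List ℕ := bif Nat.blt j 209 then [nat_lit 63, nat_lit 4, nat_lit 3, nat_lit 4, nat_lit 3, nat_lit 4, nat_lit 3, nat_lit 1, nat_lit 4, nat_lit 1, nat_lit 4, nat_lit 1, nat_lit 4, nat_lit 1, nat_lit 4, nat_lit 3] else [nat_lit 4, nat_lit 1, nat_lit 4, nat_lit 1, nat_lit 4, nat_lit 1, nat_lit 4, nat_lit 3, nat_lit 4, nat_lit 3, nat_lit 4, nat_lit 3, nat_lit 4, nat_lit 3, nat_lit 1]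
def Wt_207_210 (j : ℕ) : List ℕ := bif Nat.blt j 208 then [nat_lit 63, nat_lit 4, nat_lit 2, nat_lit 4, nat_lit 3, nat_lit 4, nat_lit 2, nat_lit 1, nat_lit 4, nat_lit 1, nat_lit 2, nat_lit 4, nat_lit 2, nat_lit 4, nat_lit 2, nat_lit 1, nat_lit 4, nat_lit 1] else (Wt_208_210 j)
def Wt_211_213 (j : ℕ) : List ℕ := bif Nat.blt j 212 then [nat_lit 4, nat_lit 3, nat_lit 4, nat_lit 3, nat_lit 1, nat_lit 4, nat_lit 1, nat_lit 4, nat_lit 1, nat_lit 4, nat_lit 1, nat_lit 4, nat_lit 3, nat_lit 4, nat_lit 3] else [nat_lit 0, nat_lit 1, nat_lit 3, nat_lit 2, nat_lit 1, nat_lit 4, nat_lit 0, nat_lit 1, nat_lit 0, nat_lit 4, nat_lit 1, nat_lit 4, nat_lit 3, nat_lit 2, nat_lit 4, nat_lit 3, nat_lit 4]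
def Wt_210_213 (j : ℕ) : List ℕ := bif Nat.blt j 211 then [nat_lit 1, nat_lit 0, nat_lit 1, nat_lit 2, nat_lit 0, nat_lit 1, nat_lit 4, nat_lit 0, nat_lit 1, nat_lit 4, nat_lit 3, nat_lit 1, nat_lit 4, nat_lit 1, nat_lit 0, nat_lit 4, nat_lit 3] else (Wt_211_213 j)
def Wt_207_213 (j : ℕ) : List ℕ := bif Nat.blt j 210 then (Wt_207_210 j) else (Wt_210_213 j)
def Wt_201_213 (j : ℕ) : List ℕ := bif Nat.blt j 207 then (Wt_201_207 j) else (Wt_207_213 j)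
def Wt_190_213 (j : ℕ) : List ℕ := bif Nat.blt j 201 then (Wt_190_201 j) else (Wt_201_213 j)
def Wt_214_216 (j : ℕ) : List ℕ := bif Nat.blt j 215 then [nat_lit 4, nat_lit 3, nat_lit 0, nat_lit 4, nat_lit 3, nat_lit 4, nat_lit 2, nat_lit 3, nat_lit 4, nat_lit 3, nat_lit 4, nat_lit 0, nat_lit 3, nat_lit 4, nat_lit 0, nat_lit 3, nat_lit 0] else [nat_lit 1, nat_lit 4, nat_lit 1, nat_lit 3, nat_lit 4, nat_lit 3, nat_lit 4, nat_lit 3, nat_lit 4, nat_lit 3, nat_lit 4, nat_lit 1, nat_lit 4, nat_lit 1, nat_lit 4]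
def Wt_213_216 (j : ℕ) : List ℕ := bif Nat.blt j 214 then [nat_lit 3, nat_lit 4, nat_lit 3, nat_lit 1, nat_lit 4, nat_lit 1, nat_lit 4, nat_lit 1, nat_lit 4, nat_lit 1, nat_lit 4, nat_lit 3, nat_lit 4, nat_lit 3, nat_lit 4] else (Wt_214_216 j)
def Wt_217_219 (j : ℕ) : List ℕ := bif Nat.blt j 218 then [nat_lit 1, nat_lit 4, nat_lit 1, nat_lit 4, nat_lit 1, nat_lit 3, nat_lit 4, nat_lit 3, nat_lit 4, nat_lit 3, nat_lit 4, nat_lit 3, nat_lit 4, nat_lit 1, nat_lit 4] else [nat_lit 1, nat_lit 2, nat_lit 1, nat_lit 3, nat_lit 2, nat_lit 1, nat_lit 0, nat_lit 1, nat_lit 2, nat_lit 1, nat_lit 3, nat_lit 2, nat_lit 1, nat_lit 0, nat_lit 1, nat_lit 2, nat_lit 1, nat_lit 3, nat_lit 2, nat_lit 1, nat_lit 0]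
def Wt_216_219 (j : ℕ) : List ℕ := bif Nat.blt j 217 then [nat_lit 4, nat_lit 1, nat_lit 4, nat_lit 1, nat_lit 4, nat_lit 3, nat_lit 4, nat_lit 3, nat_lit 4, nat_lit 3, nat_lit 4, nat_lit 3, nat_lit 1, nat_lit 4, nat_lit 1] else (Wt_217_219 j)
def Wt_213_219 (j : ℕ) : List ℕ := bif Nat.blt j 216 then (Wt_213_216 j) else (Wt_216_219 j)
def Wt_220_222 (j : ℕ) : List ℕ := bif Nat.blt j 221 then [nat_lit 63, nat_lit 1, nat_lit 2, nat_lit 0, nat_lit 2, nat_lit 1, nat_lit 0, nat_lit 1, nat_lit 2, nat_lit 0, nat_lit 2, nat_lit 1, nat_lit 0, nat_lit 1, nat_lit 2, nat_lit 0, nat_lit 2, nat_lit 1, nat_lit 0] else [nat_lit 63, nat_lit 1, nat_lit 0, nat_lit 1, nat_lit 2, nat_lit 1, nat_lit 0, nat_lit 1, nat_lit 2, nat_lit 1, nat_lit 0, nat_lit 1, nat_lit 2]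
def Wt_219_222 (j : ℕ) : List ℕ := bif Nat.blt j 220 then [nat_lit 63, nat_lit 2, nat_lit 0, nat_lit 1, nat_lit 2, nat_lit 1, nat_lit 0, nat_lit 2, nat_lit 0, nat_lit 1, nat_lit 2, nat_lit 1, nat_lit 0] else (Wt_220_222 j)
def Wt_223_225 (j : ℕ) : List ℕ := bif Nat.blt j 224 then [nat_lit 63, nat_lit 2, nat_lit 1, nat_lit 0, nat_lit 1, nat_lit 3, nat_lit 1, nat_lit 2, nat_lit 1, nat_lit 0, nat_lit 1, nat_lit 3, nat_lit 1, nat_lit 2, nat_lit 1, nat_lit 0, nat_lit 1, nat_lit 3, nat_lit 1] else [nat_lit 63, nat_lit 1, nat_lit 63, nat_lit 1, nat_lit 63]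
def Wt_222_225 (j : ℕ) : List ℕ := bif Nat.blt j 223 then [nat_lit 63, nat_lit 0, nat_lit 1, nat_lit 3, nat_lit 1, nat_lit 2, nat_lit 1, nat_lit 0, nat_lit 1, nat_lit 3, nat_lit 1, nat_lit 2, nat_lit 1, nat_lit 0, nat_lit 1, nat_lit 3, nat_lit 1, nat_lit 2, nat_lit 1] else (Wt_223_225 j)
def Wt_219_225 (j : ℕ) : List ℕ := bif Nat.blt j 222 then (Wt_219_222 j) else (Wt_222_225 j)
def Wt_213_225 (j : ℕ) : List ℕ := bif Nat.blt j 219 then (Wt_213_219 j) else (Wt_219_225 j)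
def Wt_226_228 (j : ℕ) : List ℕ := bif Nat.blt j 227 then [nat_lit 1, nat_lit 2, nat_lit 1, nat_lit 0, nat_lit 1, nat_lit 3, nat_lit 1, nat_lit 2, nat_lit 1, nat_lit 0, nat_lit 1, nat_lit 3, nat_lit 1, nat_lit 2, nat_lit 1, nat_lit 0, nat_lit 1, nat_lit 3] else [nat_lit 63, nat_lit 1, nat_lit 3, nat_lit 1, nat_lit 0, nat_lit 1, nat_lit 2, nat_lit 1, nat_lit 3, nat_lit 1, nat_lit 0, nat_lit 1, nat_lit 2, nat_lit 1, nat_lit 3, nat_lit 1, nat_lit 0, nat_lit 1, nat_lit 2]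
def Wt_225_228 (j : ℕ) : List ℕ := bif Nat.blt j 226 then [nat_lit 4, nat_lit 2, nat_lit 4, nat_lit 2, nat_lit 4, nat_lit 3, nat_lit 4, nat_lit 2, nat_lit 4, nat_lit 1, nat_lit 2, nat_lit 1, nat_lit 3, nat_lit 0, nat_lit 3, nat_lit 4, nat_lit 3] else (Wt_226_228 j)
def Wt_229_231 (j : ℕ) : List ℕ := bif Nat.blt j 230 then [nat_lit 1, nat_lit 3, nat_lit 4, nat_lit 1, nat_lit 0, nat_lit 4, nat_lit 1, nat_lit 0, nat_lit 2, nat_lit 1, nat_lit 0, nat_lit 1, nat_lit 3, nat_lit 4, nat_lit 0, nat_lit 1, nat_lit 4] else [nat_lit 4, nat_lit 1, nat_lit 3, nat_lit 4, nat_lit 1, nat_lit 0, nat_lit 4, nat_lit 1, nat_lit 0, nat_lit 2, nat_lit 1, nat_lit 0, nat_lit 1, nat_lit 3, nat_lit 4, nat_lit 0, nat_lit 1]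
def Wt_228_231 (j : ℕ) : List ℕ := bif Nat.blt j 229 then [nat_lit 1, nat_lit 2, nat_lit 0, nat_lit 1, nat_lit 2, nat_lit 0, nat_lit 1, nat_lit 2, nat_lit 0, nat_lit 1, nat_lit 2, nat_lit 0, nat_lit 1, nat_lit 2, nat_lit 0] else (Wt_229_231 j)
def Wt_225_231 (j : ℕ) : List ℕ := bif Nat.blt j 228 then (Wt_225_228 j) else (Wt_228_231 j)
def Wt_232_234 (j : ℕ) : List ℕ := bif Nat.blt j 233 then [nat_lit 2, nat_lit 1, nat_lit 0, nat_lit 1, nat_lit 3, nat_lit 1, nat_lit 2, nat_lit 1, nat_lit 0, nat_lit 1, nat_lit 3, nat_lit 1, nat_lit 2, nat_lit 1, nat_lit 0, nat_lit 1, nat_lit 3, nat_lit 1] else [nat_lit 1, nat_lit 2, nat_lit 1, nat_lit 0, nat_lit 1, nat_lit 2, nat_lit 3, nat_lit 1, nat_lit 2, nat_lit 1, nat_lit 0, nat_lit 1, nat_lit 2, nat_lit 3, nat_lit 1, nat_lit 2, nat_lit 1, nat_lit 0, nat_lit 1, nat_lit 2, nat_lit 3]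
def Wt_231_234 (j : ℕ) : List ℕ := bif Nat.blt j 232 then [nat_lit 3, nat_lit 1, nat_lit 4, nat_lit 1, nat_lit 0, nat_lit 4, nat_lit 3, nat_lit 1, nat_lit 0, nat_lit 1, nat_lit 2, nat_lit 0, nat_lit 1, nat_lit 4, nat_lit 0, nat_lit 1, nat_lit 4] else (Wt_232_234 j)
def Wt_235_237 (j : ℕ) : List ℕ := bif Nat.blt j 236 then [nat_lit 63, nat_lit 2, nat_lit 0, nat_lit 3, nat_lit 1, nat_lit 4, nat_lit 1, nat_lit 4, nat_lit 0, nat_lit 4, nat_lit 1, nat_lit 4, nat_lit 2, nat_lit 1, nat_lit 4, nat_lit 1, nat_lit 4, nat_lit 3] else [nat_lit 3, nat_lit 4, nat_lit 0, nat_lit 1, nat_lit 3, nat_lit 2, nat_lit 1, nat_lit 4, nat_lit 0, nat_lit 1, nat_lit 0, nat_lit 4, nat_lit 1, nat_lit 4, nat_lit 3, nat_lit 2, nat_lit 4]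
def Wt_234_237 (j : ℕ) : List ℕ := bif Nat.blt j 235 then [nat_lit 4, nat_lit 1, nat_lit 0, nat_lit 4, nat_lit 1, nat_lit 0, nat_lit 2, nat_lit 1, nat_lit 0, nat_lit 1, nat_lit 3, nat_lit 4, nat_lit 0, nat_lit 1, nat_lit 4, nat_lit 1, nat_lit 3] else (Wt_235_237 j)
def Wt_231_237 (j : ℕ) : List ℕ := bif Nat.blt j 234 then (Wt_231_234 j) else (Wt_234_237 j)
def Wt_225_237 (j : ℕ) : List ℕ := bif Nat.blt j 231 then (Wt_225_231 j) else (Wt_231_237 j)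
def Wt_213_237 (j : ℕ) : List ℕ := bif Nat.blt j 225 then (Wt_213_225 j) else (Wt_225_237 j)
def Wt_190_237 (j : ℕ) : List ℕ := bif Nat.blt j 213 then (Wt_190_213 j) else (Wt_213_237 j)
def Wt_238_240 (j : ℕ) : List ℕ := bif Nat.blt j 239 then [nat_lit 2, nat_lit 0, nat_lit 2, nat_lit 1, nat_lit 0, nat_lit 1, nat_lit 2, nat_lit 0, nat_lit 2, nat_lit 1, nat_lit 0, nat_lit 1, nat_lit 2, nat_lit 0, nat_lit 2, nat_lit 1, nat_lit 0, nat_lit 1] else [nat_lit 4, nat_lit 1, nat_lit 4, nat_lit 3, nat_lit 2, nat_lit 4, nat_lit 3, nat_lit 4, nat_lit 0, nat_lit 1, nat_lit 3, nat_lit 2, nat_lit 1, nat_lit 4, nat_lit 0, nat_lit 1, nat_lit 0]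
def Wt_237_240 (j : ℕ) : List ℕ := bif Nat.blt j 238 then [nat_lit 1, nat_lit 3, nat_lit 4, nat_lit 0, nat_lit 1, nat_lit 4, nat_lit 1, nat_lit 3, nat_lit 4, nat_lit 1, nat_lit 0, nat_lit 4, nat_lit 1, nat_lit 0, nat_lit 2, nat_lit 1, nat_lit 0] else (Wt_238_240 j)
def Wt_241_243 (j : ℕ) : List ℕ := bif Nat.blt j 242 then [nat_lit 4, nat_lit 3, nat_lit 4, nat_lit 2, nat_lit 4, nat_lit 1, nat_lit 4, nat_lit 1, nat_lit 2, nat_lit 4, nat_lit 2, nat_lit 4, nat_lit 2, nat_lit 1, nat_lit 4, nat_lit 1, nat_lit 2] else [nat_lit 1, nat_lit 4, nat_lit 3, nat_lit 2, nat_lit 4, nat_lit 3, nat_lit 4, nat_lit 0, nat_lit 1, nat_lit 3, nat_lit 2, nat_lit 1, nat_lit 4, nat_lit 0, nat_lit 1, nat_lit 0, nat_lit 4]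
def Wt_240_243 (j : ℕ) : List ℕ := bif Nat.blt j 241 then [nat_lit 1, nat_lit 4, nat_lit 1, nat_lit 2, nat_lit 1, nat_lit 4, nat_lit 0, nat_lit 1, nat_lit 4, nat_lit 3, nat_lit 2, nat_lit 4, nat_lit 1, nat_lit 0, nat_lit 4, nat_lit 1, nat_lit 2] else (Wt_241_243 j)
def Wt_237_243 (j : ℕ) : List ℕ := bif Nat.blt j 240 then (Wt_237_240 j) else (Wt_240_243 j)
def Wt_244_246 (j : ℕ) : List ℕ := bif Nat.blt j 245 then [nat_lit 63, nat_lit 1, nat_lit 0, nat_lit 1, nat_lit 2, nat_lit 1, nat_lit 3, nat_lit 1, nat_lit 0, nat_lit 1, nat_lit 2, nat_lit 1, nat_lit 3, nat_lit 1, nat_lit 0, nat_lit 1, nat_lit 2, nat_lit 1, nat_lit 3] else [nat_lit 63, nat_lit 3, nat_lit 0, nat_lit 3, nat_lit 0, nat_lit 1, nat_lit 3, nat_lit 0, nat_lit 3, nat_lit 0, nat_lit 3, nat_lit 0, nat_lit 1, nat_lit 3, nat_lit 0, nat_lit 3, nat_lit 0, nat_lit 3, nat_lit 0, nat_lit 1, nat_lit 3, nat_lit 0]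
def Wt_243_246 (j : ℕ) : List ℕ := bif Nat.blt j 244 then [nat_lit 2, nat_lit 0, nat_lit 3, nat_lit 2, nat_lit 0, nat_lit 1, nat_lit 2, nat_lit 0, nat_lit 3, nat_lit 2, nat_lit 0, nat_lit 1, nat_lit 2, nat_lit 0, nat_lit 3, nat_lit 2, nat_lit 0, nat_lit 1] else (Wt_244_246 j)
def Wt_247_249 (j : ℕ) : List ℕ := bif Nat.blt j 248 then [nat_lit 4, nat_lit 1, nat_lit 0, nat_lit 4, nat_lit 3, nat_lit 1, nat_lit 0, nat_lit 1, nat_lit 2, nat_lit 0, nat_lit 1, nat_lit 4, nat_lit 0, nat_lit 1, nat_lit 4, nat_lit 3, nat_lit 1] else [nat_lit 1, nat_lit 2, nat_lit 4, nat_lit 3, nat_lit 1, nat_lit 3, nat_lit 1, nat_lit 3, nat_lit 1, nat_lit 3, nat_lit 4, nat_lit 2, nat_lit 1, nat_lit 4, nat_lit 3, nat_lit 4]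
def Wt_246_249 (j : ℕ) : List ℕ := bif Nat.blt j 247 then [nat_lit 63, nat_lit 1, nat_lit 2, nat_lit 1, nat_lit 0, nat_lit 1, nat_lit 2, nat_lit 3, nat_lit 1, nat_lit 2, nat_lit 1, nat_lit 0, nat_lit 1, nat_lit 2, nat_lit 3, nat_lit 1, nat_lit 2, nat_lit 1, nat_lit 0, nat_lit 1, nat_lit 2, nat_lit 3] else (Wt_247_249 j)
def Wt_243_249 (j : ℕ) : List ℕ := bif Nat.blt j 246 then (Wt_243_246 j) else (Wt_246_249 j)
def Wt_237_249 (j : ℕ) : List ℕ := bif Nat.blt j 243 then (Wt_237_243 j) else (Wt_243_249 j)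
def Wt_250_252 (j : ℕ) : List ℕ := bif Nat.blt j 251 then [nat_lit 4, nat_lit 1, nat_lit 4, nat_lit 1, nat_lit 2, nat_lit 4, nat_lit 2, nat_lit 4, nat_lit 2, nat_lit 1, nat_lit 4, nat_lit 1, nat_lit 2, nat_lit 4, nat_lit 3, nat_lit 4, nat_lit 2] else [nat_lit 1, nat_lit 4, nat_lit 1, nat_lit 3, nat_lit 0, nat_lit 1, nat_lit 0, nat_lit 3, nat_lit 1, nat_lit 4, nat_lit 1, nat_lit 3, nat_lit 0, nat_lit 1, nat_lit 0, nat_lit 3]
def Wt_249_252 (j : ℕ) : List ℕ := bif Nat.blt j 250 then [nat_lit 1, nat_lit 0, nat_lit 4, nat_lit 3, nat_lit 1, nat_lit 0, nat_lit 1, nat_lit 2, nat_lit 0, nat_lit 1, nat_lit 4, nat_lit 0, nat_lit 1, nat_lit 4, nat_lit 3, nat_lit 1, nat_lit 4] else (Wt_250_252 j)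
def Wt_253_255 (j : ℕ) : List ℕ := bif Nat.blt j 254 then [nat_lit 4, nat_lit 0, nat_lit 2, nat_lit 4, nat_lit 1, nat_lit 4, nat_lit 2, nat_lit 0, nat_lit 4, nat_lit 1, nat_lit 4, nat_lit 2, nat_lit 0, nat_lit 4, nat_lit 1] else [nat_lit 4, nat_lit 3, nat_lit 4, nat_lit 2, nat_lit 4, nat_lit 2, nat_lit 4, nat_lit 3, nat_lit 4, nat_lit 3, nat_lit 0, nat_lit 3, nat_lit 1, nat_lit 2, nat_lit 1, nat_lit 4, nat_lit 2]
def Wt_252_255 (j : ℕ) : List ℕ := bif Nat.blt j 253 then [nat_lit 63, nat_lit 1, nat_lit 4, nat_lit 1, nat_lit 2, nat_lit 4, nat_lit 1, nat_lit 4, nat_lit 0, nat_lit 4, nat_lit 1, nat_lit 4, nat_lit 1, nat_lit 3, nat_lit 0, nat_lit 2, nat_lit 3, nat_lit 4] else (Wt_253_255 j)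
def Wt_249_255 (j : ℕ) : List ℕ := bif Nat.blt j 252 then (Wt_249_252 j) else (Wt_252_255 j)
def Wt_256_258 (j : ℕ) : List ℕ := bif Nat.blt j 257 then [nat_lit 63, nat_lit 3, nat_lit 0, nat_lit 2, nat_lit 3, nat_lit 4, nat_lit 1, nat_lit 4, nat_lit 1, nat_lit 2, nat_lit 4, nat_lit 1, nat_lit 4, nat_lit 0, nat_lit 4, nat_lit 1, nat_lit 4, nat_lit 1] else [nat_lit 0, nat_lit 1, nat_lit 0, nat_lit 4, nat_lit 1, nat_lit 4, nat_lit 3, nat_lit 2, nat_lit 4, nat_lit 3, nat_lit 4, nat_lit 0, nat_lit 1, nat_lit 3, nat_lit 2, nat_lit 1, nat_lit 4]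
def Wt_255_258 (j : ℕ) : List ℕ := bif Nat.blt j 256 then [nat_lit 63, nat_lit 1, nat_lit 4, nat_lit 3, nat_lit 4, nat_lit 2, nat_lit 4, nat_lit 2, nat_lit 4, nat_lit 3, nat_lit 4, nat_lit 2, nat_lit 4, nat_lit 3, nat_lit 0, nat_lit 3, nat_lit 1, nat_lit 2] else (Wt_256_258 j)
def Wt_259_261 (j : ℕ) : List ℕ := bif Nat.blt j 260 then [nat_lit 1, nat_lit 2, nat_lit 1, nat_lit 0, nat_lit 2, nat_lit 0, nat_lit 1, nat_lit 2, nat_lit 1, nat_lit 0, nat_lit 2, nat_lit 0] else [nat_lit 63, nat_lit 2, nat_lit 3, nat_lit 4, nat_lit 1, nat_lit 4, nat_lit 1, nat_lit 2, nat_lit 4, nat_lit 1, nat_lit 4, nat_lit 0, nat_lit 4, nat_lit 1, nat_lit 4, nat_lit 1, nat_lit 3, nat_lit 0]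
def Wt_258_261 (j : ℕ) : List ℕ := bif Nat.blt j 259 then [nat_lit 63, nat_lit 2, nat_lit 3, nat_lit 0, nat_lit 3, nat_lit 1, nat_lit 2, nat_lit 3, nat_lit 0, nat_lit 3, nat_lit 1, nat_lit 2, nat_lit 3, nat_lit 0, nat_lit 3, nat_lit 1, nat_lit 2, nat_lit 3, nat_lit 0, nat_lit 3, nat_lit 1] else (Wt_259_261 j)
def Wt_255_261 (j : ℕ) : List ℕ := bif Nat.blt j 258 then (Wt_255_258 j) else (Wt_258_261 j)
def Wt_249_261 (j : ℕ) : List ℕ := bif Nat.blt j 255 then (Wt_249_255 j) else (Wt_255_261 j)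
def Wt_237_261 (j : ℕ) : List ℕ := bif Nat.blt j 249 then (Wt_237_249 j) else (Wt_249_261 j)
def Wt_262_264 (j : ℕ) : List ℕ := bif Nat.blt j 263 then [nat_lit 63, nat_lit 2, nat_lit 1, nat_lit 4, nat_lit 1, nat_lit 4, nat_lit 1, nat_lit 2, nat_lit 4, nat_lit 1, nat_lit 4, nat_lit 2, nat_lit 0, nat_lit 2, nat_lit 4, nat_lit 1, nat_lit 4] else [nat_lit 4, nat_lit 3, nat_lit 4, nat_lit 1, nat_lit 2, nat_lit 4, nat_lit 3, nat_lit 1, nat_lit 3, nat_lit 1, nat_lit 3, nat_lit 1, nat_lit 3, nat_lit 4, nat_lit 2, nat_lit 1]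
def Wt_261_264 (j : ℕ) : List ℕ := bif Nat.blt j 262 then [nat_lit 1, nat_lit 3, nat_lit 1, nat_lit 3, nat_lit 1, nat_lit 3, nat_lit 4, nat_lit 2, nat_lit 1, nat_lit 4, nat_lit 3, nat_lit 4, nat_lit 1, nat_lit 2, nat_lit 4, nat_lit 3] else (Wt_262_264 j)
def Wt_265_267 (j : ℕ) : List ℕ := bif Nat.blt j 266 then [nat_lit 4, nat_lit 3, nat_lit 4, nat_lit 3, nat_lit 4, nat_lit 3, nat_lit 4, nat_lit 1, nat_lit 4, nat_lit 1, nat_lit 4, nat_lit 1, nat_lit 4, nat_lit 1, nat_lit 3] else [nat_lit 4, nat_lit 1, nat_lit 2, nat_lit 4, nat_lit 3, nat_lit 1, nat_lit 3, nat_lit 1, nat_lit 3, nat_lit 1, nat_lit 3, nat_lit 4, nat_lit 2, nat_lit 1, nat_lit 4, nat_lit 3]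
def Wt_264_267 (j : ℕ) : List ℕ := bif Nat.blt j 265 then [nat_lit 0, nat_lit 1, nat_lit 3, nat_lit 0, nat_lit 3, nat_lit 0, nat_lit 3, nat_lit 0, nat_lit 1, nat_lit 3, nat_lit 0, nat_lit 3, nat_lit 0, nat_lit 3, nat_lit 0, nat_lit 1, nat_lit 3, nat_lit 0, nat_lit 3, nat_lit 0, nat_lit 3] else (Wt_265_267 j)
def Wt_261_267 (j : ℕ) : List ℕ := bif Nat.blt j 264 then (Wt_261_264 j) else (Wt_264_267 j)
def Wt_268_270 (j : ℕ) : List ℕ := bif Nat.blt j 269 then [nat_lit 4, nat_lit 1, nat_lit 2, nat_lit 4, nat_lit 3, nat_lit 4, nat_lit 2, nat_lit 4, nat_lit 1, nat_lit 4, nat_lit 1, nat_lit 2, nat_lit 4, nat_lit 2, nat_lit 4, nat_lit 2, nat_lit 1] else [nat_lit 3, nat_lit 4, nat_lit 2, nat_lit 4, nat_lit 2, nat_lit 4, nat_lit 3, nat_lit 4, nat_lit 3, nat_lit 0, nat_lit 3, nat_lit 1, nat_lit 2, nat_lit 1, nat_lit 4, nat_lit 2, nat_lit 4]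
def Wt_267_270 (j : ℕ) : List ℕ := bif Nat.blt j 268 then [nat_lit 4, nat_lit 1, nat_lit 4, nat_lit 0, nat_lit 1, nat_lit 0, nat_lit 4, nat_lit 1, nat_lit 2, nat_lit 3, nat_lit 1, nat_lit 0, nat_lit 4, nat_lit 3, nat_lit 4, nat_lit 2, nat_lit 3] else (Wt_268_270 j)
def Wt_271_273 (j : ℕ) : List ℕ := bif Nat.blt j 272 then [nat_lit 63, nat_lit 4, nat_lit 1, nat_lit 4, nat_lit 1, nat_lit 2, nat_lit 4, nat_lit 2, nat_lit 4, nat_lit 2, nat_lit 1, nat_lit 4, nat_lit 1, nat_lit 2, nat_lit 4, nat_lit 3, nat_lit 4, nat_lit 2] else [nat_lit 63, nat_lit 2, nat_lit 1, nat_lit 4, nat_lit 1, nat_lit 2, nat_lit 4, nat_lit 2, nat_lit 4, nat_lit 2, nat_lit 1, nat_lit 4, nat_lit 1, nat_lit 4, nat_lit 2, nat_lit 4, nat_lit 3, nat_lit 4]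
def Wt_270_273 (j : ℕ) : List ℕ := bif Nat.blt j 271 then [nat_lit 1, nat_lit 2, nat_lit 4, nat_lit 2, nat_lit 4, nat_lit 2, nat_lit 1, nat_lit 4, nat_lit 1, nat_lit 2, nat_lit 4, nat_lit 3, nat_lit 4, nat_lit 2, nat_lit 4, nat_lit 1, nat_lit 4] else (Wt_271_273 j)
def Wt_267_273 (j : ℕ) : List ℕ := bif Nat.blt j 270 then (Wt_267_270 j) else (Wt_270_273 j)
def Wt_261_273 (j : ℕ) : List ℕ := bif Nat.blt j 267 then (Wt_261_267 j) else (Wt_267_273 j)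
def Wt_274_276 (j : ℕ) : List ℕ := bif Nat.blt j 275 then [nat_lit 63, nat_lit 0, nat_lit 3, nat_lit 0, nat_lit 4, nat_lit 3, nat_lit 0, nat_lit 4, nat_lit 3, nat_lit 4, nat_lit 2, nat_lit 3, nat_lit 4, nat_lit 3, nat_lit 4, nat_lit 0, nat_lit 3, nat_lit 4] else [nat_lit 63, nat_lit 2, nat_lit 1, nat_lit 4, nat_lit 3, nat_lit 4, nat_lit 2, nat_lit 4, nat_lit 2, nat_lit 4, nat_lit 3, nat_lit 4, nat_lit 2, nat_lit 4, nat_lit 3, nat_lit 0, nat_lit 3, nat_lit 1]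
def Wt_273_276 (j : ℕ) : List ℕ := bif Nat.blt j 274 then [nat_lit 4, nat_lit 2, nat_lit 4, nat_lit 2, nat_lit 4, nat_lit 3, nat_lit 4, nat_lit 3, nat_lit 0, nat_lit 3, nat_lit 1, nat_lit 2, nat_lit 1, nat_lit 4, nat_lit 2, nat_lit 4, nat_lit 3] else (Wt_274_276 j)
def Wt_277_279 (j : ℕ) : List ℕ := bif Nat.blt j 278 then [nat_lit 1, nat_lit 4, nat_lit 3, nat_lit 2, nat_lit 4, nat_lit 1, nat_lit 0, nat_lit 4, nat_lit 1, nat_lit 2, nat_lit 1, nat_lit 4, nat_lit 1, nat_lit 2, nat_lit 1, nat_lit 4, nat_lit 0] else [nat_lit 2, nat_lit 0, nat_lit 2, nat_lit 4, nat_lit 1, nat_lit 4, nat_lit 2, nat_lit 1, nat_lit 4, nat_lit 1, nat_lit 4, nat_lit 1, nat_lit 2, nat_lit 4, nat_lit 1, nat_lit 4]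
def Wt_276_279 (j : ℕ) : List ℕ := bif Nat.blt j 277 then [nat_lit 4, nat_lit 1, nat_lit 0, nat_lit 4, nat_lit 1, nat_lit 2, nat_lit 1, nat_lit 4, nat_lit 1, nat_lit 2, nat_lit 1, nat_lit 4, nat_lit 0, nat_lit 1, nat_lit 4, nat_lit 2, nat_lit 3] else (Wt_277_279 j)
def Wt_273_279 (j : ℕ) : List ℕ := bif Nat.blt j 276 then (Wt_273_276 j) else (Wt_276_279 j)
def Wt_280_282 (j : ℕ) : List ℕ := bif Nat.blt j 281 then [nat_lit 4, nat_lit 1, nat_lit 4, nat_lit 2, nat_lit 0, nat_lit 4, nat_lit 1, nat_lit 4, nat_lit 2, nat_lit 0, nat_lit 4, nat_lit 1, nat_lit 4, nat_lit 0, nat_lit 2] else [nat_lit 63, nat_lit 2, nat_lit 4, nat_lit 1, nat_lit 4, nat_lit 2, nat_lit 0, nat_lit 2, nat_lit 4, nat_lit 1, nat_lit 4, nat_lit 2, nat_lit 1, nat_lit 4, nat_lit 1, nat_lit 4, nat_lit 1]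
def Wt_279_282 (j : ℕ) : List ℕ := bif Nat.blt j 280 then [nat_lit 4, nat_lit 2, nat_lit 4, nat_lit 3, nat_lit 2, nat_lit 4, nat_lit 1, nat_lit 3, nat_lit 0, nat_lit 3, nat_lit 4, nat_lit 2, nat_lit 3, nat_lit 4, nat_lit 2, nat_lit 4, nat_lit 1] else (Wt_280_282 j)
def Wt_283_285 (j : ℕ) : List ℕ := bif Nat.blt j 284 then [nat_lit 3, nat_lit 0, nat_lit 1, nat_lit 0, nat_lit 3, nat_lit 1, nat_lit 4, nat_lit 1, nat_lit 3, nat_lit 0, nat_lit 1, nat_lit 0, nat_lit 3, nat_lit 1, nat_lit 4, nat_lit 1] else [nat_lit 3, nat_lit 4, nat_lit 1, nat_lit 4, nat_lit 0, nat_lit 1, nat_lit 0, nat_lit 4, nat_lit 1, nat_lit 2, nat_lit 3, nat_lit 1, nat_lit 0, nat_lit 4, nat_lit 3, nat_lit 4, nat_lit 2]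
def Wt_282_285 (j : ℕ) : List ℕ := bif Nat.blt j 283 then [nat_lit 3, nat_lit 4, nat_lit 2, nat_lit 4, nat_lit 3, nat_lit 0, nat_lit 3, nat_lit 1, nat_lit 2, nat_lit 1, nat_lit 4, nat_lit 3, nat_lit 4, nat_lit 2, nat_lit 4, nat_lit 2, nat_lit 4] else (Wt_283_285 j)
def Wt_279_285 (j : ℕ) : List ℕ := bif Nat.blt j 282 then (Wt_279_282 j) else (Wt_282_285 j)
def Wt_273_285 (j : ℕ) : List ℕ := bif Nat.blt j 279 then (Wt_273_279 j) else (Wt_279_285 j)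
def Wt_261_285 (j : ℕ) : List ℕ := bif Nat.blt j 273 then (Wt_261_273 j) else (Wt_273_285 j)
def Wt_237_285 (j : ℕ) : List ℕ := bif Nat.blt j 261 then (Wt_237_261 j) else (Wt_261_285 j)
def Wt_190_285 (j : ℕ) : List ℕ := bif Nat.blt j 237 then (Wt_190_237 j) else (Wt_237_285 j)
def Wt_285_287 (j : ℕ) : List ℕ := bif Nat.blt j 286 then [nat_lit 63, nat_lit 4, nat_lit 1, nat_lit 4, nat_lit 2, nat_lit 0, nat_lit 4, nat_lit 1, nat_lit 4, nat_lit 0, nat_lit 2, nat_lit 4, nat_lit 1, nat_lit 4, nat_lit 2, nat_lit 0] else [nat_lit 63, nat_lit 1, nat_lit 4, nat_lit 1, nat_lit 4, nat_lit 0, nat_lit 4, nat_lit 1, nat_lit 4, nat_lit 2, nat_lit 1, nat_lit 4, nat_lit 1, nat_lit 4, nat_lit 3, nat_lit 2, nat_lit 0, nat_lit 3]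
def Wt_288_290 (j : ℕ) : List ℕ := bif Nat.blt j 289 then [nat_lit 63, nat_lit 0, nat_lit 1, nat_lit 2, nat_lit 3, nat_lit 1, nat_lit 2, nat_lit 1, nat_lit 0, nat_lit 1, nat_lit 2, nat_lit 3, nat_lit 1, nat_lit 2, nat_lit 1, nat_lit 0, nat_lit 1, nat_lit 2, nat_lit 3, nat_lit 1, nat_lit 2, nat_lit 1] else [nat_lit 3, nat_lit 1, nat_lit 0, nat_lit 3, nat_lit 0, nat_lit 3, nat_lit 2, nat_lit 3, nat_lit 1, nat_lit 0, nat_lit 3, nat_lit 0, nat_lit 3, nat_lit 2, nat_lit 3, nat_lit 1, nat_lit 0, nat_lit 3, nat_lit 0, nat_lit 3, nat_lit 2]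
def Wt_287_290 (j : ℕ) : List ℕ := bif Nat.blt j 288 then [nat_lit 63, nat_lit 3, nat_lit 0, nat_lit 3, nat_lit 2, nat_lit 3, nat_lit 1, nat_lit 0, nat_lit 3, nat_lit 0, nat_lit 3, nat_lit 2, nat_lit 3, nat_lit 1, nat_lit 0, nat_lit 3, nat_lit 0, nat_lit 3, nat_lit 2, nat_lit 3, nat_lit 1, nat_lit 0] else (Wt_288_290 j)
def Wt_285_290 (j : ℕ) : List ℕ := bif Nat.blt j 287 then (Wt_285_287 j) else (Wt_287_290 j)
def Wt_291_293 (j : ℕ) : List ℕ := bif Nat.blt j 292 then [nat_lit 63, nat_lit 4, nat_lit 3, nat_lit 4, nat_lit 3, nat_lit 4, nat_lit 1, nat_lit 4, nat_lit 1, nat_lit 4, nat_lit 1, nat_lit 4, nat_lit 1, nat_lit 3, nat_lit 4, nat_lit 3] else [nat_lit 63, nat_lit 1, nat_lit 3, nat_lit 0, nat_lit 3, nat_lit 4, nat_lit 2, nat_lit 4, nat_lit 3, nat_lit 4, nat_lit 2, nat_lit 4, nat_lit 2, nat_lit 4, nat_lit 3, nat_lit 4, nat_lit 1, nat_lit 2]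
def Wt_290_293 (j : ℕ) : List ℕ := bif Nat.blt j 291 then [nat_lit 3, nat_lit 0, nat_lit 3, nat_lit 0, nat_lit 3, nat_lit 0, nat_lit 3, nat_lit 0, nat_lit 3, nat_lit 0, nat_lit 3, nat_lit 0, nat_lit 3, nat_lit 0, nat_lit 3, nat_lit 0, nat_lit 3, nat_lit 0, nat_lit 3, nat_lit 0, nat_lit 3, nat_lit 0, nat_lit 3, nat_lit 0] else (Wt_291_293 j)
def Wt_294_296 (j : ℕ) : List ℕ := bif Nat.blt j 295 then [nat_lit 63, nat_lit 1, nat_lit 4, nat_lit 1, nat_lit 2, nat_lit 4, nat_lit 1, nat_lit 4, nat_lit 2, nat_lit 0, nat_lit 2, nat_lit 4, nat_lit 1, nat_lit 4, nat_lit 2, nat_lit 1, nat_lit 4] else [nat_lit 63, nat_lit 4, nat_lit 1, nat_lit 4, nat_lit 2, nat_lit 4, nat_lit 3, nat_lit 4, nat_lit 2, nat_lit 1, nat_lit 4, nat_lit 1, nat_lit 2, nat_lit 4, nat_lit 2, nat_lit 4, nat_lit 2, nat_lit 1]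
def Wt_293_296 (j : ℕ) : List ℕ := bif Nat.blt j 294 then [nat_lit 63, nat_lit 3, nat_lit 0, nat_lit 3, nat_lit 4, nat_lit 3, nat_lit 4, nat_lit 2, nat_lit 4, nat_lit 2, nat_lit 4, nat_lit 3, nat_lit 4, nat_lit 2, nat_lit 4, nat_lit 1, nat_lit 2, nat_lit 1] else (Wt_294_296 j)
def Wt_290_296 (j : ℕ) : List ℕ := bif Nat.blt j 293 then (Wt_290_293 j) else (Wt_293_296 j)
def Wt_285_296 (j : ℕ) : List ℕ := bif Nat.blt j 290 then (Wt_285_290 j) else (Wt_290_296 j)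
def Wt_297_299 (j : ℕ) : List ℕ := bif Nat.blt j 298 then [nat_lit 63, nat_lit 2, nat_lit 4, nat_lit 2, nat_lit 4, nat_lit 2, nat_lit 1, nat_lit 4, nat_lit 1, nat_lit 2, nat_lit 4, nat_lit 3, nat_lit 4, nat_lit 2, nat_lit 4, nat_lit 1, nat_lit 4, nat_lit 1] else [nat_lit 0, nat_lit 4, nat_lit 1, nat_lit 4, nat_lit 1, nat_lit 3, nat_lit 0, nat_lit 2, nat_lit 3, nat_lit 4, nat_lit 1, nat_lit 4, nat_lit 1, nat_lit 2, nat_lit 4, nat_lit 1, nat_lit 4]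
def Wt_296_299 (j : ℕ) : List ℕ := bif Nat.blt j 297 then [nat_lit 63, nat_lit 4, nat_lit 1, nat_lit 2, nat_lit 4, nat_lit 2, nat_lit 4, nat_lit 2, nat_lit 1, nat_lit 4, nat_lit 1, nat_lit 4, nat_lit 2, nat_lit 4, nat_lit 3, nat_lit 4, nat_lit 2, nat_lit 1] else (Wt_297_299 j)
def Wt_300_302 (j : ℕ) : List ℕ := bif Nat.blt j 301 then [nat_lit 2, nat_lit 4, nat_lit 1, nat_lit 4, nat_lit 2, nat_lit 0, nat_lit 2, nat_lit 4, nat_lit 1, nat_lit 4, nat_lit 2, nat_lit 1, nat_lit 4, nat_lit 1, nat_lit 4, nat_lit 1] else [nat_lit 2, nat_lit 4, nat_lit 3, nat_lit 0, nat_lit 3, nat_lit 1, nat_lit 4, nat_lit 2, nat_lit 3, nat_lit 4, nat_lit 2, nat_lit 4, nat_lit 1, nat_lit 4, nat_lit 2, nat_lit 4, nat_lit 3]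
def Wt_299_302 (j : ℕ) : List ℕ := bif Nat.blt j 300 then [nat_lit 63, nat_lit 2, nat_lit 4, nat_lit 2, nat_lit 4, nat_lit 2, nat_lit 1, nat_lit 4, nat_lit 1, nat_lit 4, nat_lit 2, nat_lit 4, nat_lit 3, nat_lit 4, nat_lit 2, nat_lit 1, nat_lit 4, nat_lit 1] else (Wt_300_302 j)
def Wt_296_302 (j : ℕ) : List ℕ := bif Nat.blt j 299 then (Wt_296_299 j) else (Wt_299_302 j)
def Wt_303_305 (j : ℕ) : List ℕ := bif Nat.blt j 304 then [nat_lit 4, nat_lit 3, nat_lit 4, nat_lit 2, nat_lit 4, nat_lit 1, nat_lit 2, nat_lit 1, nat_lit 3, nat_lit 0, nat_lit 3, nat_lit 4, nat_lit 3, nat_lit 4, nat_lit 2, nat_lit 4, nat_lit 2] else [nat_lit 2, nat_lit 4, nat_lit 3, nat_lit 4, nat_lit 2, nat_lit 1, nat_lit 4, nat_lit 1, nat_lit 2, nat_lit 4, nat_lit 2, nat_lit 4, nat_lit 2, nat_lit 1, nat_lit 4, nat_lit 1, nat_lit 4]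
def Wt_302_305 (j : ℕ) : List ℕ := bif Nat.blt j 303 then [nat_lit 63, nat_lit 4, nat_lit 2, nat_lit 3, nat_lit 4, nat_lit 2, nat_lit 4, nat_lit 1, nat_lit 4, nat_lit 2, nat_lit 4, nat_lit 3, nat_lit 2, nat_lit 4, nat_lit 3, nat_lit 0, nat_lit 3, nat_lit 1] else (Wt_303_305 j)
def Wt_306_308 (j : ℕ) : List ℕ := bif Nat.blt j 307 then [nat_lit 2, nat_lit 1, nat_lit 3, nat_lit 0, nat_lit 3, nat_lit 4, nat_lit 2, nat_lit 4, nat_lit 3, nat_lit 4, nat_lit 2, nat_lit 4, nat_lit 2, nat_lit 4, nat_lit 3, nat_lit 4, nat_lit 1] else [nat_lit 4, nat_lit 3, nat_lit 2, nat_lit 0, nat_lit 3, nat_lit 1, nat_lit 4, nat_lit 1, nat_lit 4, nat_lit 0, nat_lit 4, nat_lit 1, nat_lit 4, nat_lit 2, nat_lit 1, nat_lit 4, nat_lit 1]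
def Wt_305_308 (j : ℕ) : List ℕ := bif Nat.blt j 306 then [nat_lit 0, nat_lit 3, nat_lit 1, nat_lit 2, nat_lit 1, nat_lit 4, nat_lit 2, nat_lit 4, nat_lit 3, nat_lit 4, nat_lit 2, nat_lit 4, nat_lit 2, nat_lit 4, nat_lit 3, nat_lit 4, nat_lit 3] else (Wt_306_308 j)
def Wt_302_308 (j : ℕ) : List ℕ := bif Nat.blt j 305 then (Wt_302_305 j) else (Wt_305_308 j)
def Wt_296_308 (j : ℕ) : List ℕ := bif Nat.blt j 302 then (Wt_296_302 j) else (Wt_302_308 j)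
def Wt_285_308 (j : ℕ) : List ℕ := bif Nat.blt j 296 then (Wt_285_296 j) else (Wt_296_308 j)
def Wt_309_311 (j : ℕ) : List ℕ := bif Nat.blt j 310 then [nat_lit 3, nat_lit 4, nat_lit 2, nat_lit 4, nat_lit 1, nat_lit 4, nat_lit 2, nat_lit 4, nat_lit 3, nat_lit 2, nat_lit 4, nat_lit 3, nat_lit 0, nat_lit 3, nat_lit 1, nat_lit 4, nat_lit 2] else [nat_lit 63, nat_lit 3, nat_lit 1, nat_lit 4, nat_lit 2, nat_lit 3, nat_lit 4, nat_lit 2, nat_lit 4, nat_lit 1, nat_lit 4, nat_lit 2, nat_lit 4, nat_lit 3, nat_lit 2, nat_lit 4, nat_lit 3, nat_lit 0]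
def Wt_308_311 (j : ℕ) : List ℕ := bif Nat.blt j 309 then [nat_lit 3, nat_lit 4, nat_lit 2, nat_lit 3, nat_lit 4, nat_lit 2, nat_lit 4, nat_lit 1, nat_lit 4, nat_lit 2, nat_lit 4, nat_lit 3, nat_lit 2, nat_lit 4, nat_lit 1, nat_lit 3, nat_lit 0] else (Wt_309_311 j)
def Wt_312_314 (j : ℕ) : List ℕ := bif Nat.blt j 313 then [nat_lit 1, nat_lit 4, nat_lit 2, nat_lit 3, nat_lit 4, nat_lit 2, nat_lit 4, nat_lit 1, nat_lit 4, nat_lit 2, nat_lit 4, nat_lit 3, nat_lit 2, nat_lit 4, nat_lit 3, nat_lit 0, nat_lit 3] else [nat_lit 63, nat_lit 1, nat_lit 2, nat_lit 3, nat_lit 0, nat_lit 3, nat_lit 1, nat_lit 2, nat_lit 3, nat_lit 0, nat_lit 3, nat_lit 1, nat_lit 2, nat_lit 3, nat_lit 0, nat_lit 3, nat_lit 1, nat_lit 2, nat_lit 3, nat_lit 0, nat_lit 3]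
def Wt_311_314 (j : ℕ) : List ℕ := bif Nat.blt j 312 then [nat_lit 3, nat_lit 2, nat_lit 4, nat_lit 1, nat_lit 3, nat_lit 0, nat_lit 3, nat_lit 4, nat_lit 2, nat_lit 3, nat_lit 4, nat_lit 2, nat_lit 4, nat_lit 1, nat_lit 4, nat_lit 2, nat_lit 4] else (Wt_312_314 j)
def Wt_308_314 (j : ℕ) : List ℕ := bif Nat.blt j 311 then (Wt_308_311 j) else (Wt_311_314 j)
def Wt_315_317 (j : ℕ) : List ℕ := bif Nat.blt j 316 then [nat_lit 1, nat_lit 3, nat_lit 1, nat_lit 2, nat_lit 1, nat_lit 0, nat_lit 1, nat_lit 3, nat_lit 1, nat_lit 2, nat_lit 1, nat_lit 0, nat_lit 1, nat_lit 3, nat_lit 1, nat_lit 2, nat_lit 1, nat_lit 0] else [nat_lit 4, nat_lit 1, nat_lit 4, nat_lit 2, nat_lit 4, nat_lit 3, nat_lit 2, nat_lit 4, nat_lit 1, nat_lit 3, nat_lit 0, nat_lit 3, nat_lit 4, nat_lit 2, nat_lit 3, nat_lit 4, nat_lit 2]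
def Wt_314_317 (j : ℕ) : List ℕ := bif Nat.blt j 315 then [nat_lit 1, nat_lit 0, nat_lit 1, nat_lit 2, nat_lit 1, nat_lit 3, nat_lit 1, nat_lit 0, nat_lit 1, nat_lit 2, nat_lit 1, nat_lit 3, nat_lit 1, nat_lit 0, nat_lit 1, nat_lit 2, nat_lit 1, nat_lit 3] else (Wt_315_317 j)
def Wt_318_320 (j : ℕ) : List ℕ := bif Nat.blt j 319 then [nat_lit 3, nat_lit 2, nat_lit 4, nat_lit 3, nat_lit 4, nat_lit 0, nat_lit 3, nat_lit 4, nat_lit 0, nat_lit 3, nat_lit 0, nat_lit 4, nat_lit 3, nat_lit 0, nat_lit 4, nat_lit 3, nat_lit 4] else [nat_lit 1, nat_lit 2, nat_lit 1, nat_lit 4, nat_lit 0, nat_lit 1, nat_lit 4, nat_lit 3, nat_lit 2, nat_lit 4, nat_lit 1, nat_lit 0, nat_lit 4, nat_lit 1, nat_lit 2, nat_lit 1, nat_lit 4]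
def Wt_317_320 (j : ℕ) : List ℕ := bif Nat.blt j 318 then [nat_lit 4, nat_lit 2, nat_lit 3, nat_lit 4, nat_lit 1, nat_lit 4, nat_lit 0, nat_lit 1, nat_lit 0, nat_lit 4, nat_lit 1, nat_lit 2, nat_lit 3, nat_lit 1, nat_lit 0, nat_lit 4, nat_lit 3] else (Wt_318_320 j)
def Wt_314_320 (j : ℕ) : List ℕ := bif Nat.blt j 317 then (Wt_314_317 j) else (Wt_317_320 j)
def Wt_308_320 (j : ℕ) : List ℕ := bif Nat.blt j 314 then (Wt_308_314 j) else (Wt_314_320 j)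
def Wt_321_323 (j : ℕ) : List ℕ := bif Nat.blt j 322 then [nat_lit 4, nat_lit 3, nat_lit 4, nat_lit 2, nat_lit 4, nat_lit 3, nat_lit 0, nat_lit 3, nat_lit 1, nat_lit 2, nat_lit 1, nat_lit 4, nat_lit 3, nat_lit 4, nat_lit 2, nat_lit 4, nat_lit 2] else [nat_lit 63, nat_lit 0, nat_lit 3, nat_lit 4, nat_lit 2, nat_lit 4, nat_lit 3, nat_lit 4, nat_lit 2, nat_lit 4, nat_lit 2, nat_lit 4, nat_lit 3, nat_lit 4, nat_lit 1, nat_lit 2, nat_lit 1, nat_lit 3]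
def Wt_320_323 (j : ℕ) : List ℕ := bif Nat.blt j 321 then [nat_lit 4, nat_lit 1, nat_lit 4, nat_lit 1, nat_lit 3, nat_lit 0, nat_lit 2, nat_lit 3, nat_lit 4, nat_lit 1, nat_lit 4, nat_lit 1, nat_lit 2, nat_lit 4, nat_lit 1, nat_lit 4, nat_lit 0] else (Wt_321_323 j)
def Wt_324_326 (j : ℕ) : List ℕ := bif Nat.blt j 325 then [nat_lit 0, nat_lit 3, nat_lit 4, nat_lit 0, nat_lit 3, nat_lit 0, nat_lit 4, nat_lit 3, nat_lit 0, nat_lit 4, nat_lit 3, nat_lit 4, nat_lit 2, nat_lit 3, nat_lit 4, nat_lit 3, nat_lit 4] else [nat_lit 63, nat_lit 0, nat_lit 3, nat_lit 1, nat_lit 4, nat_lit 1, nat_lit 4, nat_lit 0, nat_lit 4, nat_lit 1, nat_lit 4, nat_lit 2, nat_lit 1, nat_lit 4, nat_lit 1, nat_lit 4, nat_lit 3, nat_lit 2]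
def Wt_323_326 (j : ℕ) : List ℕ := bif Nat.blt j 324 then [nat_lit 63, nat_lit 4, nat_lit 1, nat_lit 4, nat_lit 2, nat_lit 1, nat_lit 4, nat_lit 1, nat_lit 4, nat_lit 3, nat_lit 2, nat_lit 0, nat_lit 3, nat_lit 1, nat_lit 4, nat_lit 1, nat_lit 4, nat_lit 0] else (Wt_324_326 j)
def Wt_320_326 (j : ℕ) : List ℕ := bif Nat.blt j 323 then (Wt_320_323 j) else (Wt_323_326 j)
def Wt_327_329 (j : ℕ) : List ℕ := bif Nat.blt j 328 then [nat_lit 4, nat_lit 1, nat_lit 4, nat_lit 2, nat_lit 1, nat_lit 4, nat_lit 1, nat_lit 4, nat_lit 3, nat_lit 2, nat_lit 0, nat_lit 3, nat_lit 1, nat_lit 4, nat_lit 1, nat_lit 4, nat_lit 0] else [nat_lit 4, nat_lit 0, nat_lit 3, nat_lit 0, nat_lit 4, nat_lit 3, nat_lit 0, nat_lit 4, nat_lit 3, nat_lit 4, nat_lit 2, nat_lit 3, nat_lit 4, nat_lit 3, nat_lit 4, nat_lit 0, nat_lit 3]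
def Wt_326_329 (j : ℕ) : List ℕ := bif Nat.blt j 327 then [nat_lit 63, nat_lit 0, nat_lit 3, nat_lit 1, nat_lit 0, nat_lit 3, nat_lit 0, nat_lit 3, nat_lit 0, nat_lit 3, nat_lit 1, nat_lit 0, nat_lit 3, nat_lit 0, nat_lit 3, nat_lit 0, nat_lit 3, nat_lit 1, nat_lit 0, nat_lit 3, nat_lit 0, nat_lit 3] else (Wt_327_329 j)
def Wt_330_332 (j : ℕ) : List ℕ := bif Nat.blt j 331 then [nat_lit 0, nat_lit 4, nat_lit 3, nat_lit 0, nat_lit 4, nat_lit 3, nat_lit 4, nat_lit 2, nat_lit 3, nat_lit 4, nat_lit 3, nat_lit 4, nat_lit 0, nat_lit 3, nat_lit 4, nat_lit 0, nat_lit 3] else [nat_lit 0, nat_lit 2, nat_lit 4, nat_lit 0, nat_lit 2, nat_lit 4, nat_lit 3, nat_lit 2, nat_lit 3, nat_lit 0, nat_lit 4, nat_lit 2, nat_lit 0, nat_lit 4, nat_lit 2, nat_lit 0, nat_lit 4]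
def Wt_329_332 (j : ℕ) : List ℕ := bif Nat.blt j 330 then [nat_lit 1, nat_lit 0, nat_lit 4, nat_lit 1, nat_lit 0, nat_lit 2, nat_lit 1, nat_lit 0, nat_lit 1, nat_lit 3, nat_lit 4, nat_lit 0, nat_lit 1, nat_lit 4, nat_lit 1, nat_lit 3, nat_lit 4] else (Wt_330_332 j)
def Wt_326_332 (j : ℕ) : List ℕ := bif Nat.blt j 329 then (Wt_326_329 j) else (Wt_329_332 j)
def Wt_320_332 (j : ℕ) : List ℕ := bif Nat.blt j 326 then (Wt_320_326 j) else (Wt_326_332 j)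
def Wt_308_332 (j : ℕ) : List ℕ := bif Nat.blt j 320 then (Wt_308_320 j) else (Wt_320_332 j)
def Wt_285_332 (j : ℕ) : List ℕ := bif Nat.blt j 308 then (Wt_285_308 j) else (Wt_308_332 j)
def Wt_333_335 (j : ℕ) : List ℕ := bif Nat.blt j 334 then [nat_lit 0, nat_lit 1, nat_lit 0, nat_lit 4, nat_lit 1, nat_lit 2, nat_lit 3, nat_lit 1, nat_lit 0, nat_lit 4, nat_lit 3, nat_lit 4, nat_lit 2, nat_lit 3, nat_lit 4, nat_lit 1, nat_lit 4] else [nat_lit 2, nat_lit 3, nat_lit 1, nat_lit 0, nat_lit 4, nat_lit 3, nat_lit 4, nat_lit 2, nat_lit 3, nat_lit 4, nat_lit 1, nat_lit 4, nat_lit 0, nat_lit 1, nat_lit 0, nat_lit 4, nat_lit 1]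
def Wt_332_335 (j : ℕ) : List ℕ := bif Nat.blt j 333 then [nat_lit 2, nat_lit 0, nat_lit 4, nat_lit 2, nat_lit 0, nat_lit 4, nat_lit 0, nat_lit 2, nat_lit 4, nat_lit 0, nat_lit 2, nat_lit 4, nat_lit 3, nat_lit 2, nat_lit 3, nat_lit 0, nat_lit 4] else (Wt_333_335 j)
def Wt_336_338 (j : ℕ) : List ℕ := bif Nat.blt j 337 then [nat_lit 63, nat_lit 1, nat_lit 4, nat_lit 2, nat_lit 3, nat_lit 4, nat_lit 2, nat_lit 4, nat_lit 1, nat_lit 4, nat_lit 2, nat_lit 4, nat_lit 3, nat_lit 2, nat_lit 4, nat_lit 3, nat_lit 0, nat_lit 3] else [nat_lit 0, nat_lit 3, nat_lit 0, nat_lit 3, nat_lit 2, nat_lit 3, nat_lit 1, nat_lit 0, nat_lit 3, nat_lit 0, nat_lit 3, nat_lit 2, nat_lit 3, nat_lit 1, nat_lit 0, nat_lit 3, nat_lit 0, nat_lit 3, nat_lit 2, nat_lit 3, nat_lit 1]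
def Wt_335_338 (j : ℕ) : List ℕ := bif Nat.blt j 336 then [nat_lit 4, nat_lit 3, nat_lit 2, nat_lit 4, nat_lit 1, nat_lit 3, nat_lit 0, nat_lit 3, nat_lit 4, nat_lit 2, nat_lit 3, nat_lit 4, nat_lit 2, nat_lit 4, nat_lit 1, nat_lit 4, nat_lit 2] else (Wt_336_338 j)
def Wt_332_338 (j : ℕ) : List ℕ := bif Nat.blt j 335 then (Wt_332_335 j) else (Wt_335_338 j)
def Wt_339_341 (j : ℕ) : List ℕ := bif Nat.blt j 340 then [nat_lit 1, nat_lit 0, nat_lit 1, nat_lit 3, nat_lit 1, nat_lit 2, nat_lit 1, nat_lit 0, nat_lit 1, nat_lit 3, nat_lit 1, nat_lit 2, nat_lit 1, nat_lit 0, nat_lit 1, nat_lit 3, nat_lit 1, nat_lit 2] else [nat_lit 1, nat_lit 0, nat_lit 1, nat_lit 2, nat_lit 1, nat_lit 3, nat_lit 2, nat_lit 1, nat_lit 0, nat_lit 1, nat_lit 2, nat_lit 1, nat_lit 3, nat_lit 2, nat_lit 1, nat_lit 0, nat_lit 1, nat_lit 2, nat_lit 1, nat_lit 3, nat_lit 2]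
def Wt_338_341 (j : ℕ) : List ℕ := bif Nat.blt j 339 then [nat_lit 63, nat_lit 1, nat_lit 2, nat_lit 0, nat_lit 1, nat_lit 2, nat_lit 0, nat_lit 1, nat_lit 2, nat_lit 0, nat_lit 1, nat_lit 2, nat_lit 0, nat_lit 1, nat_lit 2, nat_lit 0] else (Wt_339_341 j)
def Wt_342_344 (j : ℕ) : List ℕ := bif Nat.blt j 343 then [nat_lit 1, nat_lit 3, nat_lit 2, nat_lit 1, nat_lit 0, nat_lit 1, nat_lit 2, nat_lit 1, nat_lit 3, nat_lit 2, nat_lit 1, nat_lit 0, nat_lit 1, nat_lit 2, nat_lit 1, nat_lit 3, nat_lit 2, nat_lit 1, nat_lit 0, nat_lit 1, nat_lit 2] else [nat_lit 63, nat_lit 3, nat_lit 1, nat_lit 2, nat_lit 1, nat_lit 0, nat_lit 1, nat_lit 2, nat_lit 3, nat_lit 1, nat_lit 2, nat_lit 1, nat_lit 0, nat_lit 1, nat_lit 2, nat_lit 3, nat_lit 1, nat_lit 2, nat_lit 1, nat_lit 0, nat_lit 1, nat_lit 2]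
def Wt_341_344 (j : ℕ) : List ℕ := bif Nat.blt j 342 then [nat_lit 1, nat_lit 4, nat_lit 1, nat_lit 2, nat_lit 4, nat_lit 3, nat_lit 4, nat_lit 2, nat_lit 4, nat_lit 1, nat_lit 4, nat_lit 1, nat_lit 2, nat_lit 4, nat_lit 2, nat_lit 4, nat_lit 2] else (Wt_342_344 j)
def Wt_338_344 (j : ℕ) : List ℕ := bif Nat.blt j 341 then (Wt_338_341 j) else (Wt_341_344 j)
def Wt_332_344 (j : ℕ) : List ℕ := bif Nat.blt j 338 then (Wt_332_338 j) else (Wt_338_344 j)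
def Wt_345_347 (j : ℕ) : List ℕ := bif Nat.blt j 346 then [nat_lit 63, nat_lit 1, nat_lit 2, nat_lit 1, nat_lit 0, nat_lit 1, nat_lit 2, nat_lit 1, nat_lit 0, nat_lit 1, nat_lit 2, nat_lit 1, nat_lit 0] else [nat_lit 63, nat_lit 0, nat_lit 3, nat_lit 0, nat_lit 1, nat_lit 3, nat_lit 0, nat_lit 3, nat_lit 0, nat_lit 3, nat_lit 0, nat_lit 1, nat_lit 3, nat_lit 0, nat_lit 3, nat_lit 0, nat_lit 3, nat_lit 0, nat_lit 1, nat_lit 3, nat_lit 0, nat_lit 3]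
def Wt_344_347 (j : ℕ) : List ℕ := bif Nat.blt j 345 then [nat_lit 2, nat_lit 1, nat_lit 3, nat_lit 1, nat_lit 0, nat_lit 1, nat_lit 2, nat_lit 1, nat_lit 3, nat_lit 1, nat_lit 0, nat_lit 1, nat_lit 2, nat_lit 1, nat_lit 3, nat_lit 1, nat_lit 0, nat_lit 1] else (Wt_345_347 j)
def Wt_348_350 (j : ℕ) : List ℕ := bif Nat.blt j 349 then [nat_lit 2, nat_lit 1, nat_lit 0, nat_lit 1, nat_lit 2, nat_lit 3, nat_lit 1, nat_lit 2, nat_lit 1, nat_lit 0, nat_lit 1, nat_lit 2, nat_lit 3, nat_lit 1, nat_lit 2, nat_lit 1, nat_lit 0, nat_lit 1, nat_lit 2, nat_lit 3, nat_lit 1] else [nat_lit 3, nat_lit 0, nat_lit 3, nat_lit 1, nat_lit 0, nat_lit 3, nat_lit 0, nat_lit 3, nat_lit 0, nat_lit 3, nat_lit 1, nat_lit 0, nat_lit 3, nat_lit 0, nat_lit 3, nat_lit 0, nat_lit 3, nat_lit 1, nat_lit 0, nat_lit 3, nat_lit 0]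
def Wt_347_350 (j : ℕ) : List ℕ := bif Nat.blt j 348 then [nat_lit 63, nat_lit 2, nat_lit 1, nat_lit 0, nat_lit 1, nat_lit 2, nat_lit 1, nat_lit 0, nat_lit 1, nat_lit 2, nat_lit 1, nat_lit 0, nat_lit 1] else (Wt_348_350 j)
def Wt_344_350 (j : ℕ) : List ℕ := bif Nat.blt j 347 then (Wt_344_347 j) else (Wt_347_350 j)
def Wt_351_353 (j : ℕ) : List ℕ := bif Nat.blt j 352 then [nat_lit 0, nat_lit 4, nat_lit 3, nat_lit 1, nat_lit 4, nat_lit 2, nat_lit 1, nat_lit 2, nat_lit 4, nat_lit 1, nat_lit 3, nat_lit 4, nat_lit 0, nat_lit 4, nat_lit 2, nat_lit 0, nat_lit 4] else [nat_lit 3, nat_lit 4, nat_lit 0, nat_lit 4, nat_lit 2, nat_lit 0, nat_lit 4, nat_lit 0, nat_lit 4, nat_lit 3, nat_lit 1, nat_lit 4, nat_lit 2, nat_lit 1, nat_lit 2, nat_lit 4, nat_lit 1]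
def Wt_350_353 (j : ℕ) : List ℕ := bif Nat.blt j 351 then [nat_lit 1, nat_lit 4, nat_lit 0, nat_lit 1, nat_lit 0, nat_lit 4, nat_lit 1, nat_lit 2, nat_lit 3, nat_lit 1, nat_lit 0, nat_lit 4, nat_lit 3, nat_lit 4, nat_lit 2, nat_lit 3, nat_lit 4] else (Wt_351_353 j)
def Wt_354_356 (j : ℕ) : List ℕ := bif Nat.blt j 355 then [nat_lit 3, nat_lit 1, nat_lit 4, nat_lit 1, nat_lit 3, nat_lit 0, nat_lit 1, nat_lit 0, nat_lit 3, nat_lit 1, nat_lit 4, nat_lit 1, nat_lit 3, nat_lit 0, nat_lit 1, nat_lit 0] else [nat_lit 4, nat_lit 2, nat_lit 0, nat_lit 2, nat_lit 4, nat_lit 1, nat_lit 4, nat_lit 2, nat_lit 1, nat_lit 4, nat_lit 1, nat_lit 4, nat_lit 1, nat_lit 2, nat_lit 4, nat_lit 1]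
def Wt_353_356 (j : ℕ) : List ℕ := bif Nat.blt j 354 then [nat_lit 4, nat_lit 2, nat_lit 1, nat_lit 4, nat_lit 1, nat_lit 2, nat_lit 4, nat_lit 2, nat_lit 4, nat_lit 2, nat_lit 1, nat_lit 4, nat_lit 1, nat_lit 4, nat_lit 2, nat_lit 4, nat_lit 3] else (Wt_354_356 j)
def Wt_350_356 (j : ℕ) : List ℕ := bif Nat.blt j 353 then (Wt_350_353 j) else (Wt_353_356 j)
def Wt_344_356 (j : ℕ) : List ℕ := bif Nat.blt j 350 then (Wt_344_350 j) else (Wt_350_356 j)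
def Wt_332_356 (j : ℕ) : List ℕ := bif Nat.blt j 344 then (Wt_332_344 j) else (Wt_344_356 j)
def Wt_357_359 (j : ℕ) : List ℕ := bif Nat.blt j 358 then [nat_lit 0, nat_lit 1, nat_lit 4, nat_lit 0, nat_lit 1, nat_lit 4, nat_lit 3, nat_lit 1, nat_lit 4, nat_lit 1, nat_lit 0, nat_lit 4, nat_lit 3, nat_lit 1, nat_lit 0, nat_lit 1, nat_lit 2] else [nat_lit 1, nat_lit 3, nat_lit 4, nat_lit 2, nat_lit 1, nat_lit 4, nat_lit 3, nat_lit 4, nat_lit 1, nat_lit 2, nat_lit 4, nat_lit 3, nat_lit 1, nat_lit 3, nat_lit 1, nat_lit 3]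
def Wt_356_359 (j : ℕ) : List ℕ := bif Nat.blt j 357 then [nat_lit 63, nat_lit 4, nat_lit 2, nat_lit 0, nat_lit 4, nat_lit 1, nat_lit 4, nat_lit 2, nat_lit 0, nat_lit 4, nat_lit 1, nat_lit 4, nat_lit 0, nat_lit 2, nat_lit 4, nat_lit 1] else (Wt_357_359 j)
def Wt_360_362 (j : ℕ) : List ℕ := bif Nat.blt j 361 then [nat_lit 1, nat_lit 3, nat_lit 0, nat_lit 1, nat_lit 0, nat_lit 3, nat_lit 1, nat_lit 4, nat_lit 1, nat_lit 3, nat_lit 0, nat_lit 1, nat_lit 0, nat_lit 3, nat_lit 1, nat_lit 4] else [nat_lit 3, nat_lit 4, nat_lit 0, nat_lit 1, nat_lit 4, nat_lit 1, nat_lit 3, nat_lit 4, nat_lit 1, nat_lit 0, nat_lit 4, nat_lit 1, nat_lit 0, nat_lit 2, nat_lit 1, nat_lit 0, nat_lit 1]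
def Wt_359_362 (j : ℕ) : List ℕ := bif Nat.blt j 360 then [nat_lit 3, nat_lit 2, nat_lit 1, nat_lit 0, nat_lit 1, nat_lit 2, nat_lit 1, nat_lit 3, nat_lit 2, nat_lit 1, nat_lit 0, nat_lit 1, nat_lit 2, nat_lit 1, nat_lit 3, nat_lit 2, nat_lit 1, nat_lit 0, nat_lit 1, nat_lit 2, nat_lit 1] else (Wt_360_362 j)
def Wt_356_362 (j : ℕ) : List ℕ := bif Nat.blt j 359 then (Wt_356_359 j) else (Wt_359_362 j)
def Wt_363_365 (j : ℕ) : List ℕ := bif Nat.blt j 364 then [nat_lit 0, nat_lit 1, nat_lit 4, nat_lit 3, nat_lit 1, nat_lit 4, nat_lit 1, nat_lit 0, nat_lit 4, nat_lit 3, nat_lit 1, nat_lit 0, nat_lit 1, nat_lit 2, nat_lit 0, nat_lit 1, nat_lit 4] else [nat_lit 3, nat_lit 2, nat_lit 4, nat_lit 3, nat_lit 4, nat_lit 0, nat_lit 1, nat_lit 3, nat_lit 2, nat_lit 1, nat_lit 4, nat_lit 0, nat_lit 1, nat_lit 0, nat_lit 4, nat_lit 1, nat_lit 4]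
def Wt_362_365 (j : ℕ) : List ℕ := bif Nat.blt j 363 then [nat_lit 1, nat_lit 4, nat_lit 3, nat_lit 4, nat_lit 1, nat_lit 2, nat_lit 4, nat_lit 3, nat_lit 1, nat_lit 3, nat_lit 1, nat_lit 3, nat_lit 1, nat_lit 3, nat_lit 4, nat_lit 2] else (Wt_363_365 j)
def Wt_366_368 (j : ℕ) : List ℕ := bif Nat.blt j 367 then [nat_lit 63, nat_lit 0, nat_lit 2, nat_lit 1, nat_lit 0, nat_lit 2, nat_lit 3, nat_lit 0, nat_lit 2, nat_lit 1, nat_lit 0, nat_lit 2, nat_lit 3, nat_lit 0, nat_lit 2, nat_lit 1, nat_lit 0, nat_lit 2, nat_lit 3] else [nat_lit 63, nat_lit 3, nat_lit 2, nat_lit 0, nat_lit 1, nat_lit 2, nat_lit 0, nat_lit 3, nat_lit 2, nat_lit 0, nat_lit 1, nat_lit 2, nat_lit 0, nat_lit 3, nat_lit 2, nat_lit 0, nat_lit 1, nat_lit 2, nat_lit 0]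
def Wt_365_368 (j : ℕ) : List ℕ := bif Nat.blt j 366 then [nat_lit 0, nat_lit 4, nat_lit 2, nat_lit 0, nat_lit 4, nat_lit 0, nat_lit 4, nat_lit 3, nat_lit 1, nat_lit 4, nat_lit 2, nat_lit 1, nat_lit 2, nat_lit 4, nat_lit 1, nat_lit 3, nat_lit 4] else (Wt_366_368 j)
def Wt_362_368 (j : ℕ) : List ℕ := bif Nat.blt j 365 then (Wt_362_365 j) else (Wt_365_368 j)
def Wt_356_368 (j : ℕ) : List ℕ := bif Nat.blt j 362 then (Wt_356_362 j) else (Wt_362_368 j)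
def Wt_369_371 (j : ℕ) : List ℕ := bif Nat.blt j 370 then [nat_lit 3, nat_lit 1, nat_lit 3, nat_lit 1, nat_lit 3, nat_lit 1, nat_lit 3, nat_lit 4, nat_lit 2, nat_lit 1, nat_lit 4, nat_lit 3, nat_lit 4, nat_lit 1, nat_lit 2, nat_lit 4] else [nat_lit 2, nat_lit 1, nat_lit 3, nat_lit 2, nat_lit 1, nat_lit 0, nat_lit 1, nat_lit 2, nat_lit 1, nat_lit 3, nat_lit 2, nat_lit 1, nat_lit 0, nat_lit 1, nat_lit 2, nat_lit 1, nat_lit 3, nat_lit 2, nat_lit 1, nat_lit 0, nat_lit 1]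
def Wt_368_371 (j : ℕ) : List ℕ := bif Nat.blt j 369 then [nat_lit 2, nat_lit 3, nat_lit 4, nat_lit 1, nat_lit 4, nat_lit 0, nat_lit 1, nat_lit 0, nat_lit 4, nat_lit 1, nat_lit 2, nat_lit 3, nat_lit 1, nat_lit 0, nat_lit 4, nat_lit 3, nat_lit 4] else (Wt_369_371 j)
def Wt_372_374 (j : ℕ) : List ℕ := bif Nat.blt j 373 then [nat_lit 63, nat_lit 0, nat_lit 1, nat_lit 2, nat_lit 0, nat_lit 3, nat_lit 2, nat_lit 0, nat_lit 1, nat_lit 2, nat_lit 0, nat_lit 3, nat_lit 2, nat_lit 0, nat_lit 1, nat_lit 2, nat_lit 0, nat_lit 3, nat_lit 2] else [nat_lit 63, nat_lit 2, nat_lit 1, nat_lit 0, nat_lit 1, nat_lit 2, nat_lit 1, nat_lit 3, nat_lit 2, nat_lit 1, nat_lit 0, nat_lit 1, nat_lit 2, nat_lit 1, nat_lit 3, nat_lit 2, nat_lit 1, nat_lit 0, nat_lit 1, nat_lit 2, nat_lit 1, nat_lit 3]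
def Wt_371_374 (j : ℕ) : List ℕ := bif Nat.blt j 372 then [nat_lit 63, nat_lit 0, nat_lit 1, nat_lit 2, nat_lit 1, nat_lit 3, nat_lit 2, nat_lit 1, nat_lit 0, nat_lit 1, nat_lit 2, nat_lit 1, nat_lit 3, nat_lit 2, nat_lit 1, nat_lit 0, nat_lit 1, nat_lit 2, nat_lit 1, nat_lit 3, nat_lit 2, nat_lit 1] else (Wt_372_374 j)
def Wt_368_374 (j : ℕ) : List ℕ := bif Nat.blt j 371 then (Wt_368_371 j) else (Wt_371_374 j)
def Wt_375_377 (j : ℕ) : List ℕ := bif Nat.blt j 376 then [nat_lit 63, nat_lit 0, nat_lit 3, nat_lit 0, nat_lit 3, nat_lit 0, nat_lit 1, nat_lit 3, nat_lit 0, nat_lit 3, nat_lit 0, nat_lit 3, nat_lit 0, nat_lit 1, nat_lit 3, nat_lit 0, nat_lit 3, nat_lit 0, nat_lit 3, nat_lit 0, nat_lit 1, nat_lit 3] else [nat_lit 63, nat_lit 3, nat_lit 0, nat_lit 3, nat_lit 1, nat_lit 2, nat_lit 3, nat_lit 0, nat_lit 3, nat_lit 1, nat_lit 2, nat_lit 3, nat_lit 0, nat_lit 3, nat_lit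 1, nat_lit 2, nat_lit 3, nat_lit 0, nat_lit 3, nat_lit 1, nat_lit 2]
def Wt_374_377 (j : ℕ) : List ℕ := bif Nat.blt j 375 then [nat_lit 63, nat_lit 0, nat_lit 3, nat_lit 0, nat_lit 3, nat_lit 0, nat_lit 3, nat_lit 1, nat_lit 0, nat_lit 3, nat_lit 0, nat_lit 3, nat_lit 0, nat_lit 3, nat_lit 1, nat_lit 0, nat_lit 3, nat_lit 0, nat_lit 3, nat_lit 0, nat_lit 3, nat_lit 1] else (Wt_375_377 j)
def Wt_378_380 (j : ℕ) : List ℕ := bif Nat.blt j 379 then [nat_lit 2, nat_lit 1, nat_lit 0, nat_lit 1, nat_lit 2, nat_lit 0, nat_lit 2, nat_lit 1, nat_lit 0, nat_lit 1, nat_lit 2, nat_lit 0, nat_lit 2, nat_lit 1, nat_lit 0, nat_lit 1, nat_lit 2, nat_lit 0] else [nat_lit 0, nat_lit 1, nat_lit 2, nat_lit 0, nat_lit 3, nat_lit 2, nat_lit 0, nat_lit 1, nat_lit 2, nat_lit 0, nat_lit 3, nat_lit 2, nat_lit 0, nat_lit 1, nat_lit 2, nat_lit 0, nat_lit 3, nat_lit 2]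
def Wt_377_380 (j : ℕ) : List ℕ := bif Nat.blt j 378 then [nat_lit 63, nat_lit 1, nat_lit 0, nat_lit 2, nat_lit 0, nat_lit 1, nat_lit 2, nat_lit 1, nat_lit 0, nat_lit 2, nat_lit 0, nat_lit 1, nat_lit 2] else (Wt_378_380 j)
def Wt_374_380 (j : ℕ) : List ℕ := bif Nat.blt j 377 then (Wt_374_377 j) else (Wt_377_380 j)
def Wt_368_380 (j : ℕ) : List ℕ := bif Nat.blt j 374 then (Wt_368_374 j) else (Wt_374_380 j)
def Wt_356_380 (j : ℕ) : List ℕ := bif Nat.blt j 368 then (Wt_356_368 j) else (Wt_368_380 j)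
def Wt_332_380 (j : ℕ) : List ℕ := bif Nat.blt j 356 then (Wt_332_356 j) else (Wt_356_380 j)
def Wt_285_380 (j : ℕ) : List ℕ := bif Nat.blt j 332 then (Wt_285_332 j) else (Wt_332_380 j)
def Wt_190_380 (j : ℕ) : List ℕ := bif Nat.blt j 285 then (Wt_190_285 j) else (Wt_285_380 j)
def Wt_0_380 (j : ℕ) : List ℕ := bif Nat.blt j 190 then (Wt_0_190 j) else (Wt_190_380 j)
def Wt_380_382 (j : ℕ) : List ℕ := bif Nat.blt j 381 then [nat_lit 63, nat_lit 1, nat_lit 0, nat_lit 2, nat_lit 1, nat_lit 0, nat_lit 1, nat_lit 3, nat_lit 4, nat_lit 0, nat_lit 1, nat_lit 4, nat_lit 1, nat_lit 3, nat_lit 4, nat_lit 1, nat_lit 0, nat_lit 4] else [nat_lit 63, nat_lit 4, nat_lit 1, nat_lit 0, nat_lit 4, nat_lit 3, nat_lit 1, nat_lit 0, nat_lit 1, nat_lit 2, nat_lit 0, nat_lit 1, nat_lit 4, nat_lit 0, nat_lit 1, nat_lit 4, nat_lit 3, nat_lit 1]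
def Wt_383_385 (j : ℕ) : List ℕ := bif Nat.blt j 384 then [nat_lit 63, nat_lit 1, nat_lit 4, nat_lit 3, nat_lit 4, nat_lit 3, nat_lit 4, nat_lit 3, nat_lit 4, nat_lit 3, nat_lit 1, nat_lit 4, nat_lit 1, nat_lit 4, nat_lit 1, nat_lit 4] else [nat_lit 63, nat_lit 1, nat_lit 4, nat_lit 1, nat_lit 3, nat_lit 4, nat_lit 3, nat_lit 4, nat_lit 3, nat_lit 4, nat_lit 3, nat_lit 4, nat_lit 1, nat_lit 4, nat_lit 1, nat_lit 4]
def Wt_382_385 (j : ℕ) : List ℕ := bif Nat.blt j 383 then [nat_lit 63, nat_lit 4, nat_lit 3, nat_lit 4, nat_lit 1, nat_lit 4, nat_lit 1, nat_lit 4, nat_lit 1, nat_lit 4, nat_lit 1, nat_lit 3, nat_lit 4, nat_lit 3, nat_lit 4, nat_lit 3] else (Wt_383_385 j)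
def Wt_380_385 (j : ℕ) : List ℕ := bif Nat.blt j 382 then (Wt_380_382 j) else (Wt_382_385 j)
def Wt_386_388 (j : ℕ) : List ℕ := bif Nat.blt j 387 then [nat_lit 63, nat_lit 4, nat_lit 1, nat_lit 4, nat_lit 1, nat_lit 4, nat_lit 3, nat_lit 4, nat_lit 3, nat_lit 4, nat_lit 3, nat_lit 4, nat_lit 3, nat_lit 1, nat_lit 4, nat_lit 1] else [nat_lit 63, nat_lit 1, nat_lit 4, nat_lit 1, nat_lit 4, nat_lit 1, nat_lit 3, nat_lit 4, nat_lit 3, nat_lit 4, nat_lit 3, nat_lit 4, nat_lit 3, nat_lit 4, nat_lit 1, nat_lit 4]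
def Wt_385_388 (j : ℕ) : List ℕ := bif Nat.blt j 386 then [nat_lit 63, nat_lit 3, nat_lit 4, nat_lit 3, nat_lit 1, nat_lit 4, nat_lit 1, nat_lit 4, nat_lit 1, nat_lit 4, nat_lit 1, nat_lit 4, nat_lit 3, nat_lit 4, nat_lit 3, nat_lit 4] else (Wt_386_388 j)
def Wt_389_391 (j : ℕ) : List ℕ := bif Nat.blt j 390 then [nat_lit 63, nat_lit 4, nat_lit 2, nat_lit 4, nat_lit 3, nat_lit 4, nat_lit 2, nat_lit 4, nat_lit 2, nat_lit 4, nat_lit 3, nat_lit 4, nat_lit 3, nat_lit 0, nat_lit 3, nat_lit 1, nat_lit 2, nat_lit 1] else [nat_lit 63, nat_lit 1, nat_lit 4, nat_lit 2, nat_lit 1, nat_lit 4, nat_lit 1, nat_lit 4, nat_lit 1, nat_lit 2, nat_lit 4, nat_lit 1, nat_lit 4, nat_lit 2, nat_lit 0, nat_lit 2, nat_lit 4]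
def Wt_388_391 (j : ℕ) : List ℕ := bif Nat.blt j 389 then [nat_lit 63, nat_lit 1, nat_lit 4, nat_lit 1, nat_lit 4, nat_lit 1, nat_lit 4, nat_lit 1, nat_lit 3, nat_lit 4, nat_lit 3, nat_lit 4, nat_lit 3, nat_lit 4, nat_lit 3, nat_lit 4] else (Wt_389_391 j)
def Wt_385_391 (j : ℕ) : List ℕ := bif Nat.blt j 388 then (Wt_385_388 j) else (Wt_388_391 j)
def Wt_380_391 (j : ℕ) : List ℕ := bif Nat.blt j 385 then (Wt_380_385 j) else (Wt_385_391 j)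
def Wt_392_394 (j : ℕ) : List ℕ := bif Nat.blt j 393 then [nat_lit 63, nat_lit 2, nat_lit 0, nat_lit 2, nat_lit 0] else [nat_lit 1, nat_lit 4, nat_lit 0, nat_lit 1, nat_lit 4, nat_lit 3, nat_lit 2, nat_lit 4, nat_lit 1, nat_lit 0, nat_lit 4, nat_lit 1, nat_lit 2, nat_lit 1, nat_lit 4, nat_lit 1, nat_lit 2]
def Wt_391_394 (j : ℕ) : List ℕ := bif Nat.blt j 392 then [nat_lit 0, nat_lit 3, nat_lit 0, nat_lit 4, nat_lit 3, nat_lit 0, nat_lit 4, nat_lit 3, nat_lit 4, nat_lit 2, nat_lit 3, nat_lit 4, nat_lit 3, nat_lit 4, nat_lit 0, nat_lit 3, nat_lit 4] else (Wt_392_394 j)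
def Wt_395_397 (j : ℕ) : List ℕ := bif Nat.blt j 396 then [nat_lit 4, nat_lit 2, nat_lit 3, nat_lit 4, nat_lit 2, nat_lit 4, nat_lit 1, nat_lit 4, nat_lit 2, nat_lit 4, nat_lit 3, nat_lit 2, nat_lit 4, nat_lit 3, nat_lit 0, nat_lit 3, nat_lit 1] else [nat_lit 4, nat_lit 3, nat_lit 4, nat_lit 3, nat_lit 4, nat_lit 1, nat_lit 4, nat_lit 1, nat_lit 4, nat_lit 1, nat_lit 4, nat_lit 1, nat_lit 3, nat_lit 4, nat_lit 3]
def Wt_394_397 (j : ℕ) : List ℕ := bif Nat.blt j 395 then [nat_lit 4, nat_lit 3, nat_lit 4, nat_lit 1, nat_lit 4, nat_lit 1, nat_lit 4, nat_lit 1, nat_lit 4, nat_lit 1, nat_lit 3, nat_lit 4, nat_lit 3, nat_lit 4, nat_lit 3] else (Wt_395_397 j)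
def Wt_391_397 (j : ℕ) : List ℕ := bif Nat.blt j 394 then (Wt_391_394 j) else (Wt_394_397 j)
def Wt_398_400 (j : ℕ) : List ℕ := bif Nat.blt j 399 then [nat_lit 1, nat_lit 4, nat_lit 3, nat_lit 1, nat_lit 4, nat_lit 1, nat_lit 0, nat_lit 4, nat_lit 3, nat_lit 1, nat_lit 0, nat_lit 1, nat_lit 2, nat_lit 0, nat_lit 1, nat_lit 4, nat_lit 0] else [nat_lit 3, nat_lit 4, nat_lit 2, nat_lit 1, nat_lit 4, nat_lit 1, nat_lit 2, nat_lit 4, nat_lit 2, nat_lit 4, nat_lit 2, nat_lit 1, nat_lit 4, nat_lit 1, nat_lit 4, nat_lit 2, nat_lit 4]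
def Wt_397_400 (j : ℕ) : List ℕ := bif Nat.blt j 398 then [nat_lit 4, nat_lit 2, nat_lit 4, nat_lit 2, nat_lit 1, nat_lit 4, nat_lit 1, nat_lit 2, nat_lit 4, nat_lit 3, nat_lit 4, nat_lit 2, nat_lit 4, nat_lit 1, nat_lit 4, nat_lit 1, nat_lit 2] else (Wt_398_400 j)
def Wt_401_403 (j : ℕ) : List ℕ := bif Nat.blt j 402 then [nat_lit 63, nat_lit 3, nat_lit 4, nat_lit 2, nat_lit 4, nat_lit 1, nat_lit 4, nat_lit 2, nat_lit 4, nat_lit 3, nat_lit 2, nat_lit 4, nat_lit 1, nat_lit 3, nat_lit 0, nat_lit 3, nat_lit 4, nat_lit 2] else [nat_lit 63, nat_lit 4, nat_lit 3, nat_lit 0, nat_lit 4, nat_lit 3, nat_lit 4, nat_lit 2, nat_lit 3, nat_lit 4, nat_lit 3, nat_lit 4, nat_lit 0, nat_lit 3, nat_lit 4, nat_lit 0, nat_lit 3, nat_lit 0]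
def Wt_400_403 (j : ℕ) : List ℕ := bif Nat.blt j 401 then [nat_lit 2, nat_lit 4, nat_lit 2, nat_lit 1, nat_lit 4, nat_lit 1, nat_lit 4, nat_lit 2, nat_lit 4, nat_lit 3, nat_lit 4, nat_lit 2, nat_lit 1, nat_lit 4, nat_lit 1, nat_lit 2, nat_lit 4] else (Wt_401_403 j)
def Wt_397_403 (j : ℕ) : List ℕ := bif Nat.blt j 400 then (Wt_397_400 j) else (Wt_400_403 j)
def Wt_391_403 (j : ℕ) : List ℕ := bif Nat.blt j 397 then (Wt_391_397 j) else (Wt_397_403 j)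
def Wt_380_403 (j : ℕ) : List ℕ := bif Nat.blt j 391 then (Wt_380_391 j) else (Wt_391_403 j)
def Wt_404_406 (j : ℕ) : List ℕ := bif Nat.blt j 405 then [nat_lit 63, nat_lit 2, nat_lit 3, nat_lit 1, nat_lit 0, nat_lit 4, nat_lit 3, nat_lit 4, nat_lit 2, nat_lit 3, nat_lit 4, nat_lit 1, nat_lit 4, nat_lit 0, nat_lit 1, nat_lit 0, nat_lit 4, nat_lit 1] else [nat_lit 2, nat_lit 1, nat_lit 4, nat_lit 1, nat_lit 2, nat_lit 1, nat_lit 4, nat_lit 0, nat_lit 1, nat_lit 4, nat_lit 3, nat_lit 2, nat_lit 4, nat_lit 1, nat_lit 0, nat_lit 4, nat_lit 1]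
def Wt_403_406 (j : ℕ) : List ℕ := bif Nat.blt j 404 then [nat_lit 63, nat_lit 4, nat_lit 2, nat_lit 4, nat_lit 2, nat_lit 4, nat_lit 3, nat_lit 4, nat_lit 3, nat_lit 0, nat_lit 3, nat_lit 1, nat_lit 2, nat_lit 1, nat_lit 4, nat_lit 2, nat_lit 4, nat_lit 3] else (Wt_404_406 j)
def Wt_407_409 (j : ℕ) : List ℕ := bif Nat.blt j 408 then [nat_lit 3, nat_lit 4, nat_lit 0, nat_lit 3, nat_lit 0, nat_lit 4, nat_lit 3, nat_lit 0, nat_lit 4, nat_lit 3, nat_lit 4, nat_lit 2, nat_lit 3, nat_lit 4, nat_lit 3, nat_lit 4, nat_lit 0] else [nat_lit 2, nat_lit 1, nat_lit 4, nat_lit 3, nat_lit 4, nat_lit 1, nat_lit 2, nat_lit 4, nat_lit 3, nat_lit 1, nat_lit 3, nat_lit 1, nat_lit 3, nat_lit 1, nat_lit 3, nat_lit 4]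
def Wt_406_409 (j : ℕ) : List ℕ := bif Nat.blt j 407 then [nat_lit 63, nat_lit 3, nat_lit 4, nat_lit 2, nat_lit 3, nat_lit 4, nat_lit 2, nat_lit 4, nat_lit 1, nat_lit 4, nat_lit 2, nat_lit 4, nat_lit 3, nat_lit 2, nat_lit 4, nat_lit 1, nat_lit 3, nat_lit 0] else (Wt_407_409 j)
def Wt_403_409 (j : ℕ) : List ℕ := bif Nat.blt j 406 then (Wt_403_406 j) else (Wt_406_409 j)
def Wt_410_412 (j : ℕ) : List ℕ := bif Nat.blt j 411 then [nat_lit 0, nat_lit 2, nat_lit 4, nat_lit 0, nat_lit 4, nat_lit 3, nat_lit 1, nat_lit 4, nat_lit 2, nat_lit 1, nat_lit 2, nat_lit 4, nat_lit 1, nat_lit 3, nat_lit 4, nat_lit 0, nat_lit 4] else [nat_lit 4, nat_lit 1, nat_lit 4, nat_lit 2, nat_lit 1, nat_lit 4, nat_lit 1, nat_lit 4, nat_lit 1, nat_lit 2, nat_lit 4, nat_lit 1, nat_lit 4, nat_lit 2, nat_lit 0, nat_lit 2]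
def Wt_409_412 (j : ℕ) : List ℕ := bif Nat.blt j 410 then [nat_lit 3, nat_lit 1, nat_lit 4, nat_lit 1, nat_lit 4, nat_lit 1, nat_lit 4, nat_lit 1, nat_lit 4, nat_lit 3, nat_lit 4, nat_lit 3, nat_lit 4, nat_lit 3, nat_lit 4] else (Wt_410_412 j)
def Wt_413_415 (j : ℕ) : List ℕ := bif Nat.blt j 414 then [nat_lit 4, nat_lit 3, nat_lit 2, nat_lit 4, nat_lit 1, nat_lit 0, nat_lit 4, nat_lit 1, nat_lit 2, nat_lit 1, nat_lit 4, nat_lit 1, nat_lit 2, nat_lit 1, nat_lit 4, nat_lit 0, nat_lit 1] else [nat_lit 3, nat_lit 1, nat_lit 0, nat_lit 4, nat_lit 3, nat_lit 4, nat_lit 2, nat_lit 3, nat_lit 4, nat_lit 1, nat_lit 4, nat_lit 0, nat_lit 1, nat_lit 0, nat_lit 4, nat_lit 1, nat_lit 2]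
def Wt_412_415 (j : ℕ) : List ℕ := bif Nat.blt j 413 then [nat_lit 1, nat_lit 0, nat_lit 1, nat_lit 3, nat_lit 4, nat_lit 0, nat_lit 1, nat_lit 4, nat_lit 1, nat_lit 3, nat_lit 4, nat_lit 1, nat_lit 0, nat_lit 4, nat_lit 1, nat_lit 0, nat_lit 2] else (Wt_413_415 j)
def Wt_409_415 (j : ℕ) : List ℕ := bif Nat.blt j 412 then (Wt_409_412 j) else (Wt_412_415 j)
def Wt_403_415 (j : ℕ) : List ℕ := bif Nat.blt j 409 then (Wt_403_409 j) else (Wt_409_415 j)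
def Wt_416_418 (j : ℕ) : List ℕ := bif Nat.blt j 417 then [nat_lit 2, nat_lit 4, nat_lit 3, nat_lit 4, nat_lit 0, nat_lit 1, nat_lit 3, nat_lit 2, nat_lit 1, nat_lit 4, nat_lit 0, nat_lit 1, nat_lit 0, nat_lit 4, nat_lit 1, nat_lit 4, nat_lit 3] else [nat_lit 0, nat_lit 4, nat_lit 1, nat_lit 0, nat_lit 2, nat_lit 1, nat_lit 0, nat_lit 1, nat_lit 3, nat_lit 4, nat_lit 0, nat_lit 1, nat_lit 4, nat_lit 1, nat_lit 3, nat_lit 4, nat_lit 1]
def Wt_415_418 (j : ℕ) : List ℕ := bif Nat.blt j 416 then [nat_lit 63, nat_lit 0, nat_lit 1, nat_lit 3, nat_lit 2, nat_lit 1, nat_lit 4, nat_lit 0, nat_lit 1, nat_lit 0, nat_lit 4, nat_lit 1, nat_lit 4, nat_lit 3, nat_lit 2, nat_lit 4, nat_lit 3, nat_lit 4] else (Wt_416_418 j)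
def Wt_419_421 (j : ℕ) : List ℕ := bif Nat.blt j 420 then [nat_lit 0, nat_lit 4, nat_lit 3, nat_lit 1, nat_lit 0, nat_lit 1, nat_lit 2, nat_lit 0, nat_lit 1, nat_lit 4, nat_lit 0, nat_lit 1, nat_lit 4, nat_lit 3, nat_lit 1, nat_lit 4, nat_lit 1] else [nat_lit 3, nat_lit 4, nat_lit 2, nat_lit 3, nat_lit 4, nat_lit 3, nat_lit 4, nat_lit 0, nat_lit 3, nat_lit 4, nat_lit 0, nat_lit 3, nat_lit 0, nat_lit 4, nat_lit 3, nat_lit 0, nat_lit 4]
def Wt_418_421 (j : ℕ) : List ℕ := bif Nat.blt j 419 then [nat_lit 0, nat_lit 4, nat_lit 1, nat_lit 2, nat_lit 1, nat_lit 4, nat_lit 1, nat_lit 2, nat_lit 1, nat_lit 4, nat_lit 0, nat_lit 1, nat_lit 4, nat_lit 3, nat_lit 2, nat_lit 4, nat_lit 1] else (Wt_419_421 j)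
def Wt_415_421 (j : ℕ) : List ℕ := bif Nat.blt j 418 then (Wt_415_418 j) else (Wt_418_421 j)
def Wt_422_424 (j : ℕ) : List ℕ := bif Nat.blt j 423 then [nat_lit 0, nat_lit 1, nat_lit 3, nat_lit 4, nat_lit 0, nat_lit 1, nat_lit 4, nat_lit 1, nat_lit 3, nat_lit 4, nat_lit 1, nat_lit 0, nat_lit 4, nat_lit 1, nat_lit 0, nat_lit 2, nat_lit 1] else [nat_lit 2, nat_lit 0, nat_lit 1, nat_lit 4, nat_lit 0, nat_lit 1, nat_lit 4, nat_lit 3, nat_lit 1, nat_lit 4, nat_lit 1, nat_lit 0, nat_lit 4, nat_lit 3, nat_lit 1, nat_lit 0, nat_lit 1]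
def Wt_421_424 (j : ℕ) : List ℕ := bif Nat.blt j 422 then [nat_lit 3, nat_lit 1, nat_lit 4, nat_lit 2, nat_lit 1, nat_lit 2, nat_lit 4, nat_lit 1, nat_lit 3, nat_lit 4, nat_lit 0, nat_lit 4, nat_lit 2, nat_lit 0, nat_lit 4, nat_lit 0, nat_lit 4] else (Wt_422_424 j)
def Wt_425_427 (j : ℕ) : List ℕ := bif Nat.blt j 426 then [nat_lit 63, nat_lit 3, nat_lit 4, nat_lit 1, nat_lit 4, nat_lit 1, nat_lit 2, nat_lit 4, nat_lit 1, nat_lit 4, nat_lit 0, nat_lit 4, nat_lit 1, nat_lit 4, nat_lit 1, nat_lit 3, nat_lit 0, nat_lit 2] else [nat_lit 63, nat_lit 4, nat_lit 3, nat_lit 4, nat_lit 2, nat_lit 4, nat_lit 3, nat_lit 0, nat_lit 3, nat_lit 1, nat_lit 2, nat_lit 1, nat_lit 4, nat_lit 3, nat_lit 4, nat_lit 2, nat_lit 4, nat_lit 2]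
def Wt_424_427 (j : ℕ) : List ℕ := bif Nat.blt j 425 then [nat_lit 3, nat_lit 2, nat_lit 4, nat_lit 1, nat_lit 0, nat_lit 4, nat_lit 1, nat_lit 2, nat_lit 1, nat_lit 4, nat_lit 1, nat_lit 2, nat_lit 1, nat_lit 4, nat_lit 0, nat_lit 1, nat_lit 4] else (Wt_425_427 j)
def Wt_421_427 (j : ℕ) : List ℕ := bif Nat.blt j 424 then (Wt_421_424 j) else (Wt_424_427 j)
def Wt_415_427 (j : ℕ) : List ℕ := bif Nat.blt j 421 then (Wt_415_421 j) else (Wt_421_427 j)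
def Wt_403_427 (j : ℕ) : List ℕ := bif Nat.blt j 415 then (Wt_403_415 j) else (Wt_415_427 j)
def Wt_380_427 (j : ℕ) : List ℕ := bif Nat.blt j 403 then (Wt_380_403 j) else (Wt_403_427 j)
def Wt_428_430 (j : ℕ) : List ℕ := bif Nat.blt j 429 then [nat_lit 63, nat_lit 2, nat_lit 4, nat_lit 2, nat_lit 4, nat_lit 2, nat_lit 4, nat_lit 2, nat_lit 4, nat_lit 2, nat_lit 4, nat_lit 2, nat_lit 4] else [nat_lit 63, nat_lit 4, nat_lit 3, nat_lit 4, nat_lit 3, nat_lit 4, nat_lit 3, nat_lit 4, nat_lit 3, nat_lit 4, nat_lit 3, nat_lit 4, nat_lit 3, nat_lit 4, nat_lit 3, nat_lit 4, nat_lit 3]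
def Wt_427_430 (j : ℕ) : List ℕ := bif Nat.blt j 428 then [nat_lit 63, nat_lit 2, nat_lit 4, nat_lit 3, nat_lit 4, nat_lit 2, nat_lit 4, nat_lit 2, nat_lit 4, nat_lit 3, nat_lit 4, nat_lit 3, nat_lit 0, nat_lit 3, nat_lit 1, nat_lit 2, nat_lit 1, nat_lit 4] else (Wt_428_430 j)
def Wt_431_433 (j : ℕ) : List ℕ := bif Nat.blt j 432 then [nat_lit 4, nat_lit 1, nat_lit 2, nat_lit 3, nat_lit 1, nat_lit 0, nat_lit 4, nat_lit 3, nat_lit 4, nat_lit 2, nat_lit 3, nat_lit 4, nat_lit 1, nat_lit 4, nat_lit 0, nat_lit 1, nat_lit 0] else [nat_lit 63, nat_lit 4, nat_lit 2, nat_lit 4, nat_lit 2, nat_lit 4, nat_lit 3, nat_lit 4, nat_lit 2, nat_lit 4, nat_lit 3, nat_lit 0, nat_lit 3, nat_lit 1, nat_lit 2, nat_lit 1, nat_lit 4, nat_lit 3]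
def Wt_430_433 (j : ℕ) : List ℕ := bif Nat.blt j 431 then [nat_lit 63, nat_lit 0, nat_lit 1, nat_lit 2, nat_lit 1, nat_lit 0, nat_lit 1, nat_lit 2, nat_lit 1, nat_lit 0, nat_lit 1, nat_lit 2, nat_lit 1] else (Wt_431_433 j)
def Wt_427_433 (j : ℕ) : List ℕ := bif Nat.blt j 430 then (Wt_427_430 j) else (Wt_430_433 j)
def Wt_434_436 (j : ℕ) : List ℕ := bif Nat.blt j 435 then [nat_lit 4, nat_lit 0, nat_lit 4, nat_lit 3, nat_lit 1, nat_lit 4, nat_lit 2, nat_lit 1, nat_lit 2, nat_lit 4, nat_lit 1, nat_lit 3, nat_lit 4, nat_lit 0, nat_lit 4, nat_lit 0, nat_lit 2] else [nat_lit 0, nat_lit 2, nat_lit 1, nat_lit 0, nat_lit 1, nat_lit 3, nat_lit 4, nat_lit 0, nat_lit 1, nat_lit 4, nat_lit 1, nat_lit 3, nat_lit 4, nat_lit 1, nat_lit 0, nat_lit 4, nat_lit 1]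
def Wt_433_436 (j : ℕ) : List ℕ := bif Nat.blt j 434 then [nat_lit 63, nat_lit 1, nat_lit 2, nat_lit 4, nat_lit 2, nat_lit 4, nat_lit 2, nat_lit 1, nat_lit 4, nat_lit 1, nat_lit 2, nat_lit 4, nat_lit 3, nat_lit 4, nat_lit 2, nat_lit 4, nat_lit 1, nat_lit 4] else (Wt_434_436 j)
def Wt_437_439 (j : ℕ) : List ℕ := bif Nat.blt j 438 then [nat_lit 3, nat_lit 4, nat_lit 2, nat_lit 4, nat_lit 1, nat_lit 4, nat_lit 1, nat_lit 2, nat_lit 4, nat_lit 2, nat_lit 4, nat_lit 2, nat_lit 1, nat_lit 4, nat_lit 1, nat_lit 2, nat_lit 4] else [nat_lit 2, nat_lit 4, nat_lit 2, nat_lit 1, nat_lit 4, nat_lit 1, nat_lit 2, nat_lit 4, nat_lit 3, nat_lit 4, nat_lit 2, nat_lit 4, nat_lit 1, nat_lit 4, nat_lit 1, nat_lit 2, nat_lit 4]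
def Wt_436_439 (j : ℕ) : List ℕ := bif Nat.blt j 437 then [nat_lit 1, nat_lit 3, nat_lit 2, nat_lit 1, nat_lit 4, nat_lit 0, nat_lit 1, nat_lit 0, nat_lit 4, nat_lit 1, nat_lit 4, nat_lit 3, nat_lit 2, nat_lit 4, nat_lit 3, nat_lit 4, nat_lit 0] else (Wt_437_439 j)
def Wt_433_439 (j : ℕ) : List ℕ := bif Nat.blt j 436 then (Wt_433_436 j) else (Wt_436_439 j)
def Wt_427_439 (j : ℕ) : List ℕ := bif Nat.blt j 433 then (Wt_427_433 j) else (Wt_433_439 j)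
def Wt_440_442 (j : ℕ) : List ℕ := bif Nat.blt j 441 then [nat_lit 4, nat_lit 0, nat_lit 1, nat_lit 0, nat_lit 4, nat_lit 1, nat_lit 4, nat_lit 3, nat_lit 2, nat_lit 4, nat_lit 3, nat_lit 4, nat_lit 0, nat_lit 1, nat_lit 3, nat_lit 2, nat_lit 1] else [nat_lit 3, nat_lit 4, nat_lit 2, nat_lit 4, nat_lit 2, nat_lit 4, nat_lit 3, nat_lit 4, nat_lit 2, nat_lit 4, nat_lit 1, nat_lit 2, nat_lit 1, nat_lit 3, nat_lit 0, nat_lit 3, nat_lit 4]
def Wt_439_442 (j : ℕ) : List ℕ := bif Nat.blt j 440 then [nat_lit 4, nat_lit 1, nat_lit 2, nat_lit 4, nat_lit 1, nat_lit 4, nat_lit 2, nat_lit 0, nat_lit 2, nat_lit 4, nat_lit 1, nat_lit 4, nat_lit 2, nat_lit 1, nat_lit 4, nat_lit 1] else (Wt_440_442 j)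
def Wt_443_445 (j : ℕ) : List ℕ := bif Nat.blt j 444 then [nat_lit 63, nat_lit 1, nat_lit 0, nat_lit 1, nat_lit 2, nat_lit 3, nat_lit 1, nat_lit 2, nat_lit 1, nat_lit 0, nat_lit 1, nat_lit 2, nat_lit 3, nat_lit 1, nat_lit 2, nat_lit 1, nat_lit 0, nat_lit 1, nat_lit 2, nat_lit 3, nat_lit 1, nat_lit 2] else [nat_lit 63, nat_lit 0, nat_lit 1, nat_lit 2, nat_lit 1, nat_lit 0, nat_lit 2, nat_lit 0, nat_lit 1, nat_lit 2, nat_lit 1, nat_lit 0, nat_lit 2]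
def Wt_442_445 (j : ℕ) : List ℕ := bif Nat.blt j 443 then [nat_lit 0, nat_lit 4, nat_lit 1, nat_lit 2, nat_lit 3, nat_lit 1, nat_lit 0, nat_lit 4, nat_lit 3, nat_lit 4, nat_lit 2, nat_lit 3, nat_lit 4, nat_lit 1, nat_lit 4, nat_lit 0, nat_lit 1] else (Wt_443_445 j)
def Wt_439_445 (j : ℕ) : List ℕ := bif Nat.blt j 442 then (Wt_439_442 j) else (Wt_442_445 j)
def Wt_446_448 (j : ℕ) : List ℕ := bif Nat.blt j 447 then [nat_lit 63, nat_lit 3, nat_lit 0, nat_lit 1, nat_lit 0, nat_lit 3, nat_lit 1, nat_lit 4, nat_lit 1, nat_lit 3, nat_lit 0, nat_lit 1, nat_lit 0, nat_lit 3, nat_lit 1, nat_lit 4, nat_lit 1] else [nat_lit 1, nat_lit 4, nat_lit 2, nat_lit 4, nat_lit 3, nat_lit 2, nat_lit 4, nat_lit 3, nat_lit 0, nat_lit 3, nat_lit 1, nat_lit 4, nat_lit 2, nat_lit 3, nat_lit 4, nat_lit 2, nat_lit 4]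
def Wt_445_448 (j : ℕ) : List ℕ := bif Nat.blt j 446 then [nat_lit 63, nat_lit 4, nat_lit 1, nat_lit 4, nat_lit 0, nat_lit 4, nat_lit 1, nat_lit 4, nat_lit 2, nat_lit 1, nat_lit 4, nat_lit 1, nat_lit 4, nat_lit 3, nat_lit 2, nat_lit 0, nat_lit 3, nat_lit 1] else (Wt_446_448 j)
def Wt_449_451 (j : ℕ) : List ℕ := bif Nat.blt j 450 then [nat_lit 3, nat_lit 1, nat_lit 2, nat_lit 1, nat_lit 0, nat_lit 1, nat_lit 2, nat_lit 3, nat_lit 1, nat_lit 2, nat_lit 1, nat_lit 0, nat_lit 1, nat_lit 2, nat_lit 3, nat_lit 1, nat_lit 2, nat_lit 1, nat_lit 0, nat_lit 1, nat_lit 2] else [nat_lit 4, nat_lit 3, nat_lit 1, nat_lit 4, nat_lit 1, nat_lit 0, nat_lit 4, nat_lit 3, nat_lit 1, nat_lit 0, nat_lit 1, nat_lit 2, nat_lit 0, nat_lit 1, nat_lit 4, nat_lit 0, nat_lit 1]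
def Wt_448_451 (j : ℕ) : List ℕ := bif Nat.blt j 449 then [nat_lit 2, nat_lit 4, nat_lit 2, nat_lit 4, nat_lit 2, nat_lit 1, nat_lit 4, nat_lit 1, nat_lit 2, nat_lit 4, nat_lit 3, nat_lit 4, nat_lit 2, nat_lit 4, nat_lit 1, nat_lit 4, nat_lit 1] else (Wt_449_451 j)
def Wt_445_451 (j : ℕ) : List ℕ := bif Nat.blt j 448 then (Wt_445_448 j) else (Wt_448_451 j)
def Wt_439_451 (j : ℕ) : List ℕ := bif Nat.blt j 445 then (Wt_439_445 j) else (Wt_445_451 j)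
def Wt_427_451 (j : ℕ) : List ℕ := bif Nat.blt j 439 then (Wt_427_439 j) else (Wt_439_451 j)
def Wt_452_454 (j : ℕ) : List ℕ := bif Nat.blt j 453 then [nat_lit 0, nat_lit 4, nat_lit 2, nat_lit 0, nat_lit 4, nat_lit 0, nat_lit 2, nat_lit 4, nat_lit 0, nat_lit 2, nat_lit 4, nat_lit 3, nat_lit 2, nat_lit 3, nat_lit 0, nat_lit 4, nat_lit 2] else [nat_lit 2, nat_lit 3, nat_lit 4, nat_lit 2, nat_lit 4, nat_lit 1, nat_lit 4, nat_lit 2, nat_lit 4, nat_lit 3, nat_lit 2, nat_lit 4, nat_lit 1, nat_lit 3, nat_lit 0, nat_lit 3, nat_lit 4]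
def Wt_451_454 (j : ℕ) : List ℕ := bif Nat.blt j 452 then [nat_lit 1, nat_lit 0, nat_lit 1, nat_lit 2, nat_lit 3, nat_lit 1, nat_lit 2, nat_lit 1, nat_lit 0, nat_lit 1, nat_lit 2, nat_lit 3, nat_lit 1, nat_lit 2, nat_lit 1, nat_lit 0, nat_lit 1, nat_lit 2, nat_lit 3, nat_lit 1, nat_lit 2] else (Wt_452_454 j)
def Wt_455_457 (j : ℕ) : List ℕ := bif Nat.blt j 456 then [nat_lit 1, nat_lit 4, nat_lit 1, nat_lit 4, nat_lit 1, nat_lit 4, nat_lit 1, nat_lit 4, nat_lit 1, nat_lit 4, nat_lit 1, nat_lit 4, nat_lit 1, nat_lit 4, nat_lit 1, nat_lit 4] else [nat_lit 4, nat_lit 2, nat_lit 4, nat_lit 3, nat_lit 4, nat_lit 3, nat_lit 0, nat_lit 3, nat_lit 1, nat_lit 2, nat_lit 1, nat_lit 4, nat_lit 2, nat_lit 4, nat_lit 3, nat_lit 4, nat_lit 2]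
def Wt_454_457 (j : ℕ) : List ℕ := bif Nat.blt j 455 then [nat_lit 1, nat_lit 4, nat_lit 1, nat_lit 0, nat_lit 4, nat_lit 3, nat_lit 1, nat_lit 0, nat_lit 1, nat_lit 2, nat_lit 0, nat_lit 1, nat_lit 4, nat_lit 0, nat_lit 1, nat_lit 4, nat_lit 3] else (Wt_455_457 j)
def Wt_451_457 (j : ℕ) : List ℕ := bif Nat.blt j 454 then (Wt_451_454 j) else (Wt_454_457 j)
def Wt_458_460 (j : ℕ) : List ℕ := bif Nat.blt j 459 then [nat_lit 3, nat_lit 4, nat_lit 2, nat_lit 4, nat_lit 1, nat_lit 4, nat_lit 2, nat_lit 4, nat_lit 3, nat_lit 2, nat_lit 4, nat_lit 1, nat_lit 3, nat_lit 0, nat_lit 3, nat_lit 4, nat_lit 2] else [nat_lit 1, nat_lit 3, nat_lit 4, nat_lit 3, nat_lit 4, nat_lit 3, nat_lit 4, nat_lit 3, nat_lit 4, nat_lit 1, nat_lit 4, nat_lit 1, nat_lit 4, nat_lit 1, nat_lit 4]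
def Wt_457_460 (j : ℕ) : List ℕ := bif Nat.blt j 458 then [nat_lit 1, nat_lit 4, nat_lit 1, nat_lit 4, nat_lit 0, nat_lit 4, nat_lit 1, nat_lit 4, nat_lit 2, nat_lit 1, nat_lit 4, nat_lit 1, nat_lit 4, nat_lit 3, nat_lit 2, nat_lit 0, nat_lit 3] else (Wt_458_460 j)
def Wt_461_463 (j : ℕ) : List ℕ := bif Nat.blt j 462 then [nat_lit 0, nat_lit 4, nat_lit 1, nat_lit 4, nat_lit 3, nat_lit 2, nat_lit 4, nat_lit 3, nat_lit 4, nat_lit 0, nat_lit 1, nat_lit 3, nat_lit 2, nat_lit 1, nat_lit 4, nat_lit 0, nat_lit 1] else [nat_lit 1, nat_lit 2, nat_lit 3, nat_lit 1, nat_lit 2, nat_lit 1, nat_lit 0, nat_lit 1, nat_lit 2, nat_lit 3, nat_lit 1, nat_lit 2, nat_lit 1, nat_lit 0, nat_lit 1, nat_lit 2, nat_lit 3, nat_lit 1, nat_lit 2, nat_lit 1, nat_lit 0]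
def Wt_460_463 (j : ℕ) : List ℕ := bif Nat.blt j 461 then [nat_lit 2, nat_lit 4, nat_lit 1, nat_lit 3, nat_lit 4, nat_lit 0, nat_lit 4, nat_lit 2, nat_lit 0, nat_lit 4, nat_lit 0, nat_lit 4, nat_lit 3, nat_lit 1, nat_lit 4, nat_lit 2, nat_lit 1] else (Wt_461_463 j)
def Wt_457_463 (j : ℕ) : List ℕ := bif Nat.blt j 460 then (Wt_457_460 j) else (Wt_460_463 j)
def Wt_451_463 (j : ℕ) : List ℕ := bif Nat.blt j 457 then (Wt_451_457 j) else (Wt_457_463 j)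
def Wt_464_466 (j : ℕ) : List ℕ := bif Nat.blt j 465 then [nat_lit 4, nat_lit 0, nat_lit 1, nat_lit 4, nat_lit 1, nat_lit 3, nat_lit 4, nat_lit 1, nat_lit 0, nat_lit 4, nat_lit 1, nat_lit 0, nat_lit 2, nat_lit 1, nat_lit 0, nat_lit 1, nat_lit 3] else [nat_lit 0, nat_lit 1, nat_lit 2, nat_lit 0, nat_lit 1, nat_lit 4, nat_lit 0, nat_lit 1, nat_lit 4, nat_lit 3, nat_lit 1, nat_lit 4, nat_lit 1, nat_lit 0, nat_lit 4, nat_lit 3, nat_lit 1]
def Wt_463_466 (j : ℕ) : List ℕ := bif Nat.blt j 464 then [nat_lit 3, nat_lit 0, nat_lit 3, nat_lit 1, nat_lit 2, nat_lit 3, nat_lit 0, nat_lit 3, nat_lit 1, nat_lit 2, nat_lit 3, nat_lit 0, nat_lit 3, nat_lit 1, nat_lit 2, nat_lit 3, nat_lit 0, nat_lit 3, nat_lit 1, nat_lit 2] else (Wt_464_466 j)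
def Wt_467_469 (j : ℕ) : List ℕ := bif Nat.blt j 468 then [nat_lit 4, nat_lit 0, nat_lit 1, nat_lit 4, nat_lit 3, nat_lit 1, nat_lit 4, nat_lit 1, nat_lit 0, nat_lit 4, nat_lit 3, nat_lit 1, nat_lit 0, nat_lit 1, nat_lit 2, nat_lit 0, nat_lit 1] else [nat_lit 1, nat_lit 3, nat_lit 4, nat_lit 0, nat_lit 4, nat_lit 2, nat_lit 0, nat_lit 4, nat_lit 0, nat_lit 4, nat_lit 3, nat_lit 1, nat_lit 4, nat_lit 2, nat_lit 1, nat_lit 2, nat_lit 4]
def Wt_466_469 (j : ℕ) : List ℕ := bif Nat.blt j 467 then [nat_lit 4, nat_lit 3, nat_lit 4, nat_lit 0, nat_lit 3, nat_lit 4, nat_lit 0, nat_lit 3, nat_lit 0, nat_lit 4, nat_lit 3, nat_lit 0, nat_lit 4, nat_lit 3, nat_lit 4, nat_lit 2, nat_lit 3] else (Wt_467_469 j)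
def Wt_463_469 (j : ℕ) : List ℕ := bif Nat.blt j 466 then (Wt_463_466 j) else (Wt_466_469 j)
def Wt_470_472 (j : ℕ) : List ℕ := bif Nat.blt j 471 then [nat_lit 63, nat_lit 4, nat_lit 2, nat_lit 4, nat_lit 3, nat_lit 2, nat_lit 4, nat_lit 3, nat_lit 0, nat_lit 3, nat_lit 1, nat_lit 4, nat_lit 2, nat_lit 3, nat_lit 4, nat_lit 2, nat_lit 4, nat_lit 1] else [nat_lit 63, nat_lit 4, nat_lit 2, nat_lit 0, nat_lit 2, nat_lit 4, nat_lit 1, nat_lit 4, nat_lit 2, nat_lit 1, nat_lit 4, nat_lit 1, nat_lit 4, nat_lit 1, nat_lit 2, nat_lit 4, nat_lit 1]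
def Wt_469_472 (j : ℕ) : List ℕ := bif Nat.blt j 470 then [nat_lit 3, nat_lit 4, nat_lit 2, nat_lit 4, nat_lit 3, nat_lit 4, nat_lit 2, nat_lit 4, nat_lit 2, nat_lit 4, nat_lit 3, nat_lit 4, nat_lit 1, nat_lit 2, nat_lit 1, nat_lit 3, nat_lit 0] else (Wt_470_472 j)
def Wt_473_475 (j : ℕ) : List ℕ := bif Nat.blt j 474 then [nat_lit 4, nat_lit 1, nat_lit 4, nat_lit 2, nat_lit 0, nat_lit 4, nat_lit 1, nat_lit 4, nat_lit 0, nat_lit 2, nat_lit 4, nat_lit 1, nat_lit 4, nat_lit 2, nat_lit 0] else [nat_lit 4, nat_lit 3, nat_lit 4, nat_lit 2, nat_lit 3, nat_lit 4, nat_lit 1, nat_lit 4, nat_lit 0, nat_lit 1, nat_lit 0, nat_lit 4, nat_lit 1, nat_lit 2, nat_lit 3, nat_lit 1, nat_lit 0]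
def Wt_472_475 (j : ℕ) : List ℕ := bif Nat.blt j 473 then [nat_lit 63, nat_lit 1, nat_lit 0, nat_lit 4, nat_lit 1, nat_lit 4, nat_lit 3, nat_lit 2, nat_lit 4, nat_lit 3, nat_lit 4, nat_lit 0, nat_lit 1, nat_lit 3, nat_lit 2, nat_lit 1, nat_lit 4, nat_lit 0] else (Wt_473_475 j)
def Wt_469_475 (j : ℕ) : List ℕ := bif Nat.blt j 472 then (Wt_469_472 j) else (Wt_472_475 j)
def Wt_463_475 (j : ℕ) : List ℕ := bif Nat.blt j 469 then (Wt_463_469 j) else (Wt_469_475 j)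
def Wt_451_475 (j : ℕ) : List ℕ := bif Nat.blt j 463 then (Wt_451_463 j) else (Wt_463_475 j)
def Wt_427_475 (j : ℕ) : List ℕ := bif Nat.blt j 451 then (Wt_427_451 j) else (Wt_451_475 j)
def Wt_380_475 (j : ℕ) : List ℕ := bif Nat.blt j 427 then (Wt_380_427 j) else (Wt_427_475 j)
def Wt_475_477 (j : ℕ) : List ℕ := bif Nat.blt j 476 then [nat_lit 63, nat_lit 3, nat_lit 4, nat_lit 3, nat_lit 4, nat_lit 3, nat_lit 1, nat_lit 4, nat_lit 1, nat_lit 4, nat_lit 1, nat_lit 4, nat_lit 1, nat_lit 4, nat_lit 3, nat_lit 4] else [nat_lit 4, nat_lit 3, nat_lit 4, nat_lit 2, nat_lit 4, nat_lit 2, nat_lit 4, nat_lit 3, nat_lit 4, nat_lit 1, nat_lit 2, nat_lit 1, nat_lit 3, nat_lit 0, nat_lit 3, nat_lit 4, nat_lit 2]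
def Wt_478_480 (j : ℕ) : List ℕ := bif Nat.blt j 479 then [nat_lit 3, nat_lit 2, nat_lit 4, nat_lit 3, nat_lit 0, nat_lit 3, nat_lit 1, nat_lit 4, nat_lit 2, nat_lit 3, nat_lit 4, nat_lit 2, nat_lit 4, nat_lit 1, nat_lit 4, nat_lit 2, nat_lit 4] else [nat_lit 63, nat_lit 4, nat_lit 1, nat_lit 2, nat_lit 3, nat_lit 1, nat_lit 0, nat_lit 4, nat_lit 3, nat_lit 4, nat_lit 2, nat_lit 3, nat_lit 4, nat_lit 1, nat_lit 4, nat_lit 0, nat_lit 1, nat_lit 0]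
def Wt_477_480 (j : ℕ) : List ℕ := bif Nat.blt j 478 then [nat_lit 2, nat_lit 1, nat_lit 4, nat_lit 3, nat_lit 4, nat_lit 2, nat_lit 4, nat_lit 2, nat_lit 4, nat_lit 3, nat_lit 4, nat_lit 2, nat_lit 4, nat_lit 3, nat_lit 0, nat_lit 3, nat_lit 1] else (Wt_478_480 j)
def Wt_475_480 (j : ℕ) : List ℕ := bif Nat.blt j 477 then (Wt_475_477 j) else (Wt_477_480 j)
def Wt_481_483 (j : ℕ) : List ℕ := bif Nat.blt j 482 then [nat_lit 4, nat_lit 3, nat_lit 4, nat_lit 3, nat_lit 0, nat_lit 3, nat_lit 1, nat_lit 2, nat_lit 1, nat_lit 4, nat_lit 2, nat_lit 4, nat_lit 3, nat_lit 4, nat_lit 2, nat_lit 4, nat_lit 2] else [nat_lit 4, nat_lit 2, nat_lit 1, nat_lit 4, nat_lit 3, nat_lit 4, nat_lit 1, nat_lit 2, nat_lit 4, nat_lit 3, nat_lit 1, nat_lit 3, nat_lit 1, nat_lit 3, nat_lit 1, nat_lit 3]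
def Wt_480_483 (j : ℕ) : List ℕ := bif Nat.blt j 481 then [nat_lit 63, nat_lit 4, nat_lit 3, nat_lit 4, nat_lit 2, nat_lit 3, nat_lit 4, nat_lit 3, nat_lit 4, nat_lit 0, nat_lit 3, nat_lit 4, nat_lit 0, nat_lit 3, nat_lit 0, nat_lit 4, nat_lit 3, nat_lit 0] else (Wt_481_483 j)
def Wt_484_486 (j : ℕ) : List ℕ := bif Nat.blt j 485 then [nat_lit 2, nat_lit 1, nat_lit 3, nat_lit 0, nat_lit 3, nat_lit 4, nat_lit 3, nat_lit 4, nat_lit 2, nat_lit 4, nat_lit 2, nat_lit 4, nat_lit 3, nat_lit 4, nat_lit 2, nat_lit 4, nat_lit 1] else [nat_lit 3, nat_lit 1, nat_lit 2, nat_lit 1, nat_lit 0, nat_lit 1, nat_lit 3, nat_lit 1, nat_lit 2, nat_lit 1, nat_lit 0, nat_lit 1, nat_lit 3, nat_lit 1, nat_lit 2, nat_lit 1, nat_lit 0, nat_lit 1]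
def Wt_483_486 (j : ℕ) : List ℕ := bif Nat.blt j 484 then [nat_lit 3, nat_lit 1, nat_lit 3, nat_lit 4, nat_lit 2, nat_lit 1, nat_lit 4, nat_lit 3, nat_lit 4, nat_lit 1, nat_lit 2, nat_lit 4, nat_lit 3, nat_lit 1, nat_lit 3, nat_lit 1] else (Wt_484_486 j)
def Wt_480_486 (j : ℕ) : List ℕ := bif Nat.blt j 483 then (Wt_480_483 j) else (Wt_483_486 j)
def Wt_475_486 (j : ℕ) : List ℕ := bif Nat.blt j 480 then (Wt_475_480 j) else (Wt_480_486 j)
def Wt_487_489 (j : ℕ) : List ℕ := bif Nat.blt j 488 then [nat_lit 63, nat_lit 2, nat_lit 1, nat_lit 0, nat_lit 2, nat_lit 0, nat_lit 1, nat_lit 2, nat_lit 1, nat_lit 0, nat_lit 2, nat_lit 0, nat_lit 1] else [nat_lit 63, nat_lit 1, nat_lit 0, nat_lit 1, nat_lit 2, nat_lit 1, nat_lit 3, nat_lit 2, nat_lit 1, nat_lit 0, nat_lit 1, nat_lit 2, nat_lit 1, nat_lit 3, nat_lit 2, nat_lit 1, nat_lit 0, nat_lit 1, nat_lit 2, nat_lit 1, nat_lit 3, nat_lit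 2]
def Wt_486_489 (j : ℕ) : List ℕ := bif Nat.blt j 487 then [nat_lit 1, nat_lit 4, nat_lit 1, nat_lit 3, nat_lit 4, nat_lit 1, nat_lit 0, nat_lit 4, nat_lit 1, nat_lit 0, nat_lit 2, nat_lit 1, nat_lit 0, nat_lit 1, nat_lit 3, nat_lit 4, nat_lit 0] else (Wt_487_489 j)
def Wt_490_492 (j : ℕ) : List ℕ := bif Nat.blt j 491 then [nat_lit 63, nat_lit 0, nat_lit 3, nat_lit 0, nat_lit 3, nat_lit 0, nat_lit 3, nat_lit 0, nat_lit 3, nat_lit 0, nat_lit 3, nat_lit 0, nat_lit 3, nat_lit 0, nat_lit 3, nat_lit 0, nat_lit 3, nat_lit 0, nat_lit 3, nat_lit 0, nat_lit 3, nat_lit 0, nat_lit 3, nat_lit 0, nat_lit 3] else [nat_lit 63, nat_lit 2, nat_lit 1, nat_lit 3, nat_lit 1, nat_lit 0, nat_lit 1, nat_lit 2, nat_lit 1, nat_lit 3, nat_lit 1, nat_lit 0, nat_lit 1, nat_lit 2, nat_lit 1, nat_lit 3, nat_lit 1, nat_lit 0, nat_lit 1]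
def Wt_489_492 (j : ℕ) : List ℕ := bif Nat.blt j 490 then [nat_lit 3, nat_lit 0, nat_lit 3, nat_lit 0, nat_lit 3, nat_lit 1, nat_lit 0, nat_lit 3, nat_lit 0, nat_lit 3, nat_lit 0, nat_lit 3, nat_lit 1, nat_lit 0, nat_lit 3, nat_lit 0, nat_lit 3, nat_lit 0, nat_lit 3, nat_lit 1, nat_lit 0] else (Wt_490_492 j)
def Wt_486_492 (j : ℕ) : List ℕ := bif Nat.blt j 489 then (Wt_486_489 j) else (Wt_489_492 j)
def Wt_493_495 (j : ℕ) : List ℕ := bif Nat.blt j 494 then [nat_lit 63, nat_lit 3, nat_lit 2, nat_lit 1, nat_lit 0, nat_lit 1, nat_lit 2, nat_lit 1, nat_lit 3, nat_lit 2, nat_lit 1, nat_lit 0, nat_lit 1, nat_lit 2, nat_lit 1, nat_lit 3, nat_lit 2, nat_lit 1, nat_lit 0, nat_lit 1, nat_lit 2, nat_lit 1] else [nat_lit 63, nat_lit 1, nat_lit 2, nat_lit 3, nat_lit 1, nat_lit 0, nat_lit 4, nat_lit 3, nat_lit 4, nat_lit 2, nat_lit 3, nat_lit 4, nat_lit 1, nat_lit 4, nat_lit 0, nat_lit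 1, nat_lit 0, nat_lit 4]
def Wt_492_495 (j : ℕ) : List ℕ := bif Nat.blt j 493 then [nat_lit 63, nat_lit 2, nat_lit 1, nat_lit 2, nat_lit 1, nat_lit 2, nat_lit 1, nat_lit 2, nat_lit 1] else (Wt_493_495 j)
def Wt_496_498 (j : ℕ) : List ℕ := bif Nat.blt j 497 then [nat_lit 63, nat_lit 1, nat_lit 3, nat_lit 4, nat_lit 2, nat_lit 1, nat_lit 4, nat_lit 3, nat_lit 4, nat_lit 1, nat_lit 2, nat_lit 4, nat_lit 3, nat_lit 1, nat_lit 3, nat_lit 1, nat_lit 3] else [nat_lit 0, nat_lit 4, nat_lit 3, nat_lit 4, nat_lit 2, nat_lit 3, nat_lit 4, nat_lit 3, nat_lit 4, nat_lit 0, nat_lit 3, nat_lit 4, nat_lit 0, nat_lit 3, nat_lit 0, nat_lit 4, nat_lit 3]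
def Wt_495_498 (j : ℕ) : List ℕ := bif Nat.blt j 496 then [nat_lit 63, nat_lit 4, nat_lit 2, nat_lit 4, nat_lit 1, nat_lit 4, nat_lit 1, nat_lit 2, nat_lit 4, nat_lit 2, nat_lit 4, nat_lit 2, nat_lit 1, nat_lit 4, nat_lit 1, nat_lit 2, nat_lit 4, nat_lit 3] else (Wt_496_498 j)
def Wt_492_498 (j : ℕ) : List ℕ := bif Nat.blt j 495 then (Wt_492_495 j) else (Wt_495_498 j)
def Wt_486_498 (j : ℕ) : List ℕ := bif Nat.blt j 492 then (Wt_486_492 j) else (Wt_492_498 j)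
def Wt_475_498 (j : ℕ) : List ℕ := bif Nat.blt j 486 then (Wt_475_486 j) else (Wt_486_498 j)
def Wt_499_501 (j : ℕ) : List ℕ := bif Nat.blt j 500 then [nat_lit 4, nat_lit 2, nat_lit 4, nat_lit 1, nat_lit 4, nat_lit 2, nat_lit 4, nat_lit 3, nat_lit 2, nat_lit 4, nat_lit 3, nat_lit 0, nat_lit 3, nat_lit 1, nat_lit 4, nat_lit 2, nat_lit 3] else [nat_lit 2, nat_lit 4, nat_lit 1, nat_lit 4, nat_lit 1, nat_lit 2, nat_lit 4, nat_lit 2, nat_lit 4, nat_lit 2, nat_lit 1, nat_lit 4, nat_lit 1, nat_lit 2, nat_lit 4, nat_lit 3, nat_lit 4]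
def Wt_498_501 (j : ℕ) : List ℕ := bif Nat.blt j 499 then [nat_lit 4, nat_lit 3, nat_lit 4, nat_lit 0, nat_lit 1, nat_lit 3, nat_lit 2, nat_lit 1, nat_lit 4, nat_lit 0, nat_lit 1, nat_lit 0, nat_lit 4, nat_lit 1, nat_lit 4, nat_lit 3, nat_lit 2] else (Wt_499_501 j)
def Wt_502_504 (j : ℕ) : List ℕ := bif Nat.blt j 503 then [nat_lit 63, nat_lit 4, nat_lit 1, nat_lit 4, nat_lit 3, nat_lit 4, nat_lit 3, nat_lit 4, nat_lit 3, nat_lit 4, nat_lit 3, nat_lit 1, nat_lit 4, nat_lit 1, nat_lit 4, nat_lit 1] else [nat_lit 63, nat_lit 63, nat_lit 63]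
def Wt_501_504 (j : ℕ) : List ℕ := bif Nat.blt j 502 then [nat_lit 63, nat_lit 3, nat_lit 0, nat_lit 4, nat_lit 3, nat_lit 4, nat_lit 2, nat_lit 3, nat_lit 4, nat_lit 3, nat_lit 4, nat_lit 0, nat_lit 3, nat_lit 4, nat_lit 0, nat_lit 3, nat_lit 0, nat_lit 4] else (Wt_502_504 j)
def Wt_498_504 (j : ℕ) : List ℕ := bif Nat.blt j 501 then (Wt_498_501 j) else (Wt_501_504 j)
def Wt_505_507 (j : ℕ) : List ℕ := bif Nat.blt j 506 then [nat_lit 63, nat_lit 1, nat_lit 4, nat_lit 1, nat_lit 3, nat_lit 0, nat_lit 1, nat_lit 0, nat_lit 3, nat_lit 1, nat_lit 4, nat_lit 1, nat_lit 3, nat_lit 0, nat_lit 1, nat_lit 0, nat_lit 3] else [nat_lit 4, nat_lit 0, nat_lit 1, nat_lit 4, nat_lit 3, nat_lit 2, nat_lit 4, nat_lit 1, nat_lit 0, nat_lit 4, nat_lit 1, nat_lit 2, nat_lit 1, nat_lit 4, nat_lit 1, nat_lit 2, nat_lit 1]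
def Wt_504_507 (j : ℕ) : List ℕ := bif Nat.blt j 505 then [nat_lit 0, nat_lit 3, nat_lit 4, nat_lit 3, nat_lit 4, nat_lit 2, nat_lit 4, nat_lit 2, nat_lit 4, nat_lit 3, nat_lit 4, nat_lit 2, nat_lit 4, nat_lit 1, nat_lit 2, nat_lit 1, nat_lit 3] else (Wt_505_507 j)
def Wt_508_510 (j : ℕ) : List ℕ := bif Nat.blt j 509 then [nat_lit 63, nat_lit 3, nat_lit 1, nat_lit 2, nat_lit 1, nat_lit 4, nat_lit 3, nat_lit 4, nat_lit 2, nat_lit 4, nat_lit 2, nat_lit 4, nat_lit 3, nat_lit 4, nat_lit 2, nat_lit 4, nat_lit 3, nat_lit 0] else [nat_lit 2, nat_lit 4, nat_lit 1, nat_lit 0, nat_lit 4, nat_lit 1, nat_lit 2, nat_lit 1, nat_lit 4, nat_lit 1, nat_lit 2, nat_lit 1, nat_lit 4, nat_lit 0, nat_lit 1, nat_lit 4, nat_lit 3]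
def Wt_507_510 (j : ℕ) : List ℕ := bif Nat.blt j 508 then [nat_lit 4, nat_lit 2, nat_lit 4, nat_lit 3, nat_lit 4, nat_lit 2, nat_lit 4, nat_lit 3, nat_lit 0, nat_lit 3, nat_lit 1, nat_lit 2, nat_lit 1, nat_lit 4, nat_lit 3, nat_lit 4, nat_lit 2] else (Wt_508_510 j)
def Wt_504_510 (j : ℕ) : List ℕ := bif Nat.blt j 507 then (Wt_504_507 j) else (Wt_507_510 j)
def Wt_498_510 (j : ℕ) : List ℕ := bif Nat.blt j 504 then (Wt_498_504 j) else (Wt_504_510 j)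
def Wt_511_513 (j : ℕ) : List ℕ := bif Nat.blt j 512 then [nat_lit 63, nat_lit 1, nat_lit 4, nat_lit 2, nat_lit 0, nat_lit 4, nat_lit 1, nat_lit 4, nat_lit 0, nat_lit 2, nat_lit 4, nat_lit 1, nat_lit 4, nat_lit 2, nat_lit 0, nat_lit 4] else [nat_lit 4, nat_lit 1, nat_lit 3, nat_lit 4, nat_lit 0, nat_lit 4, nat_lit 2, nat_lit 0, nat_lit 4, nat_lit 0, nat_lit 4, nat_lit 3, nat_lit 1, nat_lit 4, nat_lit 2, nat_lit 1, nat_lit 2]
def Wt_510_513 (j : ℕ) : List ℕ := bif Nat.blt j 511 then [nat_lit 63, nat_lit 1, nat_lit 3, nat_lit 0, nat_lit 3, nat_lit 4, nat_lit 2, nat_lit 3, nat_lit 4, nat_lit 2, nat_lit 4, nat_lit 1, nat_lit 4, nat_lit 2, nat_lit 4, nat_lit 3, nat_lit 2, nat_lit 4] else (Wt_511_513 j)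
def Wt_514_516 (j : ℕ) : List ℕ := bif Nat.blt j 515 then [nat_lit 63, nat_lit 3, nat_lit 1, nat_lit 0, nat_lit 4, nat_lit 3, nat_lit 4, nat_lit 2, nat_lit 3, nat_lit 4, nat_lit 1, nat_lit 4, nat_lit 0, nat_lit 1, nat_lit 0, nat_lit 4, nat_lit 1, nat_lit 2] else [nat_lit 63, nat_lit 1, nat_lit 4, nat_lit 2, nat_lit 4, nat_lit 3, nat_lit 2, nat_lit 4, nat_lit 3, nat_lit 0, nat_lit 3, nat_lit 1, nat_lit 4, nat_lit 2, nat_lit 3, nat_lit 4, nat_lit 2, nat_lit 4]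
def Wt_513_516 (j : ℕ) : List ℕ := bif Nat.blt j 514 then [nat_lit 63, nat_lit 4, nat_lit 0, nat_lit 1, nat_lit 3, nat_lit 2, nat_lit 1, nat_lit 4, nat_lit 0, nat_lit 1, nat_lit 0, nat_lit 4, nat_lit 1, nat_lit 4, nat_lit 3, nat_lit 2, nat_lit 4, nat_lit 3] else (Wt_514_516 j)
def Wt_510_516 (j : ℕ) : List ℕ := bif Nat.blt j 513 then (Wt_510_513 j) else (Wt_513_516 j)
def Wt_517_519 (j : ℕ) : List ℕ := bif Nat.blt j 518 then [nat_lit 4, nat_lit 3, nat_lit 1, nat_lit 3, nat_lit 1, nat_lit 3, nat_lit 1, nat_lit 3, nat_lit 4, nat_lit 2, nat_lit 1, nat_lit 4, nat_lit 3, nat_lit 4, nat_lit 1, nat_lit 2] else [nat_lit 3, nat_lit 4, nat_lit 1, nat_lit 0, nat_lit 4, nat_lit 1, nat_lit 2, nat_lit 1, nat_lit 4, nat_lit 1, nat_lit 2, nat_lit 1, nat_lit 4, nat_lit 0, nat_lit 1, nat_lit 4, nat_lit 2]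
def Wt_516_519 (j : ℕ) : List ℕ := bif Nat.blt j 517 then [nat_lit 1, nat_lit 4, nat_lit 2, nat_lit 1, nat_lit 4, nat_lit 1, nat_lit 4, nat_lit 3, nat_lit 2, nat_lit 0, nat_lit 3, nat_lit 1, nat_lit 4, nat_lit 1, nat_lit 4, nat_lit 0, nat_lit 4] else (Wt_517_519 j)
def Wt_520_522 (j : ℕ) : List ℕ := bif Nat.blt j 521 then [nat_lit 63, nat_lit 4, nat_lit 3, nat_lit 4, nat_lit 3, nat_lit 1, nat_lit 4, nat_lit 1, nat_lit 4, nat_lit 1, nat_lit 4, nat_lit 1, nat_lit 4, nat_lit 3, nat_lit 4, nat_lit 3] else [nat_lit 63, nat_lit 1, nat_lit 4, nat_lit 0, nat_lit 1, nat_lit 0, nat_lit 4, nat_lit 1, nat_lit 4, nat_lit 3, nat_lit 2, nat_lit 4, nat_lit 3, nat_lit 4, nat_lit 0, nat_lit 1, nat_lit 3, nat_lit 2]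
def Wt_519_522 (j : ℕ) : List ℕ := bif Nat.blt j 520 then [nat_lit 4, nat_lit 1, nat_lit 4, nat_lit 1, nat_lit 2, nat_lit 4, nat_lit 1, nat_lit 4, nat_lit 2, nat_lit 0, nat_lit 2, nat_lit 4, nat_lit 1, nat_lit 4, nat_lit 2, nat_lit 1] else (Wt_520_522 j)
def Wt_516_522 (j : ℕ) : List ℕ := bif Nat.blt j 519 then (Wt_516_519 j) else (Wt_519_522 j)
def Wt_510_522 (j : ℕ) : List ℕ := bif Nat.blt j 516 then (Wt_510_516 j) else (Wt_516_522 j)
def Wt_498_522 (j : ℕ) : List ℕ := bif Nat.blt j 510 then (Wt_498_510 j) else (Wt_510_522 j)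
def Wt_475_522 (j : ℕ) : List ℕ := bif Nat.blt j 498 then (Wt_475_498 j) else (Wt_498_522 j)
def Wt_523_525 (j : ℕ) : List ℕ := bif Nat.blt j 524 then [nat_lit 2, nat_lit 4, nat_lit 3, nat_lit 1, nat_lit 3, nat_lit 1, nat_lit 3, nat_lit 1, nat_lit 3, nat_lit 4, nat_lit 2, nat_lit 1, nat_lit 4, nat_lit 3, nat_lit 4, nat_lit 1] else [nat_lit 0, nat_lit 4, nat_lit 3, nat_lit 4, nat_lit 2, nat_lit 3, nat_lit 4, nat_lit 1, nat_lit 4, nat_lit 0, nat_lit 1, nat_lit 0, nat_lit 4, nat_lit 1, nat_lit 2, nat_lit 3, nat_lit 1]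
def Wt_522_525 (j : ℕ) : List ℕ := bif Nat.blt j 523 then [nat_lit 4, nat_lit 1, nat_lit 4, nat_lit 1, nat_lit 3, nat_lit 4, nat_lit 3, nat_lit 4, nat_lit 3, nat_lit 4, nat_lit 3, nat_lit 4, nat_lit 1, nat_lit 4, nat_lit 1] else (Wt_523_525 j)
def Wt_526_528 (j : ℕ) : List ℕ := bif Nat.blt j 527 then [nat_lit 63, nat_lit 4, nat_lit 2, nat_lit 0, nat_lit 4, nat_lit 1, nat_lit 4, nat_lit 0, nat_lit 2, nat_lit 4, nat_lit 1, nat_lit 4, nat_lit 2, nat_lit 0, nat_lit 4, nat_lit 1] else [nat_lit 1, nat_lit 3, nat_lit 0, nat_lit 3, nat_lit 4, nat_lit 2, nat_lit 3, nat_lit 4, nat_lit 2, nat_lit 4, nat_lit 1, nat_lit 4, nat_lit 2, nat_lit 4, nat_lit 3, nat_lit 2, nat_lit 4]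
def Wt_525_528 (j : ℕ) : List ℕ := bif Nat.blt j 526 then [nat_lit 63, nat_lit 4, nat_lit 0, nat_lit 1, nat_lit 0, nat_lit 4, nat_lit 1, nat_lit 4, nat_lit 3, nat_lit 2, nat_lit 4, nat_lit 3, nat_lit 4, nat_lit 0, nat_lit 1, nat_lit 3, nat_lit 2, nat_lit 1] else (Wt_526_528 j)
def Wt_522_528 (j : ℕ) : List ℕ := bif Nat.blt j 525 then (Wt_522_525 j) else (Wt_525_528 j)
def Wt_529_531 (j : ℕ) : List ℕ := bif Nat.blt j 530 then [nat_lit 4, nat_lit 0, nat_lit 4, nat_lit 1, nat_lit 4, nat_lit 1, nat_lit 3, nat_lit 0, nat_lit 2, nat_lit 3, nat_lit 4, nat_lit 1, nat_lit 4, nat_lit 1, nat_lit 2, nat_lit 4, nat_lit 1] else [nat_lit 2, nat_lit 1, nat_lit 4, nat_lit 0, nat_lit 1, nat_lit 0, nat_lit 4, nat_lit 1, nat_lit 4, nat_lit 3, nat_lit 2, nat_lit 4, nat_lit 3, nat_lit 4, nat_lit 0, nat_lit 1, nat_lit 3]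
def Wt_528_531 (j : ℕ) : List ℕ := bif Nat.blt j 529 then [nat_lit 63, nat_lit 2, nat_lit 4, nat_lit 1, nat_lit 4, nat_lit 2, nat_lit 4, nat_lit 3, nat_lit 2, nat_lit 4, nat_lit 1, nat_lit 3, nat_lit 0, nat_lit 3, nat_lit 4, nat_lit 2, nat_lit 3, nat_lit 4] else (Wt_529_531 j)
def Wt_532_534 (j : ℕ) : List ℕ := bif Nat.blt j 533 then [nat_lit 63, nat_lit 1, nat_lit 2, nat_lit 0, nat_lit 1, nat_lit 4, nat_lit 0, nat_lit 1, nat_lit 4, nat_lit 3, nat_lit 1, nat_lit 4, nat_lit 1, nat_lit 0, nat_lit 4, nat_lit 3, nat_lit 1, nat_lit 0] else [nat_lit 1, nat_lit 0, nat_lit 4, nat_lit 1, nat_lit 2, nat_lit 3, nat_lit 1, nat_lit 0, nat_lit 4, nat_lit 3, nat_lit 4, nat_lit 2, nat_lit 3, nat_lit 4, nat_lit 1, nat_lit 4, nat_lit 0]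
def Wt_531_534 (j : ℕ) : List ℕ := bif Nat.blt j 532 then [nat_lit 4, nat_lit 1, nat_lit 4, nat_lit 1, nat_lit 4, nat_lit 1, nat_lit 3, nat_lit 4, nat_lit 3, nat_lit 4, nat_lit 3, nat_lit 4, nat_lit 3, nat_lit 4, nat_lit 1] else (Wt_532_534 j)
def Wt_528_534 (j : ℕ) : List ℕ := bif Nat.blt j 531 then (Wt_528_531 j) else (Wt_531_534 j)
def Wt_522_534 (j : ℕ) : List ℕ := bif Nat.blt j 528 then (Wt_522_528 j) else (Wt_528_534 j)
def Wt_535_537 (j : ℕ) : List ℕ := bif Nat.blt j 536 then [nat_lit 63, nat_lit 4, nat_lit 1, nat_lit 2, nat_lit 4, nat_lit 2, nat_lit 4, nat_lit 2, nat_lit 1, nat_lit 4, nat_lit 1, nat_lit 2, nat_lit 4, nat_lit 3, nat_lit 4, nat_lit 2, nat_lit 4, nat_lit 1] else [nat_lit 2, nat_lit 3, nat_lit 4, nat_lit 2, nat_lit 4, nat_lit 1, nat_lit 4, nat_lit 2, nat_lit 4, nat_lit 3, nat_lit 2, nat_lit 4, nat_lit 3, nat_lit 0, nat_lit 3, nat_lit 1, nat_lit 4]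
def Wt_534_537 (j : ℕ) : List ℕ := bif Nat.blt j 535 then [nat_lit 3, nat_lit 4, nat_lit 3, nat_lit 4, nat_lit 1, nat_lit 4, nat_lit 1, nat_lit 4, nat_lit 1, nat_lit 4, nat_lit 1, nat_lit 3, nat_lit 4, nat_lit 3, nat_lit 4] else (Wt_535_537 j)
def Wt_538_540 (j : ℕ) : List ℕ := bif Nat.blt j 539 then [nat_lit 2, nat_lit 1, nat_lit 4, nat_lit 0, nat_lit 1, nat_lit 4, nat_lit 3, nat_lit 2, nat_lit 4, nat_lit 1, nat_lit 0, nat_lit 4, nat_lit 1, nat_lit 2, nat_lit 1, nat_lit 4, nat_lit 1] else [nat_lit 4, nat_lit 2, nat_lit 3, nat_lit 4, nat_lit 2, nat_lit 4, nat_lit 1, nat_lit 4, nat_lit 2, nat_lit 4, nat_lit 3, nat_lit 2, nat_lit 4, nat_lit 1, nat_lit 3, nat_lit 0, nat_lit 3]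
def Wt_537_540 (j : ℕ) : List ℕ := bif Nat.blt j 538 then [nat_lit 4, nat_lit 3, nat_lit 0, nat_lit 3, nat_lit 1, nat_lit 4, nat_lit 2, nat_lit 3, nat_lit 4, nat_lit 2, nat_lit 4, nat_lit 1, nat_lit 4, nat_lit 2, nat_lit 4, nat_lit 3, nat_lit 2] else (Wt_538_540 j)
def Wt_534_540 (j : ℕ) : List ℕ := bif Nat.blt j 537 then (Wt_534_537 j) else (Wt_537_540 j)
def Wt_541_543 (j : ℕ) : List ℕ := bif Nat.blt j 542 then [nat_lit 2, nat_lit 3, nat_lit 4, nat_lit 1, nat_lit 0, nat_lit 4, nat_lit 1, nat_lit 2, nat_lit 1, nat_lit 4, nat_lit 1, nat_lit 2, nat_lit 1, nat_lit 4, nat_lit 0, nat_lit 1, nat_lit 4] else [nat_lit 63, nat_lit 3, nat_lit 4, nat_lit 2, nat_lit 4, nat_lit 1, nat_lit 4, nat_lit 1, nat_lit 2, nat_lit 4, nat_lit 2, nat_lit 4, nat_lit 2, nat_lit 1, nat_lit 4, nat_lit 1, nat_lit 2, nat_lit 4]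
def Wt_540_543 (j : ℕ) : List ℕ := bif Nat.blt j 541 then [nat_lit 63, nat_lit 1, nat_lit 3, nat_lit 0, nat_lit 3, nat_lit 4, nat_lit 3, nat_lit 4, nat_lit 2, nat_lit 4, nat_lit 2, nat_lit 4, nat_lit 3, nat_lit 4, nat_lit 2, nat_lit 4, nat_lit 1, nat_lit 2] else (Wt_541_543 j)
def Wt_544_546 (j : ℕ) : List ℕ := bif Nat.blt j 545 then [nat_lit 63, nat_lit 2, nat_lit 4, nat_lit 1, nat_lit 4, nat_lit 2, nat_lit 0, nat_lit 4, nat_lit 1, nat_lit 4, nat_lit 2, nat_lit 0, nat_lit 4, nat_lit 1, nat_lit 4, nat_lit 0] else [nat_lit 63, nat_lit 4, nat_lit 1, nat_lit 4, nat_lit 1, nat_lit 2, nat_lit 4, nat_lit 1, nat_lit 4, nat_lit 2, nat_lit 0, nat_lit 2, nat_lit 4, nat_lit 1, nat_lit 4, nat_lit 2, nat_lit 1]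
def Wt_543_546 (j : ℕ) : List ℕ := bif Nat.blt j 544 then [nat_lit 1, nat_lit 4, nat_lit 1, nat_lit 3, nat_lit 0, nat_lit 2, nat_lit 3, nat_lit 4, nat_lit 1, nat_lit 4, nat_lit 1, nat_lit 2, nat_lit 4, nat_lit 1, nat_lit 4, nat_lit 0, nat_lit 4] else (Wt_544_546 j)
def Wt_540_546 (j : ℕ) : List ℕ := bif Nat.blt j 543 then (Wt_540_543 j) else (Wt_543_546 j)
def Wt_534_546 (j : ℕ) : List ℕ := bif Nat.blt j 540 then (Wt_534_540 j) else (Wt_540_546 j)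
def Wt_522_546 (j : ℕ) : List ℕ := bif Nat.blt j 534 then (Wt_522_534 j) else (Wt_534_546 j)
def Wt_547_549 (j : ℕ) : List ℕ := bif Nat.blt j 548 then [nat_lit 2, nat_lit 3, nat_lit 0, nat_lit 3, nat_lit 1, nat_lit 2, nat_lit 3, nat_lit 0, nat_lit 3, nat_lit 1, nat_lit 2, nat_lit 3, nat_lit 0, nat_lit 3, nat_lit 1, nat_lit 2, nat_lit 3, nat_lit 0, nat_lit 3, nat_lit 1] else [nat_lit 63, nat_lit 1, nat_lit 2, nat_lit 1, nat_lit 0, nat_lit 2, nat_lit 0, nat_lit 1, nat_lit 2, nat_lit 1, nat_lit 0, nat_lit 2, nat_lit 0]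
def Wt_546_549 (j : ℕ) : List ℕ := bif Nat.blt j 547 then [nat_lit 63, nat_lit 3, nat_lit 0, nat_lit 3, nat_lit 4, nat_lit 2, nat_lit 3, nat_lit 4, nat_lit 2, nat_lit 4, nat_lit 1, nat_lit 4, nat_lit 2, nat_lit 4, nat_lit 3, nat_lit 2, nat_lit 4, nat_lit 1] else (Wt_547_549 j)
def Wt_550_552 (j : ℕ) : List ℕ := bif Nat.blt j 551 then [nat_lit 63, nat_lit 4, nat_lit 1, nat_lit 4, nat_lit 1, nat_lit 4, nat_lit 1, nat_lit 4, nat_lit 3, nat_lit 4, nat_lit 3, nat_lit 4, nat_lit 3, nat_lit 4, nat_lit 3, nat_lit 1] else [nat_lit 63, nat_lit 4, nat_lit 3, nat_lit 4, nat_lit 0, nat_lit 1, nat_lit 3, nat_lit 2, nat_lit 1, nat_lit 4, nat_lit 0, nat_lit 1, nat_lit 0, nat_lit 4, nat_lit 1, nat_lit 4, nat_lit 3, nat_lit 2]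
def Wt_549_552 (j : ℕ) : List ℕ := bif Nat.blt j 550 then [nat_lit 4, nat_lit 3, nat_lit 0, nat_lit 3, nat_lit 1, nat_lit 2, nat_lit 1, nat_lit 4, nat_lit 2, nat_lit 4, nat_lit 3, nat_lit 4, nat_lit 2, nat_lit 4, nat_lit 2, nat_lit 4, nat_lit 3] else (Wt_550_552 j)
def Wt_546_552 (j : ℕ) : List ℕ := bif Nat.blt j 549 then (Wt_546_549 j) else (Wt_549_552 j)
def Wt_553_555 (j : ℕ) : List ℕ := bif Nat.blt j 554 then [nat_lit 2, nat_lit 3, nat_lit 4, nat_lit 3, nat_lit 4, nat_lit 0, nat_lit 3, nat_lit 4, nat_lit 0, nat_lit 3, nat_lit 0, nat_lit 4, nat_lit 3, nat_lit 0, nat_lit 4, nat_lit 3, nat_lit 4] else [nat_lit 63, nat_lit 1, nat_lit 2, nat_lit 1, nat_lit 0, nat_lit 1, nat_lit 3, nat_lit 1, nat_lit 2, nat_lit 1, nat_lit 0, nat_lit 1, nat_lit 3, nat_lit 1, nat_lit 2, nat_lit 1, nat_lit 0, nat_lit 1, nat_lit 3]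
def Wt_552_555 (j : ℕ) : List ℕ := bif Nat.blt j 553 then [nat_lit 63, nat_lit 0, nat_lit 1, nat_lit 4, nat_lit 3, nat_lit 2, nat_lit 4, nat_lit 1, nat_lit 0, nat_lit 4, nat_lit 1, nat_lit 2, nat_lit 1, nat_lit 4, nat_lit 1, nat_lit 2, nat_lit 1, nat_lit 4] else (Wt_553_555 j)
def Wt_556_558 (j : ℕ) : List ℕ := bif Nat.blt j 557 then [nat_lit 63, nat_lit 4, nat_lit 2, nat_lit 4, nat_lit 1, nat_lit 4, nat_lit 2, nat_lit 4, nat_lit 3, nat_lit 2, nat_lit 4, nat_lit 1, nat_lit 3, nat_lit 0, nat_lit 3, nat_lit 4, nat_lit 2, nat_lit 3] else [nat_lit 63, nat_lit 4, nat_lit 3, nat_lit 1, nat_lit 4, nat_lit 1, nat_lit 4, nat_lit 1, nat_lit 4, nat_lit 1, nat_lit 4, nat_lit 3, nat_lit 4, nat_lit 3, nat_lit 4, nat_lit 3]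
def Wt_555_558 (j : ℕ) : List ℕ := bif Nat.blt j 556 then [nat_lit 4, nat_lit 1, nat_lit 2, nat_lit 4, nat_lit 2, nat_lit 4, nat_lit 2, nat_lit 1, nat_lit 4, nat_lit 1, nat_lit 2, nat_lit 4, nat_lit 3, nat_lit 4, nat_lit 2, nat_lit 4, nat_lit 1] else (Wt_556_558 j)
def Wt_552_558 (j : ℕ) : List ℕ := bif Nat.blt j 555 then (Wt_552_555 j) else (Wt_555_558 j)
def Wt_546_558 (j : ℕ) : List ℕ := bif Nat.blt j 552 then (Wt_546_552 j) else (Wt_552_558 j)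
def Wt_559_561 (j : ℕ) : List ℕ := bif Nat.blt j 560 then [nat_lit 4, nat_lit 1, nat_lit 4, nat_lit 1, nat_lit 4, nat_lit 1, nat_lit 4, nat_lit 1, nat_lit 4, nat_lit 1, nat_lit 4, nat_lit 1, nat_lit 4, nat_lit 1, nat_lit 4, nat_lit 1] else [nat_lit 63, nat_lit 1, nat_lit 4, nat_lit 1, nat_lit 4, nat_lit 1, nat_lit 4, nat_lit 3, nat_lit 4, nat_lit 3, nat_lit 4, nat_lit 3, nat_lit 4, nat_lit 3, nat_lit 1, nat_lit 4]
def Wt_558_561 (j : ℕ) : List ℕ := bif Nat.blt j 559 then [nat_lit 63, nat_lit 3, nat_lit 4, nat_lit 3, nat_lit 4, nat_lit 3, nat_lit 4, nat_lit 1, nat_lit 4, nat_lit 1, nat_lit 4, nat_lit 1, nat_lit 4, nat_lit 1, nat_lit 3, nat_lit 4] else (Wt_559_561 j)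
def Wt_562_564 (j : ℕ) : List ℕ := bif Nat.blt j 563 then [nat_lit 63, nat_lit 3, nat_lit 1, nat_lit 4, nat_lit 2, nat_lit 1, nat_lit 2, nat_lit 4, nat_lit 1, nat_lit 3, nat_lit 4, nat_lit 0, nat_lit 4, nat_lit 2, nat_lit 0, nat_lit 4, nat_lit 0, nat_lit 4] else [nat_lit 63, nat_lit 2, nat_lit 4, nat_lit 0, nat_lit 2, nat_lit 4, nat_lit 3, nat_lit 2, nat_lit 3, nat_lit 0, nat_lit 4, nat_lit 2, nat_lit 0, nat_lit 4, nat_lit 2, nat_lit 0, nat_lit 4, nat_lit 0]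
def Wt_561_564 (j : ℕ) : List ℕ := bif Nat.blt j 562 then [nat_lit 63, nat_lit 3, nat_lit 4, nat_lit 0, nat_lit 3, nat_lit 0, nat_lit 4, nat_lit 3, nat_lit 0, nat_lit 4, nat_lit 3, nat_lit 4, nat_lit 2, nat_lit 3, nat_lit 4, nat_lit 3, nat_lit 4, nat_lit 0] else (Wt_562_564 j)
def Wt_558_564 (j : ℕ) : List ℕ := bif Nat.blt j 561 then (Wt_558_561 j) else (Wt_561_564 j)
def Wt_565_567 (j : ℕ) : List ℕ := bif Nat.blt j 566 then [nat_lit 63, nat_lit 2, nat_lit 0, nat_lit 4, nat_lit 1, nat_lit 4, nat_lit 0, nat_lit 2, nat_lit 4, nat_lit 1, nat_lit 4, nat_lit 2, nat_lit 0, nat_lit 4, nat_lit 1, nat_lit 4] else [nat_lit 63, nat_lit 3, nat_lit 4, nat_lit 2, nat_lit 3, nat_lit 4, nat_lit 1, nat_lit 4, nat_lit 0, nat_lit 1, nat_lit 0, nat_lit 4, nat_lit 1, nat_lit 2, nat_lit 3, nat_lit 1, nat_lit 0, nat_lit 4]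
def Wt_564_567 (j : ℕ) : List ℕ := bif Nat.blt j 565 then [nat_lit 63, nat_lit 1, nat_lit 2, nat_lit 4, nat_lit 1, nat_lit 3, nat_lit 4, nat_lit 0, nat_lit 4, nat_lit 2, nat_lit 0, nat_lit 4, nat_lit 0, nat_lit 4, nat_lit 3, nat_lit 1, nat_lit 4, nat_lit 2] else (Wt_565_567 j)
def Wt_568_570 (j : ℕ) : List ℕ := bif Nat.blt j 569 then [nat_lit 63, nat_lit 2, nat_lit 4, nat_lit 3, nat_lit 4, nat_lit 2, nat_lit 4, nat_lit 1, nat_lit 2, nat_lit 1, nat_lit 3, nat_lit 0, nat_lit 3, nat_lit 4, nat_lit 3, nat_lit 4, nat_lit 2, nat_lit 4] else [nat_lit 63, nat_lit 63, nat_lit 3, nat_lit 63, nat_lit 3, nat_lit 63]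
def Wt_567_570 (j : ℕ) : List ℕ := bif Nat.blt j 568 then [nat_lit 63, nat_lit 4, nat_lit 1, nat_lit 4, nat_lit 0, nat_lit 4, nat_lit 1, nat_lit 4, nat_lit 1, nat_lit 3, nat_lit 0, nat_lit 2, nat_lit 3, nat_lit 4, nat_lit 1, nat_lit 4, nat_lit 1, nat_lit 2] else (Wt_568_570 j)
def Wt_564_570 (j : ℕ) : List ℕ := bif Nat.blt j 567 then (Wt_564_567 j) else (Wt_567_570 j)
def Wt_558_570 (j : ℕ) : List ℕ := bif Nat.blt j 564 then (Wt_558_564 j) else (Wt_564_570 j)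
def Wt_546_570 (j : ℕ) : List ℕ := bif Nat.blt j 558 then (Wt_546_558 j) else (Wt_558_570 j)
def Wt_522_570 (j : ℕ) : List ℕ := bif Nat.blt j 546 then (Wt_522_546 j) else (Wt_546_570 j)
def Wt_475_570 (j : ℕ) : List ℕ := bif Nat.blt j 522 then (Wt_475_522 j) else (Wt_522_570 j)
def Wt_380_570 (j : ℕ) : List ℕ := bif Nat.blt j 475 then (Wt_380_475 j) else (Wt_475_570 j)
def Wt_570_572 (j : ℕ) : List ℕ := bif Nat.blt j 571 then [nat_lit 63, nat_lit 63, nat_lit 1, nat_lit 63, nat_lit 1] else [nat_lit 63, nat_lit 2, nat_lit 63, nat_lit 2, nat_lit 63]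
def Wt_573_575 (j : ℕ) : List ℕ := bif Nat.blt j 574 then [nat_lit 63, nat_lit 63, nat_lit 2, nat_lit 63, nat_lit 2] else [nat_lit 63, nat_lit 4, nat_lit 63, nat_lit 4, nat_lit 63]
def Wt_572_575 (j : ℕ) : List ℕ := bif Nat.blt j 573 then [nat_lit 63, nat_lit 63, nat_lit 4, nat_lit 63, nat_lit 4] else (Wt_573_575 j)
def Wt_570_575 (j : ℕ) : List ℕ := bif Nat.blt j 572 then (Wt_570_572 j) else (Wt_572_575 j)
def Wt_576_578 (j : ℕ) : List ℕ := bif Nat.blt j 577 then [nat_lit 63, nat_lit 3, nat_lit 63, nat_lit 3, nat_lit 63] else [nat_lit 63, nat_lit 0, nat_lit 63, nat_lit 0, nat_lit 63]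
def Wt_575_578 (j : ℕ) : List ℕ := bif Nat.blt j 576 then [nat_lit 1, nat_lit 63, nat_lit 1, nat_lit 63] else (Wt_576_578 j)
def Wt_579_581 (j : ℕ) : List ℕ := bif Nat.blt j 580 then [nat_lit 63, nat_lit 63, nat_lit 2, nat_lit 63, nat_lit 2, nat_lit 63] else [nat_lit 63, nat_lit 63, nat_lit 0, nat_lit 63, nat_lit 0]
def Wt_578_581 (j : ℕ) : List ℕ := bif Nat.blt j 579 then [nat_lit 63, nat_lit 63, nat_lit 3, nat_lit 63, nat_lit 3] else (Wt_579_581 j)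
def Wt_575_581 (j : ℕ) : List ℕ := bif Nat.blt j 578 then (Wt_575_578 j) else (Wt_578_581 j)
def Wt_570_581 (j : ℕ) : List ℕ := bif Nat.blt j 575 then (Wt_570_575 j) else (Wt_575_581 j)
def Wt_582_584 (j : ℕ) : List ℕ := bif Nat.blt j 583 then [nat_lit 63, nat_lit 63, nat_lit 4, nat_lit 63, nat_lit 4, nat_lit 63] else [nat_lit 3, nat_lit 63, nat_lit 3, nat_lit 63]
def Wt_581_584 (j : ℕ) : List ℕ := bif Nat.blt j 582 then [nat_lit 4, nat_lit 63, nat_lit 4, nat_lit 63] else (Wt_582_584 j)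
def Wt_585_587 (j : ℕ) : List ℕ := bif Nat.blt j 586 then [nat_lit 0, nat_lit 63, nat_lit 0, nat_lit 63] else [nat_lit 63, nat_lit 63, nat_lit 63, nat_lit 63]
def Wt_584_587 (j : ℕ) : List ℕ := bif Nat.blt j 585 then [nat_lit 2, nat_lit 63, nat_lit 2, nat_lit 63] else (Wt_585_587 j)
def Wt_581_587 (j : ℕ) : List ℕ := bif Nat.blt j 584 then (Wt_581_584 j) else (Wt_584_587 j)
def Wt_588_590 (j : ℕ) : List ℕ := bif Nat.blt j 589 then [nat_lit 63, nat_lit 4, nat_lit 1, nat_lit 0, nat_lit 4, nat_lit 1, nat_lit 0, nat_lit 2, nat_lit 1, nat_lit 0, nat_lit 1, nat_lit 3, nat_lit 4, nat_lit 0, nat_lit 1, nat_lit 4, nat_lit 1, nat_lit 3] else [nat_lit 63, nat_lit 1, nat_lit 4, nat_lit 1, nat_lit 2, nat_lit 1, nat_lit 4, nat_lit 0, nat_lit 1, nat_lit 4, nat_lit 3, nat_lit 2, nat_lit 4, nat_lit 1, nat_lit 0, nat_lit 4, nat_lit 1, nat_lit 2]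
def Wt_587_590 (j : ℕ) : List ℕ := bif Nat.blt j 588 then [nat_lit 63, nat_lit 4, nat_lit 1, nat_lit 2, nat_lit 4, nat_lit 1, nat_lit 4, nat_lit 2, nat_lit 0, nat_lit 2, nat_lit 4, nat_lit 1, nat_lit 4, nat_lit 2, nat_lit 1, nat_lit 4, nat_lit 1] else (Wt_588_590 j)
def Wt_591_593 (j : ℕ) : List ℕ := bif Nat.blt j 592 then [nat_lit 63, nat_lit 1, nat_lit 2, nat_lit 0, nat_lit 3, nat_lit 2, nat_lit 0, nat_lit 1, nat_lit 2, nat_lit 0, nat_lit 3, nat_lit 2, nat_lit 0, nat_lit 1, nat_lit 2, nat_lit 0, nat_lit 3, nat_lit 2, nat_lit 0] else [nat_lit 63, nat_lit 2, nat_lit 0, nat_lit 1, nat_lit 2, nat_lit 0, nat_lit 3, nat_lit 2, nat_lit 0, nat_lit 1, nat_lit 2, nat_lit 0, nat_lit 3, nat_lit 2, nat_lit 0, nat_lit 1, nat_lit 2, nat_lit 0, nat_lit 3]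
def Wt_590_593 (j : ℕ) : List ℕ := bif Nat.blt j 591 then [nat_lit 63, nat_lit 2, nat_lit 1, nat_lit 0, nat_lit 1, nat_lit 2, nat_lit 0, nat_lit 2, nat_lit 1, nat_lit 0, nat_lit 1, nat_lit 2, nat_lit 0, nat_lit 2, nat_lit 1, nat_lit 0, nat_lit 1, nat_lit 2, nat_lit 0] else (Wt_591_593 j)
def Wt_587_593 (j : ℕ) : List ℕ := bif Nat.blt j 590 then (Wt_587_590 j) else (Wt_590_593 j)
def Wt_581_593 (j : ℕ) : List ℕ := bif Nat.blt j 587 then (Wt_581_587 j) else (Wt_587_593 j)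
def Wt_570_593 (j : ℕ) : List ℕ := bif Nat.blt j 581 then (Wt_570_581 j) else (Wt_581_593 j)
def Wt_594_596 (j : ℕ) : List ℕ := bif Nat.blt j 595 then [nat_lit 63, nat_lit 3, nat_lit 0, nat_lit 3, nat_lit 0, nat_lit 3, nat_lit 0, nat_lit 1, nat_lit 3, nat_lit 0, nat_lit 3, nat_lit 0, nat_lit 3, nat_lit 0, nat_lit 1, nat_lit 3, nat_lit 0, nat_lit 3, nat_lit 0, nat_lit 3, nat_lit 0, nat_lit 1] else [nat_lit 63, nat_lit 3, nat_lit 0, nat_lit 1, nat_lit 3, nat_lit 0, nat_lit 3, nat_lit 0, nat_lit 3, nat_lit 0, nat_lit 1, nat_lit 3, nat_lit 0, nat_lit 3, nat_lit 0, nat_lit 3, nat_lit 0, nat_lit 1, nat_lit 3, nat_lit 0, nat_lit 3, nat_lit 0]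
def Wt_593_596 (j : ℕ) : List ℕ := bif Nat.blt j 594 then [nat_lit 63, nat_lit 3, nat_lit 0, nat_lit 3, nat_lit 0, nat_lit 3, nat_lit 1, nat_lit 0, nat_lit 3, nat_lit 0, nat_lit 3, nat_lit 0, nat_lit 3, nat_lit 1, nat_lit 0, nat_lit 3, nat_lit 0, nat_lit 3, nat_lit 0, nat_lit 3, nat_lit 1, nat_lit 0] else (Wt_594_596 j)
def Wt_597_599 (j : ℕ) : List ℕ := bif Nat.blt j 598 then [nat_lit 63, nat_lit 1, nat_lit 2, nat_lit 1, nat_lit 3, nat_lit 2, nat_lit 1, nat_lit 0, nat_lit 1, nat_lit 2, nat_lit 1, nat_lit 3, nat_lit 2, nat_lit 1, nat_lit 0, nat_lit 1, nat_lit 2, nat_lit 1, nat_lit 3, nat_lit 2, nat_lit 1, nat_lit 0] else [nat_lit 0, nat_lit 1, nat_lit 2, nat_lit 1, nat_lit 3, nat_lit 1, nat_lit 0, nat_lit 1, nat_lit 2, nat_lit 1, nat_lit 3, nat_lit 1, nat_lit 0, nat_lit 1, nat_lit 2, nat_lit 1, nat_lit 3, nat_lit 1]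
def Wt_596_599 (j : ℕ) : List ℕ := bif Nat.blt j 597 then [nat_lit 63, nat_lit 3, nat_lit 0, nat_lit 3, nat_lit 0, nat_lit 1, nat_lit 3, nat_lit 2, nat_lit 3, nat_lit 0, nat_lit 3, nat_lit 0, nat_lit 1, nat_lit 3, nat_lit 2, nat_lit 3, nat_lit 0, nat_lit 3, nat_lit 0, nat_lit 1, nat_lit 3, nat_lit 2] else (Wt_597_599 j)
def Wt_593_599 (j : ℕ) : List ℕ := bif Nat.blt j 596 then (Wt_593_596 j) else (Wt_596_599 j)
def Wt_600_602 (j : ℕ) : List ℕ := bif Nat.blt j 601 then [nat_lit 63, nat_lit 1, nat_lit 3, nat_lit 1, nat_lit 2, nat_lit 1, nat_lit 0, nat_lit 1, nat_lit 3, nat_lit 1, nat_lit 2, nat_lit 1, nat_lit 0, nat_lit 1, nat_lit 3, nat_lit 1, nat_lit 2, nat_lit 1, nat_lit 0] else [nat_lit 63, nat_lit 1, nat_lit 3, nat_lit 0, nat_lit 1, nat_lit 0, nat_lit 3, nat_lit 1, nat_lit 4, nat_lit 1, nat_lit 3, nat_lit 0, nat_lit 1, nat_lit 0, nat_lit 3, nat_lit 1, nat_lit 4]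
def Wt_599_602 (j : ℕ) : List ℕ := bif Nat.blt j 600 then [nat_lit 63, nat_lit 1, nat_lit 2, nat_lit 1, nat_lit 3, nat_lit 1, nat_lit 0, nat_lit 1, nat_lit 2, nat_lit 1, nat_lit 3, nat_lit 1, nat_lit 0, nat_lit 1, nat_lit 2, nat_lit 1, nat_lit 3, nat_lit 1, nat_lit 0] else (Wt_600_602 j)
def Wt_603_605 (j : ℕ) : List ℕ := bif Nat.blt j 604 then [nat_lit 63, nat_lit 0, nat_lit 2, nat_lit 4, nat_lit 1, nat_lit 4, nat_lit 2, nat_lit 1, nat_lit 4, nat_lit 1, nat_lit 4, nat_lit 1, nat_lit 2, nat_lit 4, nat_lit 1, nat_lit 4, nat_lit 2] else [nat_lit 63, nat_lit 3, nat_lit 1, nat_lit 3, nat_lit 1, nat_lit 3, nat_lit 1, nat_lit 3, nat_lit 4, nat_lit 2, nat_lit 1, nat_lit 4, nat_lit 3, nat_lit 4, nat_lit 1, nat_lit 2, nat_lit 4]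
def Wt_602_605 (j : ℕ) : List ℕ := bif Nat.blt j 603 then [nat_lit 63, nat_lit 4, nat_lit 1, nat_lit 4, nat_lit 1, nat_lit 4, nat_lit 1, nat_lit 3, nat_lit 4, nat_lit 3, nat_lit 4, nat_lit 3, nat_lit 4, nat_lit 3, nat_lit 4, nat_lit 1] else (Wt_603_605 j)
def Wt_599_605 (j : ℕ) : List ℕ := bif Nat.blt j 602 then (Wt_599_602 j) else (Wt_602_605 j)
def Wt_593_605 (j : ℕ) : List ℕ := bif Nat.blt j 599 then (Wt_593_599 j) else (Wt_599_605 j)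
def Wt_606_608 (j : ℕ) : List ℕ := bif Nat.blt j 607 then [nat_lit 63, nat_lit 3, nat_lit 1, nat_lit 0, nat_lit 1, nat_lit 2, nat_lit 0, nat_lit 1, nat_lit 4, nat_lit 0, nat_lit 1, nat_lit 4, nat_lit 3, nat_lit 1, nat_lit 4, nat_lit 1, nat_lit 0, nat_lit 4] else [nat_lit 63, nat_lit 1, nat_lit 2, nat_lit 1, nat_lit 4, nat_lit 1, nat_lit 2, nat_lit 1, nat_lit 4, nat_lit 0, nat_lit 1, nat_lit 4, nat_lit 3, nat_lit 2, nat_lit 4, nat_lit 1, nat_lit 0, nat_lit 4]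
def Wt_605_608 (j : ℕ) : List ℕ := bif Nat.blt j 606 then [nat_lit 63, nat_lit 4, nat_lit 3, nat_lit 1, nat_lit 4, nat_lit 1, nat_lit 0, nat_lit 4, nat_lit 3, nat_lit 1, nat_lit 0, nat_lit 1, nat_lit 2, nat_lit 0, nat_lit 1, nat_lit 4, nat_lit 0, nat_lit 1] else (Wt_606_608 j)
def Wt_609_611 (j : ℕ) : List ℕ := bif Nat.blt j 610 then [nat_lit 63, nat_lit 0, nat_lit 4, nat_lit 2, nat_lit 0, nat_lit 4, nat_lit 0, nat_lit 4, nat_lit 3, nat_lit 1, nat_lit 4, nat_lit 2, nat_lit 1, nat_lit 2, nat_lit 4, nat_lit 1, nat_lit 3, nat_lit 4] else [nat_lit 63, nat_lit 2, nat_lit 3, nat_lit 4, nat_lit 2, nat_lit 4, nat_lit 1, nat_lit 4, nat_lit 2, nat_lit 4, nat_lit 3, nat_lit 2, nat_lit 4, nat_lit 1, nat_lit 3, nat_lit 0, nat_lit 3, nat_lit 4]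
def Wt_608_611 (j : ℕ) : List ℕ := bif Nat.blt j 609 then [nat_lit 4, nat_lit 1, nat_lit 2, nat_lit 4, nat_lit 1, nat_lit 4, nat_lit 0, nat_lit 4, nat_lit 1, nat_lit 4, nat_lit 1, nat_lit 3, nat_lit 0, nat_lit 2, nat_lit 3, nat_lit 4, nat_lit 1] else (Wt_609_611 j)
def Wt_605_611 (j : ℕ) : List ℕ := bif Nat.blt j 608 then (Wt_605_608 j) else (Wt_608_611 j)
def Wt_612_614 (j : ℕ) : List ℕ := bif Nat.blt j 613 then [nat_lit 4, nat_lit 2, nat_lit 4, nat_lit 1, nat_lit 2, nat_lit 1, nat_lit 3, nat_lit 0, nat_lit 3, nat_lit 4, nat_lit 3, nat_lit 4, nat_lit 2, nat_lit 4, nat_lit 2, nat_lit 4, nat_lit 3] else [nat_lit 63, nat_lit 0, nat_lit 4, nat_lit 1, nat_lit 2, nat_lit 3, nat_lit 1, nat_lit 0, nat_lit 4, nat_lit 3, nat_lit 4, nat_lit 2, nat_lit 3, nat_lit 4, nat_lit 1, nat_lit 4, nat_lit 0, nat_lit 1]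
def Wt_611_614 (j : ℕ) : List ℕ := bif Nat.blt j 612 then [nat_lit 63, nat_lit 4, nat_lit 2, nat_lit 4, nat_lit 1, nat_lit 2, nat_lit 1, nat_lit 3, nat_lit 0, nat_lit 3, nat_lit 4, nat_lit 3, nat_lit 4, nat_lit 2, nat_lit 4, nat_lit 2, nat_lit 4, nat_lit 3] else (Wt_612_614 j)
def Wt_615_617 (j : ℕ) : List ℕ := bif Nat.blt j 616 then [nat_lit 63, nat_lit 2, nat_lit 4, nat_lit 1, nat_lit 4, nat_lit 1, nat_lit 2, nat_lit 4, nat_lit 2, nat_lit 4, nat_lit 2, nat_lit 1, nat_lit 4, nat_lit 1, nat_lit 2, nat_lit 4, nat_lit 3, nat_lit 4] else [nat_lit 63, nat_lit 2, nat_lit 3, nat_lit 1, nat_lit 2, nat_lit 1, nat_lit 0, nat_lit 1, nat_lit 2, nat_lit 3, nat_lit 1, nat_lit 2, nat_lit 1, nat_lit 0, nat_lit 1, nat_lit 2, nat_lit 3, nat_lit 1, nat_lit 2, nat_lit 1, nat_lit 0, nat_lit 1]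
def Wt_614_617 (j : ℕ) : List ℕ := bif Nat.blt j 615 then [nat_lit 63, nat_lit 2, nat_lit 1, nat_lit 4, nat_lit 1, nat_lit 2, nat_lit 4, nat_lit 3, nat_lit 4, nat_lit 2, nat_lit 4, nat_lit 1, nat_lit 4, nat_lit 1, nat_lit 2, nat_lit 4, nat_lit 2, nat_lit 4] else (Wt_615_617 j)
def Wt_611_617 (j : ℕ) : List ℕ := bif Nat.blt j 614 then (Wt_611_614 j) else (Wt_614_617 j)
def Wt_605_617 (j : ℕ) : List ℕ := bif Nat.blt j 611 then (Wt_605_611 j) else (Wt_611_617 j)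
def Wt_593_617 (j : ℕ) : List ℕ := bif Nat.blt j 605 then (Wt_593_605 j) else (Wt_605_617 j)
def Wt_570_617 (j : ℕ) : List ℕ := bif Nat.blt j 593 then (Wt_570_593 j) else (Wt_593_617 j)
def Wt_618_620 (j : ℕ) : List ℕ := bif Nat.blt j 619 then [nat_lit 63, nat_lit 4, nat_lit 3, nat_lit 4, nat_lit 3, nat_lit 4, nat_lit 3, nat_lit 4, nat_lit 1, nat_lit 4, nat_lit 1, nat_lit 4, nat_lit 1, nat_lit 4, nat_lit 1, nat_lit 3] else [nat_lit 63, nat_lit 1, nat_lit 3, nat_lit 4, nat_lit 0, nat_lit 1, nat_lit 4, nat_lit 1, nat_lit 3, nat_lit 4, nat_lit 1, nat_lit 0, nat_lit 4, nat_lit 1, nat_lit 0, nat_lit 2, nat_lit 1, nat_lit 0]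
def Wt_617_620 (j : ℕ) : List ℕ := bif Nat.blt j 618 then [nat_lit 63, nat_lit 4, nat_lit 1, nat_lit 4, nat_lit 1, nat_lit 4, nat_lit 1, nat_lit 4, nat_lit 1, nat_lit 3, nat_lit 4, nat_lit 3, nat_lit 4, nat_lit 3, nat_lit 4, nat_lit 3] else (Wt_618_620 j)
def Wt_621_623 (j : ℕ) : List ℕ := bif Nat.blt j 622 then [nat_lit 63, nat_lit 2, nat_lit 1, nat_lit 4, nat_lit 0, nat_lit 1, nat_lit 4, nat_lit 3, nat_lit 2, nat_lit 4, nat_lit 1, nat_lit 0, nat_lit 4, nat_lit 1, nat_lit 2, nat_lit 1, nat_lit 4, nat_lit 1] else [nat_lit 63, nat_lit 4, nat_lit 1, nat_lit 0, nat_lit 4, nat_lit 1, nat_lit 2, nat_lit 1, nat_lit 4, nat_lit 1, nat_lit 2, nat_lit 1, nat_lit 4, nat_lit 0, nat_lit 1, nat_lit 4, nat_lit 3, nat_lit 2]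
def Wt_620_623 (j : ℕ) : List ℕ := bif Nat.blt j 621 then [nat_lit 63, nat_lit 1, nat_lit 0, nat_lit 1, nat_lit 2, nat_lit 0, nat_lit 1, nat_lit 4, nat_lit 0, nat_lit 1, nat_lit 4, nat_lit 3, nat_lit 1, nat_lit 4, nat_lit 1, nat_lit 0, nat_lit 4, nat_lit 3] else (Wt_621_623 j)
def Wt_617_623 (j : ℕ) : List ℕ := bif Nat.blt j 620 then (Wt_617_620 j) else (Wt_620_623 j)
def Wt_624_626 (j : ℕ) : List ℕ := bif Nat.blt j 625 then [nat_lit 63, nat_lit 3, nat_lit 2, nat_lit 1, nat_lit 4, nat_lit 0, nat_lit 1, nat_lit 0, nat_lit 4, nat_lit 1, nat_lit 4, nat_lit 3, nat_lit 2, nat_lit 4, nat_lit 3, nat_lit 4, nat_lit 0, nat_lit 1] else [nat_lit 63, nat_lit 4, nat_lit 2, nat_lit 3, nat_lit 4, nat_lit 1, nat_lit 4, nat_lit 0, nat_lit 1, nat_lit 0, nat_lit 4, nat_lit 1, nat_lit 2, nat_lit 3, nat_lit 1, nat_lit 0, nat_lit 4, nat_lit 3]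
def Wt_623_626 (j : ℕ) : List ℕ := bif Nat.blt j 624 then [nat_lit 63, nat_lit 0, nat_lit 4, nat_lit 1, nat_lit 4, nat_lit 1, nat_lit 3, nat_lit 0, nat_lit 2, nat_lit 3, nat_lit 4, nat_lit 1, nat_lit 4, nat_lit 1, nat_lit 2, nat_lit 4, nat_lit 1, nat_lit 4] else (Wt_624_626 j)
def Wt_627_629 (j : ℕ) : List ℕ := bif Nat.blt j 628 then [nat_lit 63, nat_lit 0, nat_lit 4, nat_lit 1, nat_lit 4, nat_lit 2, nat_lit 0, nat_lit 4, nat_lit 1, nat_lit 4, nat_lit 0, nat_lit 2, nat_lit 4, nat_lit 1, nat_lit 4, nat_lit 2] else [nat_lit 63, nat_lit 1, nat_lit 4, nat_lit 2, nat_lit 0, nat_lit 2, nat_lit 4, nat_lit 1, nat_lit 4, nat_lit 2, nat_lit 1, nat_lit 4, nat_lit 1, nat_lit 4, nat_lit 1, nat_lit 2, nat_lit 4]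
def Wt_626_629 (j : ℕ) : List ℕ := bif Nat.blt j 627 then [nat_lit 63, nat_lit 0, nat_lit 1, nat_lit 0, nat_lit 4, nat_lit 1, nat_lit 2, nat_lit 3, nat_lit 1, nat_lit 0, nat_lit 4, nat_lit 3, nat_lit 4, nat_lit 2, nat_lit 3, nat_lit 4, nat_lit 1, nat_lit 4] else (Wt_627_629 j)
def Wt_623_629 (j : ℕ) : List ℕ := bif Nat.blt j 626 then (Wt_623_626 j) else (Wt_626_629 j)
def Wt_617_629 (j : ℕ) : List ℕ := bif Nat.blt j 623 then (Wt_617_623 j) else (Wt_623_629 j)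
def Wt_630_632 (j : ℕ) : List ℕ := bif Nat.blt j 631 then [nat_lit 63, nat_lit 1, nat_lit 3, nat_lit 1, nat_lit 3, nat_lit 1, nat_lit 3, nat_lit 4, nat_lit 2, nat_lit 1, nat_lit 4, nat_lit 3, nat_lit 4, nat_lit 1, nat_lit 2, nat_lit 4, nat_lit 3] else [nat_lit 63, nat_lit 3, nat_lit 1, nat_lit 3, nat_lit 4, nat_lit 2, nat_lit 1, nat_lit 4, nat_lit 3, nat_lit 4, nat_lit 1, nat_lit 2, nat_lit 4, nat_lit 3, nat_lit 1, nat_lit 3, nat_lit 1]
def Wt_629_632 (j : ℕ) : List ℕ := bif Nat.blt j 630 then [nat_lit 63, nat_lit 2, nat_lit 0, nat_lit 2, nat_lit 4, nat_lit 1, nat_lit 4, nat_lit 2, nat_lit 1, nat_lit 4, nat_lit 1, nat_lit 4, nat_lit 1, nat_lit 2, nat_lit 4, nat_lit 1, nat_lit 4] else (Wt_630_632 j)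
def Wt_633_635 (j : ℕ) : List ℕ := bif Nat.blt j 634 then [nat_lit 63, nat_lit 1, nat_lit 4, nat_lit 3, nat_lit 1, nat_lit 4, nat_lit 1, nat_lit 0, nat_lit 4, nat_lit 3, nat_lit 1, nat_lit 0, nat_lit 1, nat_lit 2, nat_lit 0, nat_lit 1, nat_lit 4, nat_lit 0] else [nat_lit 63, nat_lit 4, nat_lit 3, nat_lit 2, nat_lit 4, nat_lit 1, nat_lit 0, nat_lit 4, nat_lit 1, nat_lit 2, nat_lit 1, nat_lit 4, nat_lit 1, nat_lit 2, nat_lit 1, nat_lit 4, nat_lit 0, nat_lit 1]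
def Wt_632_635 (j : ℕ) : List ℕ := bif Nat.blt j 633 then [nat_lit 63, nat_lit 1, nat_lit 4, nat_lit 1, nat_lit 3, nat_lit 4, nat_lit 1, nat_lit 0, nat_lit 4, nat_lit 1, nat_lit 0, nat_lit 2, nat_lit 1, nat_lit 0, nat_lit 1, nat_lit 3, nat_lit 4, nat_lit 0] else (Wt_633_635 j)
def Wt_629_635 (j : ℕ) : List ℕ := bif Nat.blt j 632 then (Wt_629_632 j) else (Wt_632_635 j)
def Wt_636_638 (j : ℕ) : List ℕ := bif Nat.blt j 637 then [nat_lit 63, nat_lit 2, nat_lit 0, nat_lit 4, nat_lit 0, nat_lit 4, nat_lit 3, nat_lit 1, nat_lit 4, nat_lit 2, nat_lit 1, nat_lit 2, nat_lit 4, nat_lit 1, nat_lit 3, nat_lit 4, nat_lit 0, nat_lit 4] else [nat_lit 63, nat_lit 3, nat_lit 4, nat_lit 0, nat_lit 4, nat_lit 2, nat_lit 0, nat_lit 4, nat_lit 0, nat_lit 4, nat_lit 3, nat_lit 1, nat_lit 4, nat_lit 2, nat_lit 1, nat_lit 2, nat_lit 4, nat_lit 1]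
def Wt_635_638 (j : ℕ) : List ℕ := bif Nat.blt j 636 then [nat_lit 63, nat_lit 4, nat_lit 0, nat_lit 1, nat_lit 4, nat_lit 3, nat_lit 2, nat_lit 4, nat_lit 1, nat_lit 0, nat_lit 4, nat_lit 1, nat_lit 2, nat_lit 1, nat_lit 4, nat_lit 1, nat_lit 2, nat_lit 1] else (Wt_636_638 j)
def Wt_639_641 (j : ℕ) : List ℕ := bif Nat.blt j 640 then [nat_lit 63, nat_lit 1, nat_lit 3, nat_lit 4, nat_lit 0, nat_lit 4, nat_lit 2, nat_lit 0, nat_lit 4, nat_lit 0, nat_lit 4, nat_lit 3, nat_lit 1, nat_lit 4, nat_lit 2, nat_lit 1, nat_lit 2, nat_lit 4] else [nat_lit 63, nat_lit 0, nat_lit 4, nat_lit 3, nat_lit 0, nat_lit 4, nat_lit 3, nat_lit 4, nat_lit 2, nat_lit 3, nat_lit 4, nat_lit 3, nat_lit 4, nat_lit 0, nat_lit 3, nat_lit 4, nat_lit 0, nat_lit 3]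
def Wt_638_641 (j : ℕ) : List ℕ := bif Nat.blt j 639 then [nat_lit 63, nat_lit 0, nat_lit 4, nat_lit 0, nat_lit 4, nat_lit 3, nat_lit 1, nat_lit 4, nat_lit 2, nat_lit 1, nat_lit 2, nat_lit 4, nat_lit 1, nat_lit 3, nat_lit 4, nat_lit 0, nat_lit 4, nat_lit 2] else (Wt_639_641 j)
def Wt_635_641 (j : ℕ) : List ℕ := bif Nat.blt j 638 then (Wt_635_638 j) else (Wt_638_641 j)
def Wt_629_641 (j : ℕ) : List ℕ := bif Nat.blt j 635 then (Wt_629_635 j) else (Wt_635_641 j)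
def Wt_617_641 (j : ℕ) : List ℕ := bif Nat.blt j 629 then (Wt_617_629 j) else (Wt_629_641 j)
def Wt_642_644 (j : ℕ) : List ℕ := bif Nat.blt j 643 then [nat_lit 63, nat_lit 3, nat_lit 4, nat_lit 2, nat_lit 3, nat_lit 4, nat_lit 3, nat_lit 4, nat_lit 0, nat_lit 3, nat_lit 4, nat_lit 0, nat_lit 3, nat_lit 0, nat_lit 4, nat_lit 3, nat_lit 0, nat_lit 4] else [nat_lit 63, nat_lit 4, nat_lit 1, nat_lit 3, nat_lit 0, nat_lit 3, nat_lit 4, nat_lit 2, nat_lit 3, nat_lit 4, nat_lit 2, nat_lit 4, nat_lit 1, nat_lit 4, nat_lit 2, nat_lit 4, nat_lit 3, nat_lit 2]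
def Wt_641_644 (j : ℕ) : List ℕ := bif Nat.blt j 642 then [nat_lit 63, nat_lit 4, nat_lit 0, nat_lit 3, nat_lit 4, nat_lit 0, nat_lit 3, nat_lit 0, nat_lit 4, nat_lit 3, nat_lit 0, nat_lit 4, nat_lit 3, nat_lit 4, nat_lit 2, nat_lit 3, nat_lit 4, nat_lit 3] else (Wt_642_644 j)
def Wt_645_647 (j : ℕ) : List ℕ := bif Nat.blt j 646 then [nat_lit 63, nat_lit 4, nat_lit 1, nat_lit 4, nat_lit 3, nat_lit 2, nat_lit 4, nat_lit 3, nat_lit 4, nat_lit 0, nat_lit 1, nat_lit 3, nat_lit 2, nat_lit 1, nat_lit 4, nat_lit 0, nat_lit 1, nat_lit 0] else [nat_lit 63, nat_lit 3, nat_lit 2, nat_lit 4, nat_lit 3, nat_lit 4, nat_lit 0, nat_lit 1, nat_lit 3, nat_lit 2, nat_lit 1, nat_lit 4, nat_lit 0, nat_lit 1, nat_lit 0, nat_lit 4, nat_lit 1, nat_lit 4]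
def Wt_644_647 (j : ℕ) : List ℕ := bif Nat.blt j 645 then [nat_lit 63, nat_lit 3, nat_lit 4, nat_lit 0, nat_lit 1, nat_lit 3, nat_lit 2, nat_lit 1, nat_lit 4, nat_lit 0, nat_lit 1, nat_lit 0, nat_lit 4, nat_lit 1, nat_lit 4, nat_lit 3, nat_lit 2, nat_lit 4] else (Wt_645_647 j)
def Wt_641_647 (j : ℕ) : List ℕ := bif Nat.blt j 644 then (Wt_641_644 j) else (Wt_644_647 j)
def Wt_648_650 (j : ℕ) : List ℕ := bif Nat.blt j 649 then [nat_lit 63, nat_lit 2, nat_lit 4, nat_lit 3, nat_lit 4, nat_lit 2, nat_lit 4, nat_lit 1, nat_lit 4, nat_lit 1, nat_lit 2, nat_lit 4, nat_lit 2, nat_lit 4, nat_lit 2, nat_lit 1, nat_lit 4, nat_lit 1] else [nat_lit 63, nat_lit 0, nat_lit 4, nat_lit 0, nat_lit 4, nat_lit 0, nat_lit 4, nat_lit 0, nat_lit 4, nat_lit 0, nat_lit 4, nat_lit 0, nat_lit 4, nat_lit 0, nat_lit 4, nat_lit 0, nat_lit 4, nat_lit 0, nat_lit 4, nat_lit 0, nat_lit 4, nat_lit 0, nat_lit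 4, nat_lit 0, nat_lit 4]
def Wt_647_650 (j : ℕ) : List ℕ := bif Nat.blt j 648 then [nat_lit 63, nat_lit 4, nat_lit 3, nat_lit 4, nat_lit 2, nat_lit 3, nat_lit 4, nat_lit 1, nat_lit 4, nat_lit 0, nat_lit 1, nat_lit 0, nat_lit 4, nat_lit 1, nat_lit 2, nat_lit 3, nat_lit 1, nat_lit 0] else (Wt_648_650 j)
def Wt_651_653 (j : ℕ) : List ℕ := bif Nat.blt j 652 then [nat_lit 63, nat_lit 1, nat_lit 0, nat_lit 4, nat_lit 1, nat_lit 2, nat_lit 1, nat_lit 4, nat_lit 1, nat_lit 2, nat_lit 1, nat_lit 4, nat_lit 0, nat_lit 1, nat_lit 4, nat_lit 3, nat_lit 2, nat_lit 4] else [nat_lit 63, nat_lit 4, nat_lit 1, nat_lit 4, nat_lit 2, nat_lit 4, nat_lit 3, nat_lit 2, nat_lit 4, nat_lit 1, nat_lit 3, nat_lit 0, nat_lit 3, nat_lit 4, nat_lit 2, nat_lit 3, nat_lit 4, nat_lit 2]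
def Wt_650_653 (j : ℕ) : List ℕ := bif Nat.blt j 651 then [nat_lit 63, nat_lit 0, nat_lit 4, nat_lit 1, nat_lit 0, nat_lit 2, nat_lit 1, nat_lit 0, nat_lit 1, nat_lit 3, nat_lit 4, nat_lit 0, nat_lit 1, nat_lit 4, nat_lit 1, nat_lit 3, nat_lit 4, nat_lit 1] else (Wt_651_653 j)
def Wt_647_653 (j : ℕ) : List ℕ := bif Nat.blt j 650 then (Wt_647_650 j) else (Wt_650_653 j)
def Wt_641_653 (j : ℕ) : List ℕ := bif Nat.blt j 647 then (Wt_641_647 j) else (Wt_647_653 j)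
def Wt_654_656 (j : ℕ) : List ℕ := bif Nat.blt j 655 then [nat_lit 63, nat_lit 2, nat_lit 1, nat_lit 3, nat_lit 0, nat_lit 3, nat_lit 4, nat_lit 3, nat_lit 4, nat_lit 2, nat_lit 4, nat_lit 2, nat_lit 4, nat_lit 3, nat_lit 4, nat_lit 2, nat_lit 4, nat_lit 1] else [nat_lit 63, nat_lit 3, nat_lit 4, nat_lit 3, nat_lit 4, nat_lit 2, nat_lit 4, nat_lit 2, nat_lit 4, nat_lit 3, nat_lit 4, nat_lit 2, nat_lit 4, nat_lit 1, nat_lit 2, nat_lit 1, nat_lit 3, nat_lit 0]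
def Wt_653_656 (j : ℕ) : List ℕ := bif Nat.blt j 654 then [nat_lit 63, nat_lit 1, nat_lit 4, nat_lit 2, nat_lit 4, nat_lit 3, nat_lit 2, nat_lit 4, nat_lit 1, nat_lit 3, nat_lit 0, nat_lit 3, nat_lit 4, nat_lit 2, nat_lit 3, nat_lit 4, nat_lit 2, nat_lit 4] else (Wt_654_656 j)
def Wt_657_659 (j : ℕ) : List ℕ := bif Nat.blt j 658 then [nat_lit 63, nat_lit 2, nat_lit 3, nat_lit 4, nat_lit 1, nat_lit 4, nat_lit 0, nat_lit 1, nat_lit 0, nat_lit 4, nat_lit 1, nat_lit 2, nat_lit 3, nat_lit 1, nat_lit 0, nat_lit 4, nat_lit 3, nat_lit 4] else [nat_lit 63, nat_lit 1, nat_lit 4, nat_lit 0, nat_lit 1, nat_lit 0, nat_lit 4, nat_lit 1, nat_lit 2, nat_lit 3, nat_lit 1, nat_lit 0, nat_lit 4, nat_lit 3, nat_lit 4, nat_lit 2, nat_lit 3, nat_lit 4]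
def Wt_656_659 (j : ℕ) : List ℕ := bif Nat.blt j 657 then [nat_lit 63, nat_lit 1, nat_lit 4, nat_lit 3, nat_lit 2, nat_lit 4, nat_lit 3, nat_lit 4, nat_lit 0, nat_lit 1, nat_lit 3, nat_lit 2, nat_lit 1, nat_lit 4, nat_lit 0, nat_lit 1, nat_lit 0, nat_lit 4] else (Wt_657_659 j)
def Wt_653_659 (j : ℕ) : List ℕ := bif Nat.blt j 656 then (Wt_653_656 j) else (Wt_656_659 j)
def Wt_660_662 (j : ℕ) : List ℕ := bif Nat.blt j 661 then [nat_lit 1, nat_lit 4, nat_lit 1, nat_lit 2, nat_lit 4, nat_lit 2, nat_lit 4, nat_lit 2, nat_lit 1, nat_lit 4, nat_lit 1, nat_lit 2, nat_lit 4, nat_lit 3, nat_lit 4, nat_lit 2, nat_lit 4] else [nat_lit 63, nat_lit 4, nat_lit 1, nat_lit 4, nat_lit 1, nat_lit 4, nat_lit 1, nat_lit 4, nat_lit 1, nat_lit 4, nat_lit 1, nat_lit 4, nat_lit 1, nat_lit 4, nat_lit 1, nat_lit 4, nat_lit 1]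
def Wt_659_662 (j : ℕ) : List ℕ := bif Nat.blt j 660 then [nat_lit 63, nat_lit 4, nat_lit 2, nat_lit 1, nat_lit 4, nat_lit 1, nat_lit 2, nat_lit 4, nat_lit 3, nat_lit 4, nat_lit 2, nat_lit 4, nat_lit 1, nat_lit 4, nat_lit 1, nat_lit 2, nat_lit 4, nat_lit 2] else (Wt_660_662 j)
def Wt_663_665 (j : ℕ) : List ℕ := bif Nat.blt j 664 then [nat_lit 63, nat_lit 0, nat_lit 4, nat_lit 1, nat_lit 4, nat_lit 0, nat_lit 2, nat_lit 4, nat_lit 1, nat_lit 4, nat_lit 2, nat_lit 0, nat_lit 4, nat_lit 1, nat_lit 4, nat_lit 2] else [nat_lit 63, nat_lit 4, nat_lit 0, nat_lit 1, nat_lit 4, nat_lit 1, nat_lit 3, nat_lit 4, nat_lit 1, nat_lit 0, nat_lit 4, nat_lit 1, nat_lit 0, nat_lit 2, nat_lit 1, nat_lit 0, nat_lit 1, nat_lit 3]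
def Wt_662_665 (j : ℕ) : List ℕ := bif Nat.blt j 663 then [nat_lit 63, nat_lit 4, nat_lit 2, nat_lit 4, nat_lit 2, nat_lit 4, nat_lit 2, nat_lit 4, nat_lit 2, nat_lit 4, nat_lit 2, nat_lit 4, nat_lit 2] else (Wt_663_665 j)
def Wt_659_665 (j : ℕ) : List ℕ := bif Nat.blt j 662 then (Wt_659_662 j) else (Wt_662_665 j)
def Wt_653_665 (j : ℕ) : List ℕ := bif Nat.blt j 659 then (Wt_653_659 j) else (Wt_659_665 j)
def Wt_641_665 (j : ℕ) : List ℕ := bif Nat.blt j 653 then (Wt_641_653 j) else (Wt_653_665 j)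
def Wt_617_665 (j : ℕ) : List ℕ := bif Nat.blt j 641 then (Wt_617_641 j) else (Wt_641_665 j)
def Wt_570_665 (j : ℕ) : List ℕ := bif Nat.blt j 617 then (Wt_570_617 j) else (Wt_617_665 j)
def Wt_666_668 (j : ℕ) : List ℕ := bif Nat.blt j 667 then [nat_lit 63, nat_lit 1, nat_lit 4, nat_lit 1, nat_lit 4, nat_lit 1, nat_lit 4, nat_lit 1, nat_lit 4, nat_lit 3, nat_lit 4, nat_lit 3, nat_lit 4, nat_lit 3, nat_lit 4, nat_lit 3] else [nat_lit 63, nat_lit 4, nat_lit 1, nat_lit 2, nat_lit 4, nat_lit 3, nat_lit 1, nat_lit 3, nat_lit 1, nat_lit 3, nat_lit 1, nat_lit 3, nat_lit 4, nat_lit 2, nat_lit 1, nat_lit 4, nat_lit 3]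
def Wt_665_668 (j : ℕ) : List ℕ := bif Nat.blt j 666 then [nat_lit 63, nat_lit 1, nat_lit 4, nat_lit 1, nat_lit 4, nat_lit 3, nat_lit 4, nat_lit 3, nat_lit 4, nat_lit 3, nat_lit 4, nat_lit 3, nat_lit 1, nat_lit 4, nat_lit 1, nat_lit 4] else (Wt_666_668 j)
def Wt_669_671 (j : ℕ) : List ℕ := bif Nat.blt j 670 then [nat_lit 63, nat_lit 4, nat_lit 2, nat_lit 4, nat_lit 3, nat_lit 2, nat_lit 4, nat_lit 1, nat_lit 3, nat_lit 0, nat_lit 3, nat_lit 4, nat_lit 2, nat_lit 3, nat_lit 4, nat_lit 2, nat_lit 4, nat_lit 1] else [nat_lit 63, nat_lit 2, nat_lit 4, nat_lit 1, nat_lit 3, nat_lit 0, nat_lit 3, nat_lit 4, nat_lit 2, nat_lit 3, nat_lit 4, nat_lit 2, nat_lit 4, nat_lit 1, nat_lit 4, nat_lit 2, nat_lit 4, nat_lit 3]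
def Wt_668_671 (j : ℕ) : List ℕ := bif Nat.blt j 669 then [nat_lit 63, nat_lit 4, nat_lit 2, nat_lit 0, nat_lit 4, nat_lit 0, nat_lit 4, nat_lit 3, nat_lit 1, nat_lit 4, nat_lit 2, nat_lit 1, nat_lit 2, nat_lit 4, nat_lit 1, nat_lit 3, nat_lit 4, nat_lit 0] else (Wt_669_671 j)
def Wt_665_671 (j : ℕ) : List ℕ := bif Nat.blt j 668 then (Wt_665_668 j) else (Wt_668_671 j)
def Wt_672_674 (j : ℕ) : List ℕ := bif Nat.blt j 673 then [nat_lit 63, nat_lit 4, nat_lit 0, nat_lit 4, nat_lit 2, nat_lit 0, nat_lit 4, nat_lit 0, nat_lit 4, nat_lit 3, nat_lit 1, nat_lit 4, nat_lit 2, nat_lit 1, nat_lit 2, nat_lit 4, nat_lit 1, nat_lit 3] else [nat_lit 63, nat_lit 0, nat_lit 2, nat_lit 4, nat_lit 1, nat_lit 4, nat_lit 2, nat_lit 0, nat_lit 4, nat_lit 1, nat_lit 4, nat_lit 2, nat_lit 0, nat_lit 4, nat_lit 1, nat_lit 4]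
def Wt_671_674 (j : ℕ) : List ℕ := bif Nat.blt j 672 then [nat_lit 63, nat_lit 4, nat_lit 1, nat_lit 2, nat_lit 4, nat_lit 3, nat_lit 4, nat_lit 2, nat_lit 4, nat_lit 1, nat_lit 4, nat_lit 1, nat_lit 2, nat_lit 4, nat_lit 2, nat_lit 4, nat_lit 2, nat_lit 1] else (Wt_672_674 j)
def Wt_675_677 (j : ℕ) : List ℕ := bif Nat.blt j 676 then [nat_lit 63, nat_lit 0, nat_lit 1, nat_lit 0, nat_lit 3, nat_lit 1, nat_lit 4, nat_lit 1, nat_lit 3, nat_lit 0, nat_lit 1, nat_lit 0, nat_lit 3, nat_lit 1, nat_lit 4, nat_lit 1, nat_lit 3] else [nat_lit 63, nat_lit 4, nat_lit 2, nat_lit 1, nat_lit 4, nat_lit 1, nat_lit 4, nat_lit 1, nat_lit 2, nat_lit 4, nat_lit 1, nat_lit 4, nat_lit 2, nat_lit 0, nat_lit 2, nat_lit 4, nat_lit 1]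
def Wt_674_677 (j : ℕ) : List ℕ := bif Nat.blt j 675 then [nat_lit 63, nat_lit 4, nat_lit 0, nat_lit 2, nat_lit 4, nat_lit 1, nat_lit 4, nat_lit 2, nat_lit 0, nat_lit 4, nat_lit 1, nat_lit 4, nat_lit 2, nat_lit 0, nat_lit 4, nat_lit 1] else (Wt_675_677 j)
def Wt_671_677 (j : ℕ) : List ℕ := bif Nat.blt j 674 then (Wt_671_674 j) else (Wt_674_677 j)
def Wt_665_677 (j : ℕ) : List ℕ := bif Nat.blt j 671 then (Wt_665_671 j) else (Wt_671_677 j)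
def Wt_678_680 (j : ℕ) : List ℕ := bif Nat.blt j 679 then [nat_lit 63, nat_lit 4, nat_lit 1, nat_lit 0, nat_lit 2, nat_lit 1, nat_lit 0, nat_lit 1, nat_lit 3, nat_lit 4, nat_lit 0, nat_lit 1, nat_lit 4, nat_lit 1, nat_lit 3, nat_lit 4, nat_lit 1, nat_lit 0] else [nat_lit 63, nat_lit 3, nat_lit 1, nat_lit 4, nat_lit 1, nat_lit 0, nat_lit 4, nat_lit 3, nat_lit 1, nat_lit 0, nat_lit 1, nat_lit 2, nat_lit 0, nat_lit 1, nat_lit 4, nat_lit 0, nat_lit 1, nat_lit 4]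
def Wt_677_680 (j : ℕ) : List ℕ := bif Nat.blt j 678 then [nat_lit 63, nat_lit 0, nat_lit 1, nat_lit 3, nat_lit 4, nat_lit 0, nat_lit 1, nat_lit 4, nat_lit 1, nat_lit 3, nat_lit 4, nat_lit 1, nat_lit 0, nat_lit 4, nat_lit 1, nat_lit 0, nat_lit 2, nat_lit 1] else (Wt_678_680 j)
def Wt_681_683 (j : ℕ) : List ℕ := bif Nat.blt j 682 then [nat_lit 63, nat_lit 4, nat_lit 1, nat_lit 2, nat_lit 1, nat_lit 4, nat_lit 1, nat_lit 2, nat_lit 1, nat_lit 4, nat_lit 0, nat_lit 1, nat_lit 4, nat_lit 3, nat_lit 2, nat_lit 4, nat_lit 1, nat_lit 0] else [nat_lit 0, nat_lit 1, nat_lit 4, nat_lit 3, nat_lit 2, nat_lit 4, nat_lit 1, nat_lit 0, nat_lit 4, nat_lit 1, nat_lit 2, nat_lit 1, nat_lit 4, nat_lit 1, nat_lit 2, nat_lit 1, nat_lit 4]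
def Wt_680_683 (j : ℕ) : List ℕ := bif Nat.blt j 681 then [nat_lit 63, nat_lit 2, nat_lit 1, nat_lit 4, nat_lit 1, nat_lit 2, nat_lit 1, nat_lit 4, nat_lit 0, nat_lit 1, nat_lit 4, nat_lit 3, nat_lit 2, nat_lit 4, nat_lit 1, nat_lit 0, nat_lit 4, nat_lit 1] else (Wt_681_683 j)
def Wt_677_683 (j : ℕ) : List ℕ := bif Nat.blt j 680 then (Wt_677_680 j) else (Wt_680_683 j)
def Wt_684_686 (j : ℕ) : List ℕ := bif Nat.blt j 685 then [nat_lit 63, nat_lit 2, nat_lit 1, nat_lit 2, nat_lit 4, nat_lit 1, nat_lit 3, nat_lit 4, nat_lit 0, nat_lit 4, nat_lit 2, nat_lit 0, nat_lit 4, nat_lit 0, nat_lit 4, nat_lit 3, nat_lit 1, nat_lit 4] else [nat_lit 63, nat_lit 4, nat_lit 3, nat_lit 4, nat_lit 0, nat_lit 3, nat_lit 4, nat_lit 0, nat_lit 3, nat_lit 0, nat_lit 4, nat_lit 3, nat_lit 0, nat_lit 4, nat_lit 3, nat_lit 4, nat_lit 2, nat_lit 3]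
def Wt_683_686 (j : ℕ) : List ℕ := bif Nat.blt j 684 then [nat_lit 63, nat_lit 4, nat_lit 1, nat_lit 3, nat_lit 4, nat_lit 0, nat_lit 4, nat_lit 2, nat_lit 0, nat_lit 4, nat_lit 0, nat_lit 4, nat_lit 3, nat_lit 1, nat_lit 4, nat_lit 2, nat_lit 1, nat_lit 2] else (Wt_684_686 j)
def Wt_687_689 (j : ℕ) : List ℕ := bif Nat.blt j 688 then [nat_lit 63, nat_lit 2, nat_lit 4, nat_lit 2, nat_lit 4, nat_lit 3, nat_lit 4, nat_lit 2, nat_lit 4, nat_lit 1, nat_lit 2, nat_lit 1, nat_lit 3, nat_lit 0, nat_lit 3, nat_lit 4, nat_lit 3, nat_lit 4] else [nat_lit 63, nat_lit 2, nat_lit 4, nat_lit 3, nat_lit 4, nat_lit 0, nat_lit 1, nat_lit 3, nat_lit 2, nat_lit 1, nat_lit 4, nat_lit 0, nat_lit 1, nat_lit 0, nat_lit 4, nat_lit 1, nat_lit 4, nat_lit 3]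
def Wt_686_689 (j : ℕ) : List ℕ := bif Nat.blt j 687 then [nat_lit 63, nat_lit 2, nat_lit 4, nat_lit 1, nat_lit 2, nat_lit 1, nat_lit 3, nat_lit 0, nat_lit 3, nat_lit 4, nat_lit 3, nat_lit 4, nat_lit 2, nat_lit 4, nat_lit 2, nat_lit 4, nat_lit 3, nat_lit 4] else (Wt_687_689 j)
def Wt_683_689 (j : ℕ) : List ℕ := bif Nat.blt j 686 then (Wt_683_686 j) else (Wt_686_689 j)
def Wt_677_689 (j : ℕ) : List ℕ := bif Nat.blt j 683 then (Wt_677_683 j) else (Wt_683_689 j)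
def Wt_665_689 (j : ℕ) : List ℕ := bif Nat.blt j 677 then (Wt_665_677 j) else (Wt_677_689 j)
def Wt_690_692 (j : ℕ) : List ℕ := bif Nat.blt j 691 then [nat_lit 63, nat_lit 1, nat_lit 4, nat_lit 1, nat_lit 4, nat_lit 2, nat_lit 4, nat_lit 3, nat_lit 4, nat_lit 2, nat_lit 1, nat_lit 4, nat_lit 1, nat_lit 2, nat_lit 4, nat_lit 2, nat_lit 4, nat_lit 2] else [nat_lit 63, nat_lit 4, nat_lit 3, nat_lit 4, nat_lit 2, nat_lit 1, nat_lit 4, nat_lit 1, nat_lit 2, nat_lit 4, nat_lit 2, nat_lit 4, nat_lit 2, nat_lit 1, nat_lit 4, nat_lit 1, nat_lit 4, nat_lit 2]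
def Wt_689_692 (j : ℕ) : List ℕ := bif Nat.blt j 690 then [nat_lit 63, nat_lit 2, nat_lit 4, nat_lit 2, nat_lit 1, nat_lit 4, nat_lit 1, nat_lit 4, nat_lit 2, nat_lit 4, nat_lit 3, nat_lit 4, nat_lit 2, nat_lit 1, nat_lit 4, nat_lit 1, nat_lit 2, nat_lit 4] else (Wt_690_692 j)
def Wt_693_695 (j : ℕ) : List ℕ := bif Nat.blt j 694 then [nat_lit 63, nat_lit 1, nat_lit 3, nat_lit 4, nat_lit 3, nat_lit 4, nat_lit 3, nat_lit 4, nat_lit 3, nat_lit 4, nat_lit 1, nat_lit 4, nat_lit 1, nat_lit 4, nat_lit 1, nat_lit 4] else [nat_lit 63, nat_lit 3, nat_lit 4, nat_lit 2, nat_lit 1, nat_lit 4, nat_lit 3, nat_lit 4, nat_lit 1, nat_lit 2, nat_lit 4, nat_lit 3, nat_lit 1, nat_lit 3, nat_lit 1, nat_lit 3, nat_lit 1]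
def Wt_692_695 (j : ℕ) : List ℕ := bif Nat.blt j 693 then [nat_lit 63, nat_lit 1, nat_lit 4, nat_lit 1, nat_lit 4, nat_lit 1, nat_lit 4, nat_lit 1, nat_lit 4, nat_lit 1, nat_lit 4, nat_lit 1, nat_lit 4, nat_lit 1, nat_lit 4, nat_lit 1, nat_lit 4] else (Wt_693_695 j)
def Wt_689_695 (j : ℕ) : List ℕ := bif Nat.blt j 692 then (Wt_689_692 j) else (Wt_692_695 j)
def Wt_696_698 (j : ℕ) : List ℕ := bif Nat.blt j 697 then [nat_lit 63, nat_lit 2, nat_lit 4, nat_lit 2, nat_lit 4, nat_lit 3, nat_lit 4, nat_lit 3, nat_lit 0, nat_lit 3, nat_lit 1, nat_lit 2, nat_lit 1, nat_lit 4, nat_lit 2, nat_lit 4, nat_lit 3, nat_lit 4] else [nat_lit 63, nat_lit 3, nat_lit 4, nat_lit 0, nat_lit 3, nat_lit 4, nat_lit 0, nat_lit 3, nat_lit 0, nat_lit 4, nat_lit 3, nat_lit 0, nat_lit 4, nat_lit 3, nat_lit 4, nat_lit 3, nat_lit 2, nat_lit 4]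
def Wt_695_698 (j : ℕ) : List ℕ := bif Nat.blt j 696 then [nat_lit 2, nat_lit 4, nat_lit 2, nat_lit 4, nat_lit 2, nat_lit 1, nat_lit 4, nat_lit 1, nat_lit 4, nat_lit 2, nat_lit 4, nat_lit 3, nat_lit 4, nat_lit 2, nat_lit 1, nat_lit 4, nat_lit 1] else (Wt_696_698 j)
def Wt_699_701 (j : ℕ) : List ℕ := bif Nat.blt j 700 then [nat_lit 63, nat_lit 3, nat_lit 1, nat_lit 4, nat_lit 1, nat_lit 4, nat_lit 1, nat_lit 4, nat_lit 1, nat_lit 4, nat_lit 3, nat_lit 4, nat_lit 3, nat_lit 4, nat_lit 3, nat_lit 4] else [nat_lit 63, nat_lit 3, nat_lit 4, nat_lit 3, nat_lit 4, nat_lit 1, nat_lit 4, nat_lit 1, nat_lit 4, nat_lit 1, nat_lit 4, nat_lit 1, nat_lit 3, nat_lit 4, nat_lit 3, nat_lit 4]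
def Wt_698_701 (j : ℕ) : List ℕ := bif Nat.blt j 699 then [nat_lit 63, nat_lit 4, nat_lit 1, nat_lit 4, nat_lit 2, nat_lit 0, nat_lit 4, nat_lit 1, nat_lit 4, nat_lit 2, nat_lit 0, nat_lit 4, nat_lit 1, nat_lit 4, nat_lit 0, nat_lit 2] else (Wt_699_701 j)
def Wt_695_701 (j : ℕ) : List ℕ := bif Nat.blt j 698 then (Wt_695_698 j) else (Wt_698_701 j)
def Wt_689_701 (j : ℕ) : List ℕ := bif Nat.blt j 695 then (Wt_689_695 j) else (Wt_695_701 j)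
def Wt_702_704 (j : ℕ) : List ℕ := bif Nat.blt j 703 then [nat_lit 63, nat_lit 1, nat_lit 2, nat_lit 4, nat_lit 3, nat_lit 1, nat_lit 3, nat_lit 1, nat_lit 3, nat_lit 1, nat_lit 3, nat_lit 4, nat_lit 2, nat_lit 1, nat_lit 4, nat_lit 3, nat_lit 4] else [nat_lit 63, nat_lit 1, nat_lit 4, nat_lit 0, nat_lit 1, nat_lit 4, nat_lit 3, nat_lit 1, nat_lit 4, nat_lit 1, nat_lit 0, nat_lit 4, nat_lit 3, nat_lit 1, nat_lit 0, nat_lit 1, nat_lit 2, nat_lit 0]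
def Wt_701_704 (j : ℕ) : List ℕ := bif Nat.blt j 702 then [nat_lit 63, nat_lit 2, nat_lit 4, nat_lit 3, nat_lit 1, nat_lit 3, nat_lit 1, nat_lit 3, nat_lit 1, nat_lit 3, nat_lit 4, nat_lit 2, nat_lit 1, nat_lit 4, nat_lit 3, nat_lit 4, nat_lit 1] else (Wt_702_704 j)
def Wt_705_707 (j : ℕ) : List ℕ := bif Nat.blt j 706 then [nat_lit 63, nat_lit 1, nat_lit 2, nat_lit 4, nat_lit 1, nat_lit 4, nat_lit 0, nat_lit 4, nat_lit 1, nat_lit 4, nat_lit 1, nat_lit 3, nat_lit 0, nat_lit 2, nat_lit 3, nat_lit 4, nat_lit 1, nat_lit 4] else [nat_lit 63, nat_lit 0, nat_lit 2, nat_lit 4, nat_lit 0, nat_lit 2, nat_lit 4, nat_lit 3, nat_lit 2, nat_lit 3, nat_lit 0, nat_lit 4, nat_lit 2, nat_lit 0, nat_lit 4, nat_lit 2, nat_lit 0, nat_lit 4]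
def Wt_704_707 (j : ℕ) : List ℕ := bif Nat.blt j 705 then [nat_lit 63, nat_lit 1, nat_lit 4, nat_lit 1, nat_lit 4, nat_lit 3, nat_lit 2, nat_lit 0, nat_lit 3, nat_lit 1, nat_lit 4, nat_lit 1, nat_lit 4, nat_lit 0, nat_lit 4, nat_lit 1, nat_lit 4, nat_lit 2] else (Wt_705_707 j)
def Wt_701_707 (j : ℕ) : List ℕ := bif Nat.blt j 704 then (Wt_701_704 j) else (Wt_704_707 j)
def Wt_708_710 (j : ℕ) : List ℕ := bif Nat.blt j 709 then [nat_lit 63, nat_lit 3, nat_lit 2, nat_lit 4, nat_lit 1, nat_lit 3, nat_lit 0, nat_lit 3, nat_lit 4, nat_lit 2, nat_lit 3, nat_lit 4, nat_lit 2, nat_lit 4, nat_lit 1, nat_lit 4, nat_lit 2, nat_lit 4] else [nat_lit 63, nat_lit 3, nat_lit 4, nat_lit 1, nat_lit 2, nat_lit 1, nat_lit 3, nat_lit 0, nat_lit 3, nat_lit 4, nat_lit 2, nat_lit 4, nat_lit 3, nat_lit 4, nat_lit 2, nat_lit 4, nat_lit 2, nat_lit 4]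
def Wt_707_710 (j : ℕ) : List ℕ := bif Nat.blt j 708 then [nat_lit 63, nat_lit 0, nat_lit 4, nat_lit 0, nat_lit 2, nat_lit 4, nat_lit 0, nat_lit 2, nat_lit 4, nat_lit 0, nat_lit 3, nat_lit 2, nat_lit 3, nat_lit 4, nat_lit 2, nat_lit 0, nat_lit 4, nat_lit 2] else (Wt_708_710 j)
def Wt_711_713 (j : ℕ) : List ℕ := bif Nat.blt j 712 then [nat_lit 63, nat_lit 2, nat_lit 4, nat_lit 2, nat_lit 1, nat_lit 4, nat_lit 1, nat_lit 2, nat_lit 4, nat_lit 3, nat_lit 4, nat_lit 2, nat_lit 4, nat_lit 1, nat_lit 4, nat_lit 1, nat_lit 2, nat_lit 4] else [nat_lit 63, nat_lit 1, nat_lit 3, nat_lit 1, nat_lit 3, nat_lit 1, nat_lit 3, nat_lit 1, nat_lit 3, nat_lit 1, nat_lit 3, nat_lit 1, nat_lit 3, nat_lit 1, nat_lit 3, nat_lit 1, nat_lit 3, nat_lit 1, nat_lit 3, nat_lit 1, nat_lit 3, nat_lit 1, nat_lit 3, nat_lit 1, nat_lit 3, nat_lit 1, nat_lit 3]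
def Wt_710_713 (j : ℕ) : List ℕ := bif Nat.blt j 711 then [nat_lit 63, nat_lit 3, nat_lit 4, nat_lit 1, nat_lit 4, nat_lit 0, nat_lit 1, nat_lit 0, nat_lit 4, nat_lit 1, nat_lit 2, nat_lit 3, nat_lit 1, nat_lit 0, nat_lit 4, nat_lit 3, nat_lit 4, nat_lit 2] else (Wt_711_713 j)
def Wt_707_713 (j : ℕ) : List ℕ := bif Nat.blt j 710 then (Wt_707_710 j) else (Wt_710_713 j)
def Wt_701_713 (j : ℕ) : List ℕ := bif Nat.blt j 707 then (Wt_701_707 j) else (Wt_707_713 j)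
def Wt_689_713 (j : ℕ) : List ℕ := bif Nat.blt j 701 then (Wt_689_701 j) else (Wt_701_713 j)
def Wt_665_713 (j : ℕ) : List ℕ := bif Nat.blt j 689 then (Wt_665_689 j) else (Wt_689_713 j)
def Wt_714_716 (j : ℕ) : List ℕ := bif Nat.blt j 715 then [nat_lit 63, nat_lit 4, nat_lit 0, nat_lit 3, nat_lit 0, nat_lit 4, nat_lit 3, nat_lit 0, nat_lit 4, nat_lit 3, nat_lit 4, nat_lit 2, nat_lit 3, nat_lit 4, nat_lit 3, nat_lit 4, nat_lit 0, nat_lit 3] else [nat_lit 63, nat_lit 2, nat_lit 0, nat_lit 4, nat_lit 1, nat_lit 4, nat_lit 2, nat_lit 0, nat_lit 4, nat_lit 1, nat_lit 4, nat_lit 0, nat_lit 2, nat_lit 4, nat_lit 1, nat_lit 4]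
def Wt_713_716 (j : ℕ) : List ℕ := bif Nat.blt j 714 then [nat_lit 63, nat_lit 4, nat_lit 3, nat_lit 4, nat_lit 3, nat_lit 4, nat_lit 3, nat_lit 4, nat_lit 3, nat_lit 1, nat_lit 4, nat_lit 1, nat_lit 4, nat_lit 1, nat_lit 4, nat_lit 1] else (Wt_714_716 j)
def Wt_717_719 (j : ℕ) : List ℕ := bif Nat.blt j 718 then [nat_lit 63, nat_lit 2, nat_lit 0, nat_lit 1, nat_lit 2, nat_lit 0, nat_lit 1, nat_lit 2, nat_lit 0, nat_lit 1, nat_lit 2, nat_lit 0, nat_lit 1, nat_lit 2, nat_lit 0, nat_lit 1] else [nat_lit 63, nat_lit 3, nat_lit 2, nat_lit 3, nat_lit 1, nat_lit 0, nat_lit 3, nat_lit 0, nat_lit 3, nat_lit 2, nat_lit 3, nat_lit 1, nat_lit 0, nat_lit 3, nat_lit 0, nat_lit 3, nat_lit 2, nat_lit 3, nat_lit 1, nat_lit 0, nat_lit 3, nat_lit 0]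
def Wt_716_719 (j : ℕ) : List ℕ := bif Nat.blt j 717 then [nat_lit 63, nat_lit 1, nat_lit 0, nat_lit 1, nat_lit 0, nat_lit 1, nat_lit 0, nat_lit 1, nat_lit 0, nat_lit 1, nat_lit 0, nat_lit 1, nat_lit 0] else (Wt_717_719 j)
def Wt_713_719 (j : ℕ) : List ℕ := bif Nat.blt j 716 then (Wt_713_716 j) else (Wt_716_719 j)
def Wt_720_722 (j : ℕ) : List ℕ := bif Nat.blt j 721 then [nat_lit 63, nat_lit 3, nat_lit 4, nat_lit 1, nat_lit 4, nat_lit 1, nat_lit 4, nat_lit 1, nat_lit 4, nat_lit 1, nat_lit 3, nat_lit 4, nat_lit 3, nat_lit 4, nat_lit 3, nat_lit 4] else [nat_lit 63, nat_lit 3, nat_lit 1, nat_lit 4, nat_lit 1, nat_lit 3, nat_lit 0, nat_lit 1, nat_lit 0, nat_lit 3, nat_lit 1, nat_lit 4, nat_lit 1, nat_lit 3, nat_lit 0, nat_lit 1, nat_lit 0]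
def Wt_719_722 (j : ℕ) : List ℕ := bif Nat.blt j 720 then [nat_lit 63, nat_lit 1, nat_lit 0, nat_lit 1, nat_lit 3, nat_lit 1, nat_lit 2, nat_lit 1, nat_lit 0, nat_lit 1, nat_lit 3, nat_lit 1, nat_lit 2, nat_lit 1, nat_lit 0, nat_lit 1, nat_lit 3, nat_lit 1, nat_lit 2] else (Wt_720_722 j)
def Wt_723_725 (j : ℕ) : List ℕ := bif Nat.blt j 724 then [nat_lit 63, nat_lit 0, nat_lit 2, nat_lit 1, nat_lit 0, nat_lit 1, nat_lit 3, nat_lit 4, nat_lit 0, nat_lit 1, nat_lit 4, nat_lit 1, nat_lit 3, nat_lit 4, nat_lit 1, nat_lit 0, nat_lit 4, nat_lit 1] else [nat_lit 63, nat_lit 2, nat_lit 1, nat_lit 0, nat_lit 1, nat_lit 3, nat_lit 4, nat_lit 0, nat_lit 1, nat_lit 4, nat_lit 1, nat_lit 3, nat_lit 4, nat_lit 1, nat_lit 0, nat_lit 4, nat_lit 1, nat_lit 0]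
def Wt_722_725 (j : ℕ) : List ℕ := bif Nat.blt j 723 then [nat_lit 63, nat_lit 4, nat_lit 1, nat_lit 3, nat_lit 0, nat_lit 1, nat_lit 0, nat_lit 3, nat_lit 1, nat_lit 4, nat_lit 1, nat_lit 3, nat_lit 0, nat_lit 1, nat_lit 0, nat_lit 3, nat_lit 1] else (Wt_723_725 j)
def Wt_719_725 (j : ℕ) : List ℕ := bif Nat.blt j 722 then (Wt_719_722 j) else (Wt_722_725 j)
def Wt_713_725 (j : ℕ) : List ℕ := bif Nat.blt j 719 then (Wt_713_719 j) else (Wt_719_725 j)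
def Wt_726_728 (j : ℕ) : List ℕ := bif Nat.blt j 727 then [nat_lit 63, nat_lit 2, nat_lit 1, nat_lit 4, nat_lit 0, nat_lit 1, nat_lit 0, nat_lit 4, nat_lit 1, nat_lit 4, nat_lit 3, nat_lit 2, nat_lit 4, nat_lit 3, nat_lit 4, nat_lit 0, nat_lit 1, nat_lit 3] else [nat_lit 63, nat_lit 4, nat_lit 1, nat_lit 4, nat_lit 0, nat_lit 1, nat_lit 0, nat_lit 4, nat_lit 1, nat_lit 2, nat_lit 3, nat_lit 1, nat_lit 0, nat_lit 4, nat_lit 3, nat_lit 4, nat_lit 2, nat_lit 3]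
def Wt_725_728 (j : ℕ) : List ℕ := bif Nat.blt j 726 then [nat_lit 63, nat_lit 1, nat_lit 4, nat_lit 3, nat_lit 2, nat_lit 4, nat_lit 1, nat_lit 0, nat_lit 4, nat_lit 1, nat_lit 2, nat_lit 1, nat_lit 4, nat_lit 1, nat_lit 2, nat_lit 1, nat_lit 4, nat_lit 0] else (Wt_726_728 j)
def Wt_729_731 (j : ℕ) : List ℕ := bif Nat.blt j 730 then [nat_lit 63, nat_lit 4, nat_lit 2, nat_lit 1, nat_lit 4, nat_lit 1, nat_lit 4, nat_lit 3, nat_lit 2, nat_lit 0, nat_lit 3, nat_lit 1, nat_lit 4, nat_lit 1, nat_lit 4, nat_lit 0, nat_lit 4, nat_lit 1] else [nat_lit 4, nat_lit 1, nat_lit 2, nat_lit 1, nat_lit 4, nat_lit 1, nat_lit 2, nat_lit 1, nat_lit 4, nat_lit 0, nat_lit 1, nat_lit 4, nat_lit 3, nat_lit 2, nat_lit 4, nat_lit 1, nat_lit 0]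
def Wt_728_731 (j : ℕ) : List ℕ := bif Nat.blt j 729 then [nat_lit 63, nat_lit 1, nat_lit 0, nat_lit 3, nat_lit 0, nat_lit 3, nat_lit 0, nat_lit 3, nat_lit 1, nat_lit 0, nat_lit 3, nat_lit 0, nat_lit 3, nat_lit 0, nat_lit 3, nat_lit 1, nat_lit 0, nat_lit 3, nat_lit 0, nat_lit 3, nat_lit 0, nat_lit 3] else (Wt_729_731 j)
def Wt_725_731 (j : ℕ) : List ℕ := bif Nat.blt j 728 then (Wt_725_728 j) else (Wt_728_731 j)
def Wt_732_734 (j : ℕ) : List ℕ := bif Nat.blt j 733 then [nat_lit 63, nat_lit 0, nat_lit 4, nat_lit 3, nat_lit 4, nat_lit 2, nat_lit 3, nat_lit 4, nat_lit 3, nat_lit 4, nat_lit 0, nat_lit 3, nat_lit 4, nat_lit 0, nat_lit 3, nat_lit 0, nat_lit 4, nat_lit 3] else [nat_lit 63, nat_lit 4, nat_lit 3, nat_lit 2, nat_lit 4, nat_lit 1, nat_lit 3, nat_lit 0, nat_lit 3, nat_lit 4, nat_lit 2, nat_lit 3, nat_lit 4, nat_lit 2, nat_lit 4, nat_lit 1, nat_lit 4, nat_lit 2]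
def Wt_731_734 (j : ℕ) : List ℕ := bif Nat.blt j 732 then [nat_lit 63, nat_lit 1, nat_lit 0, nat_lit 4, nat_lit 3, nat_lit 1, nat_lit 0, nat_lit 1, nat_lit 2, nat_lit 0, nat_lit 1, nat_lit 4, nat_lit 0, nat_lit 1, nat_lit 4, nat_lit 3, nat_lit 1, nat_lit 4] else (Wt_732_734 j)
def Wt_735_737 (j : ℕ) : List ℕ := bif Nat.blt j 736 then [nat_lit 63, nat_lit 4, nat_lit 3, nat_lit 4, nat_lit 1, nat_lit 2, nat_lit 4, nat_lit 3, nat_lit 1, nat_lit 3, nat_lit 1, nat_lit 3, nat_lit 1, nat_lit 3, nat_lit 4, nat_lit 2, nat_lit 1] else [nat_lit 63, nat_lit 0, nat_lit 4, nat_lit 1, nat_lit 4, nat_lit 3, nat_lit 2, nat_lit 4, nat_lit 3, nat_lit 4, nat_lit 0, nat_lit 1, nat_lit 3, nat_lit 2, nat_lit 1, nat_lit 4, nat_lit 0, nat_lit 1]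
def Wt_734_737 (j : ℕ) : List ℕ := bif Nat.blt j 735 then [nat_lit 63, nat_lit 0, nat_lit 4, nat_lit 2, nat_lit 0, nat_lit 4, nat_lit 2, nat_lit 0, nat_lit 4, nat_lit 0, nat_lit 2, nat_lit 4, nat_lit 0, nat_lit 2, nat_lit 4, nat_lit 3, nat_lit 2, nat_lit 3] else (Wt_735_737 j)
def Wt_731_737 (j : ℕ) : List ℕ := bif Nat.blt j 734 then (Wt_731_734 j) else (Wt_734_737 j)
def Wt_725_737 (j : ℕ) : List ℕ := bif Nat.blt j 731 then (Wt_725_731 j) else (Wt_731_737 j)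
def Wt_713_737 (j : ℕ) : List ℕ := bif Nat.blt j 725 then (Wt_713_725 j) else (Wt_725_737 j)
def Wt_738_740 (j : ℕ) : List ℕ := bif Nat.blt j 739 then [nat_lit 63, nat_lit 1, nat_lit 4, nat_lit 0, nat_lit 1, nat_lit 4, nat_lit 3, nat_lit 2, nat_lit 4, nat_lit 1, nat_lit 0, nat_lit 4, nat_lit 1, nat_lit 2, nat_lit 1, nat_lit 4, nat_lit 1, nat_lit 2] else [nat_lit 63, nat_lit 2, nat_lit 1, nat_lit 4, nat_lit 0, nat_lit 1, nat_lit 4, nat_lit 2, nat_lit 3, nat_lit 4, nat_lit 1, nat_lit 0, nat_lit 4, nat_lit 1, nat_lit 2, nat_lit 1, nat_lit 4, nat_lit 1]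
def Wt_737_740 (j : ℕ) : List ℕ := bif Nat.blt j 738 then [nat_lit 63, nat_lit 0, nat_lit 1, nat_lit 4, nat_lit 3, nat_lit 1, nat_lit 4, nat_lit 1, nat_lit 0, nat_lit 4, nat_lit 3, nat_lit 1, nat_lit 0, nat_lit 1, nat_lit 2, nat_lit 0, nat_lit 1, nat_lit 4] else (Wt_738_740 j)
def Wt_741_743 (j : ℕ) : List ℕ := bif Nat.blt j 742 then [nat_lit 63, nat_lit 3, nat_lit 1, nat_lit 3, nat_lit 1, nat_lit 3, nat_lit 1, nat_lit 3, nat_lit 1, nat_lit 3, nat_lit 1, nat_lit 3, nat_lit 1, nat_lit 3, nat_lit 1, nat_lit 3, nat_lit 1, nat_lit 3, nat_lit 1, nat_lit 3, nat_lit 1, nat_lit 3, nat_lit 1, nat_lit 3, nat_lit 1, nat_lit 3, nat_lit 1] else [nat_lit 63, nat_lit 0, nat_lit 4, nat_lit 1, nat_lit 2, nat_lit 1, nat_lit 4, nat_lit 1, nat_lit 2, nat_lit 1, nat_lit 4, nat_lit 0, nat_lit 1, nat_lit 4, nat_lit 3, nat_lit 2, nat_lit 4, nat_lit 1]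
def Wt_740_743 (j : ℕ) : List ℕ := bif Nat.blt j 741 then [nat_lit 63, nat_lit 0, nat_lit 4, nat_lit 2, nat_lit 0, nat_lit 4, nat_lit 0, nat_lit 2, nat_lit 4, nat_lit 0, nat_lit 2, nat_lit 4, nat_lit 3, nat_lit 2, nat_lit 3, nat_lit 0, nat_lit 4, nat_lit 2] else (Wt_741_743 j)
def Wt_737_743 (j : ℕ) : List ℕ := bif Nat.blt j 740 then (Wt_737_740 j) else (Wt_740_743 j)
def Wt_744_746 (j : ℕ) : List ℕ := bif Nat.blt j 745 then [nat_lit 63, nat_lit 4, nat_lit 2, nat_lit 1, nat_lit 4, nat_lit 1, nat_lit 4, nat_lit 2, nat_lit 4, nat_lit 3, nat_lit 4, nat_lit 2, nat_lit 1, nat_lit 4, nat_lit 1, nat_lit 2, nat_lit 4, nat_lit 2] else [nat_lit 63, nat_lit 2, nat_lit 1, nat_lit 0, nat_lit 2, nat_lit 1, nat_lit 0, nat_lit 2, nat_lit 1, nat_lit 0, nat_lit 2, nat_lit 1, nat_lit 0, nat_lit 2, nat_lit 1, nat_lit 0]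
def Wt_743_746 (j : ℕ) : List ℕ := bif Nat.blt j 744 then [nat_lit 63, nat_lit 3, nat_lit 4, nat_lit 2, nat_lit 4, nat_lit 2, nat_lit 4, nat_lit 3, nat_lit 4, nat_lit 2, nat_lit 4, nat_lit 1, nat_lit 2, nat_lit 1, nat_lit 3, nat_lit 0, nat_lit 3, nat_lit 4] else (Wt_744_746 j)
def Wt_747_749 (j : ℕ) : List ℕ := bif Nat.blt j 748 then [nat_lit 63, nat_lit 4, nat_lit 3, nat_lit 4, nat_lit 3, nat_lit 2, nat_lit 4, nat_lit 3, nat_lit 4, nat_lit 0, nat_lit 3, nat_lit 4, nat_lit 0, nat_lit 3, nat_lit 0, nat_lit 4, nat_lit 3, nat_lit 0] else [nat_lit 4, nat_lit 2, nat_lit 4, nat_lit 2, nat_lit 1, nat_lit 4, nat_lit 1, nat_lit 4, nat_lit 2, nat_lit 4, nat_lit 3, nat_lit 4, nat_lit 2, nat_lit 1, nat_lit 4, nat_lit 1, nat_lit 2]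
def Wt_746_749 (j : ℕ) : List ℕ := bif Nat.blt j 747 then [nat_lit 63, nat_lit 0, nat_lit 3, nat_lit 1, nat_lit 4, nat_lit 1, nat_lit 3, nat_lit 0, nat_lit 1, nat_lit 0, nat_lit 3, nat_lit 1, nat_lit 4, nat_lit 1, nat_lit 3, nat_lit 0, nat_lit 1] else (Wt_747_749 j)
def Wt_743_749 (j : ℕ) : List ℕ := bif Nat.blt j 746 then (Wt_743_746 j) else (Wt_746_749 j)
def Wt_737_749 (j : ℕ) : List ℕ := bif Nat.blt j 743 then (Wt_737_743 j) else (Wt_743_749 j)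
def Wt_750_752 (j : ℕ) : List ℕ := bif Nat.blt j 751 then [nat_lit 63, nat_lit 2, nat_lit 0, nat_lit 1, nat_lit 4, nat_lit 0, nat_lit 1, nat_lit 4, nat_lit 3, nat_lit 1, nat_lit 4, nat_lit 1, nat_lit 0, nat_lit 4, nat_lit 3, nat_lit 1, nat_lit 0, nat_lit 1] else [nat_lit 63, nat_lit 0, nat_lit 1, nat_lit 4, nat_lit 0, nat_lit 1, nat_lit 4, nat_lit 3, nat_lit 1, nat_lit 4, nat_lit 1, nat_lit 0, nat_lit 4, nat_lit 3, nat_lit 1, nat_lit 0, nat_lit 1, nat_lit 2]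
def Wt_749_752 (j : ℕ) : List ℕ := bif Nat.blt j 750 then [nat_lit 63, nat_lit 2, nat_lit 1, nat_lit 4, nat_lit 3, nat_lit 4, nat_lit 1, nat_lit 2, nat_lit 4, nat_lit 3, nat_lit 1, nat_lit 3, nat_lit 1, nat_lit 3, nat_lit 1, nat_lit 3, nat_lit 4] else (Wt_750_752 j)
def Wt_753_755 (j : ℕ) : List ℕ := bif Nat.blt j 754 then [nat_lit 63, nat_lit 3, nat_lit 0, nat_lit 3, nat_lit 1, nat_lit 0, nat_lit 3, nat_lit 0, nat_lit 3, nat_lit 0, nat_lit 3, nat_lit 1, nat_lit 0, nat_lit 3, nat_lit 0, nat_lit 3, nat_lit 0, nat_lit 3, nat_lit 1, nat_lit 0, nat_lit 3, nat_lit 0] else [nat_lit 63, nat_lit 3, nat_lit 2, nat_lit 0, nat_lit 3, nat_lit 1, nat_lit 4, nat_lit 1, nat_lit 4, nat_lit 0, nat_lit 4, nat_lit 1, nat_lit 4, nat_lit 2, nat_lit 1, nat_lit 4, nat_lit 1, nat_lit 4]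
def Wt_752_755 (j : ℕ) : List ℕ := bif Nat.blt j 753 then [nat_lit 63, nat_lit 3, nat_lit 4, nat_lit 2, nat_lit 4, nat_lit 3, nat_lit 4, nat_lit 2, nat_lit 4, nat_lit 2, nat_lit 4, nat_lit 3, nat_lit 4, nat_lit 1, nat_lit 2, nat_lit 1, nat_lit 3, nat_lit 0] else (Wt_753_755 j)
def Wt_749_755 (j : ℕ) : List ℕ := bif Nat.blt j 752 then (Wt_749_752 j) else (Wt_752_755 j)
def Wt_756_758 (j : ℕ) : List ℕ := bif Nat.blt j 757 then [nat_lit 63, nat_lit 0, nat_lit 1, nat_lit 2, nat_lit 0, nat_lit 1, nat_lit 4, nat_lit 0, nat_lit 1, nat_lit 4, nat_lit 3, nat_lit 1, nat_lit 4, nat_lit 1, nat_lit 0, nat_lit 4, nat_lit 3, nat_lit 1] else [nat_lit 63, nat_lit 1, nat_lit 3, nat_lit 4, nat_lit 1, nat_lit 0, nat_lit 4, nat_lit 1, nat_lit 0, nat_lit 2, nat_lit 1, nat_lit 0, nat_lit 1, nat_lit 3, nat_lit 4, nat_lit 0, nat_lit 1, nat_lit 4]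
def Wt_755_758 (j : ℕ) : List ℕ := bif Nat.blt j 756 then [nat_lit 63, nat_lit 2, nat_lit 0, nat_lit 4, nat_lit 0, nat_lit 2, nat_lit 4, nat_lit 0, nat_lit 2, nat_lit 4, nat_lit 3, nat_lit 2, nat_lit 3, nat_lit 0, nat_lit 4, nat_lit 2, nat_lit 0, nat_lit 4] else (Wt_756_758 j)
def Wt_759_761 (j : ℕ) : List ℕ := bif Nat.blt j 760 then [nat_lit 63, nat_lit 0, nat_lit 1, nat_lit 0, nat_lit 1, nat_lit 0, nat_lit 1, nat_lit 0, nat_lit 1, nat_lit 0, nat_lit 1, nat_lit 0, nat_lit 1] else [nat_lit 63, nat_lit 4, nat_lit 3, nat_lit 1, nat_lit 4, nat_lit 2, nat_lit 1, nat_lit 2, nat_lit 4, nat_lit 1, nat_lit 3, nat_lit 4, nat_lit 0, nat_lit 4, nat_lit 2, nat_lit 0, nat_lit 4, nat_lit 0]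
def Wt_758_761 (j : ℕ) : List ℕ := bif Nat.blt j 759 then [nat_lit 63, nat_lit 0, nat_lit 1, nat_lit 0, nat_lit 4, nat_lit 1, nat_lit 4, nat_lit 3, nat_lit 2, nat_lit 4, nat_lit 3, nat_lit 4, nat_lit 0, nat_lit 1, nat_lit 3, nat_lit 2, nat_lit 1, nat_lit 4] else (Wt_759_761 j)
def Wt_755_761 (j : ℕ) : List ℕ := bif Nat.blt j 758 then (Wt_755_758 j) else (Wt_758_761 j)
def Wt_749_761 (j : ℕ) : List ℕ := bif Nat.blt j 755 then (Wt_749_755 j) else (Wt_755_761 j)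
def Wt_737_761 (j : ℕ) : List ℕ := bif Nat.blt j 749 then (Wt_737_749 j) else (Wt_749_761 j)
def Wt_713_761 (j : ℕ) : List ℕ := bif Nat.blt j 737 then (Wt_713_737 j) else (Wt_737_761 j)
def Wt_665_761 (j : ℕ) : List ℕ := bif Nat.blt j 713 then (Wt_665_713 j) else (Wt_713_761 j)
def Wt_570_761 (j : ℕ) : List ℕ := bif Nat.blt j 665 then (Wt_570_665 j) else (Wt_665_761 j)
def Wt_380_761 (j : ℕ) : List ℕ := bif Nat.blt j 570 then (Wt_380_570 j) else (Wt_570_761 j)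
def Wt_0_761 (j : ℕ) : List ℕ := bif Nat.blt j 380 then (Wt_0_380 j) else (Wt_380_761 j)
def Wt (j : ℕ) : List ℕ := (Wt_0_761 j)
def W (j : ℕ) : List ℕ := bif Nat.blt j 761 then Wt j else []
theorem W_ge (j : ℕ) (h : 761 ≤ j) : W j = [] := by
  unfold W
  rw [blt_false_of_le h]
  rfl
def Hl : List ℕ := [nat_lit 0, nat_lit 1, nat_lit 2, nat_lit 3]
def isH (y : ℕ) : Bool := List.elem y Hl
def Rb : List (List ℕ) := [[nat_lit 0, nat_lit 0],
  [nat_lit 1, nat_lit 1],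
  [nat_lit 1, nat_lit 0, nat_lit 1, nat_lit 0, nat_lit 1, nat_lit 0, nat_lit 1, nat_lit 0, nat_lit 1, nat_lit 0, nat_lit 1, nat_lit 0],
  [nat_lit 2, nat_lit 2],
  [nat_lit 1, nat_lit 0, nat_lit 1, nat_lit 2, nat_lit 0, nat_lit 2, nat_lit 1, nat_lit 0, nat_lit 1, nat_lit 2, nat_lit 0, nat_lit 2, nat_lit 1, nat_lit 0, nat_lit 1, nat_lit 2, nat_lit 0, nat_lit 2],
  [nat_lit 1, nat_lit 2, nat_lit 0, nat_lit 1, nat_lit 2, nat_lit 0, nat_lit 1, nat_lit 2, nat_lit 0, nat_lit 1, nat_lit 2, nat_lit 0, nat_lit 1, nat_lit 2, nat_lit 0],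
  [nat_lit 2, nat_lit 0, nat_lit 1, nat_lit 2, nat_lit 1, nat_lit 0, nat_lit 2, nat_lit 0, nat_lit 1, nat_lit 2, nat_lit 1, nat_lit 0],
  [nat_lit 1, nat_lit 2, nat_lit 1, nat_lit 0, nat_lit 1, nat_lit 2, nat_lit 1, nat_lit 0, nat_lit 1, nat_lit 2, nat_lit 1, nat_lit 0],
  [nat_lit 3, nat_lit 3],
  [nat_lit 0, nat_lit 3, nat_lit 0, nat_lit 3, nat_lit 0, nat_lit 3, nat_lit 1, nat_lit 0, nat_lit 3, nat_lit 0, nat_lit 3, nat_lit 0, nat_lit 3, nat_lit 1, nat_lit 0, nat_lit 3, nat_lit 0, nat_lit 3, nat_lit 0, nat_lit 3, nat_lit 1],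
  [nat_lit 2, nat_lit 1, nat_lit 3, nat_lit 2, nat_lit 1, nat_lit 0, nat_lit 1, nat_lit 2, nat_lit 1, nat_lit 3, nat_lit 2, nat_lit 1, nat_lit 0, nat_lit 1, nat_lit 2, nat_lit 1, nat_lit 3, nat_lit 2, nat_lit 1, nat_lit 0, nat_lit 1],
  [nat_lit 3, nat_lit 1, nat_lit 0, nat_lit 3, nat_lit 0, nat_lit 3, nat_lit 2, nat_lit 3, nat_lit 1, nat_lit 0, nat_lit 3, nat_lit 0, nat_lit 3, nat_lit 2, nat_lit 3, nat_lit 1, nat_lit 0, nat_lit 3, nat_lit 0, nat_lit 3, nat_lit 2],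
  [nat_lit 2, nat_lit 3, nat_lit 0, nat_lit 3, nat_lit 1, nat_lit 2, nat_lit 3, nat_lit 0, nat_lit 3, nat_lit 1, nat_lit 2, nat_lit 3, nat_lit 0, nat_lit 3, nat_lit 1, nat_lit 2, nat_lit 3, nat_lit 0, nat_lit 3, nat_lit 1],
  [nat_lit 1, nat_lit 0, nat_lit 2, nat_lit 3, nat_lit 0, nat_lit 2, nat_lit 1, nat_lit 0, nat_lit 2, nat_lit 3, nat_lit 0, nat_lit 2, nat_lit 1, nat_lit 0, nat_lit 2, nat_lit 3, nat_lit 0, nat_lit 2],
  [nat_lit 0, nat_lit 1, nat_lit 2, nat_lit 1, nat_lit 3, nat_lit 1, nat_lit 0, nat_lit 1, nat_lit 2, nat_lit 1, nat_lit 3, nat_lit 1, nat_lit 0, nat_lit 1, nat_lit 2, nat_lit 1, nat_lit 3, nat_lit 1],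
  [nat_lit 4, nat_lit 4],
  [nat_lit 4, nat_lit 1, nat_lit 4, nat_lit 0, nat_lit 2, nat_lit 4, nat_lit 1, nat_lit 4, nat_lit 2, nat_lit 0, nat_lit 4, nat_lit 1, nat_lit 4, nat_lit 2, nat_lit 0],
  [nat_lit 4, nat_lit 1, nat_lit 4, nat_lit 1, nat_lit 4, nat_lit 1, nat_lit 4, nat_lit 3, nat_lit 4, nat_lit 3, nat_lit 4, nat_lit 3, nat_lit 4, nat_lit 3, nat_lit 1],
  [nat_lit 0, nat_lit 3, nat_lit 1, nat_lit 4, nat_lit 1, nat_lit 3, nat_lit 0, nat_lit 1, nat_lit 0, nat_lit 3, nat_lit 1, nat_lit 4, nat_lit 1, nat_lit 3, nat_lit 0, nat_lit 1],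
  [nat_lit 0, nat_lit 2, nat_lit 4, nat_lit 1, nat_lit 4, nat_lit 2, nat_lit 1, nat_lit 4, nat_lit 1, nat_lit 4, nat_lit 1, nat_lit 2, nat_lit 4, nat_lit 1, nat_lit 4, nat_lit 2],
  [nat_lit 1, nat_lit 4, nat_lit 3, nat_lit 4, nat_lit 1, nat_lit 2, nat_lit 4, nat_lit 3, nat_lit 1, nat_lit 3, nat_lit 1, nat_lit 3, nat_lit 1, nat_lit 3, nat_lit 4, nat_lit 2],
  [nat_lit 2, nat_lit 1, nat_lit 0, nat_lit 1, nat_lit 3, nat_lit 4, nat_lit 0, nat_lit 1, nat_lit 4, nat_lit 1, nat_lit 3, nat_lit 4, nat_lit 1, nat_lit 0, nat_lit 4, nat_lit 1, nat_lit 0],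
  [nat_lit 4, nat_lit 1, nat_lit 2, nat_lit 1, nat_lit 4, nat_lit 1, nat_lit 2, nat_lit 1, nat_lit 4, nat_lit 0, nat_lit 1, nat_lit 4, nat_lit 3, nat_lit 2, nat_lit 4, nat_lit 1, nat_lit 0],
  [nat_lit 3, nat_lit 1, nat_lit 4, nat_lit 1, nat_lit 4, nat_lit 0, nat_lit 4, nat_lit 1, nat_lit 4, nat_lit 2, nat_lit 1, nat_lit 4, nat_lit 1, nat_lit 4, nat_lit 3, nat_lit 2, nat_lit 0],
  [nat_lit 4, nat_lit 0, nat_lit 2, nat_lit 4, nat_lit 0, nat_lit 2, nat_lit 4, nat_lit 3, nat_lit 2, nat_lit 3, nat_lit 0, nat_lit 4, nat_lit 2, nat_lit 0, nat_lit 4, nat_lit 2, nat_lit 0],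
  [nat_lit 4, nat_lit 0, nat_lit 4, nat_lit 3, nat_lit 1, nat_lit 4, nat_lit 2, nat_lit 1, nat_lit 2, nat_lit 4, nat_lit 1, nat_lit 3, nat_lit 4, nat_lit 0, nat_lit 4, nat_lit 2, nat_lit 0],
  [nat_lit 4, nat_lit 3, nat_lit 0, nat_lit 4, nat_lit 3, nat_lit 4, nat_lit 2, nat_lit 3, nat_lit 4, nat_lit 3, nat_lit 4, nat_lit 0, nat_lit 3, nat_lit 4, nat_lit 0, nat_lit 3, nat_lit 0],
  [nat_lit 3, nat_lit 4, nat_lit 2, nat_lit 3, nat_lit 4, nat_lit 2, nat_lit 4, nat_lit 1, nat_lit 4, nat_lit 2, nat_lit 4, nat_lit 3, nat_lit 2, nat_lit 4, nat_lit 1, nat_lit 3, nat_lit 0],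
  [nat_lit 3, nat_lit 0, nat_lit 3, nat_lit 4, nat_lit 3, nat_lit 4, nat_lit 2, nat_lit 4, nat_lit 2, nat_lit 4, nat_lit 3, nat_lit 4, nat_lit 2, nat_lit 4, nat_lit 1, nat_lit 2, nat_lit 1],
  [nat_lit 3, nat_lit 0, nat_lit 3, nat_lit 4, nat_lit 2, nat_lit 4, nat_lit 3, nat_lit 4, nat_lit 2, nat_lit 4, nat_lit 2, nat_lit 4, nat_lit 3, nat_lit 4, nat_lit 1, nat_lit 2, nat_lit 1],
  [nat_lit 4, nat_lit 0, nat_lit 1, nat_lit 0, nat_lit 4, nat_lit 1, nat_lit 4, nat_lit 3, nat_lit 2, nat_lit 4, nat_lit 3, nat_lit 4, nat_lit 0, nat_lit 1, nat_lit 3, nat_lit 2, nat_lit 1],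
  [nat_lit 4, nat_lit 1, nat_lit 2, nat_lit 4, nat_lit 3, nat_lit 4, nat_lit 2, nat_lit 4, nat_lit 1, nat_lit 4, nat_lit 1, nat_lit 2, nat_lit 4, nat_lit 2, nat_lit 4, nat_lit 2, nat_lit 1],
  [nat_lit 2, nat_lit 0, nat_lit 2, nat_lit 0],
  [nat_lit 3, nat_lit 0, nat_lit 3, nat_lit 0, nat_lit 3, nat_lit 0, nat_lit 3, nat_lit 0, nat_lit 3, nat_lit 0, nat_lit 3, nat_lit 0, nat_lit 3, nat_lit 0, nat_lit 3, nat_lit 0, nat_lit 3, nat_lit 0, nat_lit 3, nat_lit 0, nat_lit 3, nat_lit 0, nat_lit 3, nat_lit 0],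
  [nat_lit 4, nat_lit 0, nat_lit 4, nat_lit 0, nat_lit 4, nat_lit 0, nat_lit 4, nat_lit 0, nat_lit 4, nat_lit 0, nat_lit 4, nat_lit 0, nat_lit 4, nat_lit 0, nat_lit 4, nat_lit 0, nat_lit 4, nat_lit 0, nat_lit 4, nat_lit 0, nat_lit 4, nat_lit 0, nat_lit 4, nat_lit 0],
  [nat_lit 2, nat_lit 1, nat_lit 2, nat_lit 1, nat_lit 2, nat_lit 1, nat_lit 2, nat_lit 1],
  [nat_lit 3, nat_lit 1, nat_lit 3, nat_lit 1, nat_lit 3, nat_lit 1, nat_lit 3, nat_lit 1, nat_lit 3, nat_lit 1, nat_lit 3, nat_lit 1, nat_lit 3, nat_lit 1, nat_lit 3, nat_lit 1, nat_lit 3, nat_lit 1, nat_lit 3, nat_lit 1, nat_lit 3, nat_lit 1, nat_lit 3, nat_lit 1, nat_lit 3, nat_lit 1],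
  [nat_lit 4, nat_lit 1, nat_lit 4, nat_lit 1, nat_lit 4, nat_lit 1, nat_lit 4, nat_lit 1, nat_lit 4, nat_lit 1, nat_lit 4, nat_lit 1, nat_lit 4, nat_lit 1, nat_lit 4, nat_lit 1],
  [nat_lit 3, nat_lit 2, nat_lit 3, nat_lit 2],
  [nat_lit 4, nat_lit 2, nat_lit 4, nat_lit 2, nat_lit 4, nat_lit 2, nat_lit 4, nat_lit 2, nat_lit 4, nat_lit 2, nat_lit 4, nat_lit 2],
  [nat_lit 4, nat_lit 3, nat_lit 4, nat_lit 3, nat_lit 4, nat_lit 3, nat_lit 4, nat_lit 3, nat_lit 4, nat_lit 3, nat_lit 4, nat_lit 3, nat_lit 4, nat_lit 3, nat_lit 4, nat_lit 3],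
  []]
def spT_1_3 (j : ℕ) : ℕ := bif Nat.blt j 2 then nat_lit 0xe026000140200001c0260000003b00012039000160390001002300002017000080160000200b0000400a0000e02a00004023000140230000402f000040340000201a0000a0170000004c0000801b0000c0320000001b0000203b0000603c0000803d0000401b00008017000140220000202f0000403e0000003a00020039000020390001803f0002003e000080230000001e000040280000c02600008022000200340000203d0000a0220001a02b0001c0280002002a000100340000401a000000380001403f0000603e000000370001c036000140360000402c000020370001a036000000160000a00c0000a01a0000801a0000a0360001a03200012022 else nat_lit 0x20230001a0260000000c0000600e0002003b000020460000603d000180260000e0220000e0200000603b000080240000c0360000204c0000002f0000802600006032000020380000002f0000a02e0000003a000140380001203a000120380000001a0000801700002040000060130000c0160000001a0000e0240000c0120000a0120000200800012020000080200000a02e0000003f00008019000060180001c03800010038000020380000403a000040390000403700000036000080300000400b0000000a0000001e0000a0390000e038000200360000000e0000a0170000203a0000c03e0001e03e0000c026000000220000000b0001e03c0000002e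
def spT_0_3 (j : ℕ) : ℕ := bif Nat.blt j 1 then nat_lit 0x40220001a022000040330000200400016028000020260000e03d0002002b0000a02c000060170000200e0001003200010022000080340000a020000120300002002c0000400e0000a008000000040000c02200000050000120230000003b000020390001203a00000039000100360000800c00000000000000000000602f00016026000000180000202e0002002e000120260000a026000040200000c02e0000601b000120310001e0300000e03c000160380000200c00000002000000100000000600000002000000100000000600000039000120380000004e0000204c0000400c000000460001602a0000204000006028000000240000004c00000040 else (spT_1_3 j)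
def spT_4_6 (j : ℕ) : ℕ := bif Nat.blt j 5 then nat_lit 0xc02c000140350001003d0000e0360000201d0000001c000080180000603700018036000020370000c037000020360001c02e0002003a000200390001603f00014038000060370001e037000180260000203f0001802f0001603e0002003f0000e03f00010026000000380002003a00008023000020420000201600002015000060160000202e000140200001403d0000c0240001603b000160260000c02000012036000000260001602c0000c02d0000203b0001c034000100390001c03f0000e03e0001603e0000e0390000203e0001603d000080280000602300000013000040280000a026000120280000202f0000600c000000180000403c0002002f else nat_lit 0xa0220000c0230001002b0001e02a0000a01b000000080000800c000020180000401300000012000060140000801b0000a01400002014000100280001203d0000401b0000801a0001c0320001003c0000802b000020280000a02a0000a024000060140001a0280000202b0000e0200001e026000040240001c03f00018032000040320001803d00008012000000150000200e000080130000000e0000601c00008015000040140000003e0000a0140000a01d0000000a0000601600004037000160360000403d0001c03d0001a03000004030000000340001a02a0001c0340000e02e000080120002002e000180340000c02e0000203a0001403b0001a02f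
def spT_3_6 (j : ℕ) : ℕ := bif Nat.blt j 4 then nat_lit 0x403b0000c039000060200000802f000060240001003e0001402b0000a0280001202b0000a015000060130000a01c0000201b0000c03c0000803e0000802c0000a03c000080080000802a0001603c0001e02e0001802a0000c0150000801d0000e02b0001202a0001402a0000200a0000601c0000601d0000c038000000020000601d0000a01d0000400e000040080000000c0000001400018023000060220001c02300002034000180220001a03c000160220001c02b00002022000100220001203f0000002e000080370001203700002024000040390000a0120000400a0000c015000040150000a01c0000e0320000204e0000203f0001203600014028 else (spT_4_6 j)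
def spT_0_6 (j : ℕ) : ℕ := bif Nat.blt j 3 then (spT_0_3 j) else (spT_3_6 j)
def spT_7_9 (j : ℕ) : ℕ := bif Nat.blt j 8 then nat_lit 0x160200001c0360001c02c0002003b0001003b0001202c00004024000040380000005200008022000020340000e03e0000e0370001403c00006034000180280000a03e0000003d00004014000000460000401c0000204200004012000080140000600c0001002a0000401d00020038000180280001e02800018039000060340002003d0001c0370000403b0000c03a000120220000c03d000160200000403c0001c026000140370000603a000160320000602b000120340001e02b0000c02a00004018000060150000803c0001203200002023000080360000402e000140390000004a0001002b000060360001c030000020150000c02b0000a0150001803e else nat_lit 0x20000001e000000060000001e000000060000000200000010000100380001002f0000c03d0001a0200000e032000040300000603200018034000020220000204a0000602300018022000080360001403e0000401d0000e0340001202c0001203c000000220001c0390000400c000020180001e0360000e026000080200001c02f0000803e0000802d00020038000040360000e02c000200370000a0370001203e0000c0230001e03d0001e02b000160230002003c0001602f0000a0360001e036000180200000003c0000a03d0000c0280001a0230002003c00014022000100260000a02d0000e0280001002e000120370000403d0001603c00014032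
def spT_6_9 (j : ℕ) : ℕ := bif Nat.blt j 7 then nat_lit 0x140370000a0240000402e0000200c000000150002003d0000a0380000203c000140260001c03e0000a03e0001c03c0000002a000060330001403e0000a03b0000003d0000600e000000500000204e000080390001203b0000402f0001a02c0000002b0000602a000080320000a0340001602b0000002c0001c02a0001203c0001803c0000603d0001802c0000402a00006026000020330001c022000000280001a034000000360000602c0000203d0000e03900000034000060360000803f0001a03f0000a02b0001a03e0000a023000080370000e0230001002c000000400001e0340000602600006039000120230001602300004022000160220001a023 else (spT_7_9 j)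
def spT_10_12 (j : ℕ) : ℕ := bif Nat.blt j 11 then nat_lit 0x202b000080280000a0280000a0230001a0220000a02000018035000100390000403f0001a028000000230000204a0001603f0000c03f0000603f0001003c0000c03800018038000100340000c032000120320001402c0000002c0000402c0000c02b0001c02a0000402a000080260000c0240000402000006020000180320000003e00018036000100360001c032000060280001c022000060220000a02a0001c0200000004e0000004a0001203e0001c03e0001603d0001003d0000a03c000040380001e0380000e0360000c0360001e02c0001a02a000020440000403e0000a03d0000e03c0000803c0001403c0001a036000080340001403400020034 else nat_lit 0x4032000020040000203c0001202a0001c02b0001e0300001c02e000060120000403a0000002b0002002b0001e0280000603f0000c035000000240000200b0000803f000080380002002c000000480001a0300001c02d0000e02c0000602b0000603c000020280001403000014036000040340001202b0000202c0001002e0000c0120001403d0001e03c0001402c0000002a0002002a00006024000020240000e0230000801d0000a0160000200a00000004000100200001a0340000c022000020480001a03e0001203d0001803a000160360001e031000020300000c02f0001402e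
def spT_9_12 (j : ℕ) : ℕ := bif Nat.blt j 10 then nat_lit 0x1403200020032000160320001e0320001002c0001602c0000802b0000e02a00016028000100280001e0260001a026000120200001a03d0000e03d0001c03c0001602f0001c02c0000c02c0001a02b0000602a0000402300010023000060150000c03e0001e03e0001e03d0001803800016038000040360001a0320000c02f0000202c0001802b0000a02b0000e0280000002600014023000080240000001d0000201c0000201c0000c014000020170000a01300002013000020120000601b0000a01b0000a0080000602c0001602a00012026000000520000000000000006000000100000001e0000001e0000000000000006000000100000000000000010 else (spT_10_12 j)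
def spT_6_12 (j : ℕ) : ℕ := bif Nat.blt j 9 then (spT_6_9 j) else (spT_9_12 j)
def spT_0_12 (j : ℕ) : ℕ := bif Nat.blt j 6 then (spT_0_6 j) else (spT_6_12 j)
def spT (j : ℕ) : ℕ := (spT_0_12 j)
def sp (j : ℕ) : ℕ := Nat.land (Nat.shiftRight (spT (Nat.shiftRight j 6)) (Nat.mul (Nat.land j 63) 32)) 4294967295
theorem Eo_lt (r : ℕ) : Eo r < 18014398509481984 := land54_lt _
def cT_0_2 (j : ℕ) : ℕ := bif Nat.blt j 1 then nat_lit 0x8200008100008000007f00007e00007d00007c00007b00007a00007900007800007700007600007500007400007300007200007100007000006f00006e00006d00006c00006b00006a00006900006800006700006600006500006400006300006200006000005f00005e00005d00005c00005b00005a00005900005800005700005600005500005400005300005200005000004f00004e00004d00004b00004a00004900004800004700004600004500004400004300004200004100004000003f00003e00003d00003c00003b00003a00003900003800003700003600003500003400003300003200003100003000002f00002e00002d00002c00002b00002a00002900002800002700002600002500002400002300002200002100002000001f00001e00001d00001c00001b00001a00001900001800001700001600001500001400001300001200001100001000000f00000e00000d00000c00000b00000a000009000008000007000006000005000004000003000002000001000000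 else nat_lit 0x12200012100012000011e00011a00011900011800011700011600011500011400011300011200011100011000010f00010e00010c0001070001060001010001000000ff0000fe0000fd0000fc0000fb0000fa0000f80000f70000f60000f50000f40000f30000f20000f10000f00000ef0000ee0000ed0000eb0000ea0000e90000e80000e70000e60000e50000e40000e30000e20000e10000e00000df0000dd0000dc0000da0000d90000d80000d70000d60000d40000d30000d20000d00000cf0000ce0000cd0000cc0000cb0000ca0000c90000c80000c70000c60000c50000c40000c30000c20000c10000c00000bf0000be0000bd0000bc0000bb0000ba0000b80000b60000b50000b30000b20000b10000b00000af0000ac0000aa0000a90000a80000a70000a60000a50000a40000a30000a20000a10000a000009f00009e00009d00009c00009b00009900009800009700009600009500009400009300009200009100009000008e00008c00008b00008a000089000084000083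
def cT_2_4 (j : ℕ) : ℕ := bif Nat.blt j 3 then nat_lit 0x1c60001c50001c40001c30001c20001c10001c00001bf0001be0001bd0001bc0001bb0001b90001b80001b70001b60001b30001b20001b00001af0001ae0001ad0001aa0001a90001a80001a70001a50001a40001a30001a20001a10001a000019f00019e00019d00019c00019b00019900019800019700019500019300019200019100018f00018e00018c00018b00018900018800018700018600018300018200018100018000017f00017e00017d00017b00017a00017900017800017700017600017500017400017300017200017100016f00016e00016d00016c00016b00016900016800016700016600016500016400016300016100016000015f00015e00015d00015c00015b00015a00015900015700015600015500015400015000014f00014d00014c00014b00014a00014900014800014600014500014300014200014100014000013f00013e00013c00013b00013a00013900013700013600013500013400013100012f00012d00012a000129000128000127000125000123 else nat_lit 0x28000027f00027e00027d00027c00027b00027a000278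00027700027600027500027400027200027100027000026b00026a00026600026300026200026100026000025f00025e00025d00025c00025a00025900025800025500025400025200025100025000024f00024d00024900024800024700024600024500024400024300024200023f00023e00023d00023b00023800023500023300023200022f00022e00022d00022c00022b00022a00022900022800022700022600022400022100022000021f00021e00021d00021c00021b00021a00021900021800021700021600021500021400021300021200021000020f00020e00020a0002090002080002070002060002050002040002030002020002010001ff0001fe0001fd0001fc0001fb0001fa0001f90001f80001f70001f60001f50001f40001f30001ee0001ed0001eb0001ea0001e80001e60001e50001e40001e00001df0001de0001dd0001dc0001db0001d70001d60001d50001d10001cb0001ca0001c90001c80001c7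
def cT_0_4 (j : ℕ) : ℕ := bif Nat.blt j 2 then (cT_0_2 j) else (cT_2_4 j)
def cT_4_6 (j : ℕ) : ℕ := bif Nat.blt j 5 then nat_lit 0x32700032400032300032100031e00031d00031c00031b00031a00031900031800031700031200031000030f00030e00030d00030c00030b00030a0003090003080003040003030003020003010003000002ff0002fe0002fc0002fa0002f80002f70002f60002f50002f40002f30002f20002f10002f00002ef0002ee0002ed0002eb0002ea0002e90002e80002e70002e60002e50002df0002dd0002dc0002db0002da0002d90002d70002d60002d50002d40002d30002d20002d10002cf0002ce0002cd0002c90002c80002c70002c60002c50002c40002c20002c10002c00002bf0002bd0002bc0002bb0002b90002b80002b70002b60002b50002b40002b20002b00002af0002ae0002ad0002ab0002aa0002a90002a70002a60002a50002a40002a30002a20002a10002a000029f00029e00029d00029c00029b00029a00029600029500029400029300029200029100029000028f00028e00028d00028c00028b000289000288000287000286000285000284000283000282000281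 else nat_lit 0x42900042800042500042400042300042200042100042000041c00041a00041900041800041700041500041300041200041000040c00040a0004060004050004040004030004010004000003f90003f60003f00003ee0003ed0003eb0003e20003e10003e00003df0003de0003dc0003d70003d50003d40003d30003d10003d00003cf0003cb0003c90003c70003c60003c40003c30003c20003bb0003b00003af0003ae0003ad0003aa0003a60003a30003a20003a000039e00039d00039c00039b00039a00039800039700039600039500039400039300039200039100038f00038d00038c00038a00038900038800038300038100037f00037e00036e00036d00036b00036a00035f00035e00035c00035b00035a00035900035800035600035500035400035300035200035100035000034f00034e00034d00034c00034b00034a00034700034600034500033f00033b00033a00033800033700033600033500033400033300033100033000032f00032d00032c00032b000329000328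
def cT_7_9 (j : ℕ) : ℕ := bif Nat.blt j 8 then nat_lit 0x5eb0005ea0005e90005e80005e70005e60005e50005e00005de0005dd0005dc0005db0005da0005d90005d80005d70005d50005d40005d10005d00005cf0005ce0005cc0005cb0005ca0005c90005c60005c40005c30005c20005c00005bf0005bd0005bc0005bb0005b70005b50005b40005b30005b20005b10005b00005ae0005ac0005ab0005a30005a000059f00059700059600059500059200059100059000058e00058d00058c00058b00058700058400058300058100058000057f00057d00057700057100056f00056e00056d00056c00056b00056800056700056500056200056100055e00055d00055c00055b00055a00055700055200055100055000054e00054c00054900054800054700054400054300054200053c00053800053600053500053400053300053100052f00052d00052c00052b00052700052400051b00051900051800051700051400051200051100051000050f00050e00050a0005070005050005040005030005020005010004fb0004fa0004f90004f8 else nat_lit 0x7050007030007020007010007000006fe0006fd0006fc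0006f90006f80006f70006f60006f50006f40006f30006f20006f10006ed0006ec0006eb0006ea0006e70006e60006e40006e30006e20006df0006dd0006dc0006d50006d30006ce0006cd0006c30006c20006c10006c00006be0006bd0006bc0006ba0006b90006b70006b60006b40006b20006af0006ae0006ad0006ac0006a90006a80006a70006a60006a40006a20006a10006a000069900069800069700069600069400069300069200069100069000068d00068c00068b00068a00068900068700068600068300068200068100068000067f00067c00067a00067700067500067400067300067200067100067000066700066600066500066400066300066200065b00065900065500065400065300064900064800064500063700063600063400063300063200063100063000062c00062a0006290006260006250006190006170006120006100006050006020005f40005f30005f20005f10005ef0005ee0005ed0005ec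
def cT_6_9 (j : ℕ) : ℕ := bif Nat.blt j 7 then nat_lit 0x4f30004f20004ef0004ee0004ec0004eb0004ea0004e50004e40004e30004e20004e00004df0004de0004dd0004dc0004db0004da0004d80004d70004d60004d50004d40004d30004d20004d10004d00004cd0004cc0004cb0004ca0004c50004c20004c10004c00004bf0004be0004bd0004bc0004bb0004b90004b80004b70004b60004b50004ae0004ad0004ac0004ab0004a90004a70004a50004a20004a000049f00049e00049d00049c00049a00049900049800049500049400049300049200049100049000048f00048e00048c00048b00048900048800048700048600048500048400048300048200048000047f00047d00047c00047b00047a00047900047800047700047600047200046f00046e00046d00046b00046900046600046500046400045b00045700045600045500045400045300045200045100045000044f00044e00044d00044b00044a00044900044800044700044600044500044400044300044000043f00043e00043a00043900043500042f00042b00042a else (cT_7_9 j)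
def cT_4_9 (j : ℕ) : ℕ := bif Nat.blt j 6 then (cT_4_6 j) else (cT_6_9 j)
def cT_0_9 (j : ℕ) : ℕ := bif Nat.blt j 4 then (cT_0_4 j) else (cT_4_9 j)
def cT_9_11 (j : ℕ) : ℕ := bif Nat.blt j 10 then nat_lit 0x86200086100085f00085d00085c00085b00085900085300085100084e00084b00084800084400084300084200083d00083c00083a00083700083600083500083400083300083200083100083000082f00082d00082c00082b00082a00082900082800082400082300082100082000081f00081e00081d00081700081300081200081000080f00080e00080c0008080008070007fe0007fd0007fb0007fa0007eb0007e90007e80007e10007e00007df0007da0007d90007d60007d30007d20007d10007ce0007ca0007c90007c70007c50007ba0007b90007b70007b30007aa0007a90007a40007a30007a000079900079800079600078f00078e00078d00078700078400077e00077c00077900077800077600077400077300077000076f00076e00076c00076500076400076300076100075800075700074f00074d00074000073f00073d00073500073400073200073100072e00072c00072900072800072700072600072500072400072300071d00071c00071a00071600070a000709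 else nat_lit 0x9ab0009aa0009a80009a30009a000099f00099e00099d00099c00099900099400099100098f00098c00098b00098100097e00097c00096900096600096500096300096100096000095f00095e00095d00095b00095a00095800095700095600095500094f00094e00094d00094b00094a00094900094600094500093e00093c00093b00093900093500093400093200092f00092d00092c00091f00091d00091c00091b00091a00091900091800091700091500091400091300091200091100090f00090e00090d0009090009080009070009050009040008fe0008f60008f50008f30008ef0008ed0008ea0008e70008e60008e40008e30008df0008dd0008db0008d00008cb0008c90008c70008c60008c00008bb0008b80008b40008b30008b20008af0008a90008a70008a50008a40008a20008a000089f00089e00089b00089900089700089600089100088f00088c00088a00088800088600087a00087600087500087400087300087200086f00086b000868000866000865000863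
def cT_11_13 (j : ℕ) : ℕ := bif Nat.blt j 12 then nat_lit 0xb5d000b2b000b27000b1e000b1d000b08000b05000b03000b02000b01000afe000afc000af7000af6000af5000af4000af3000aec000aea000ae7000ae3000ae0000add000adb000ad8000ad7000ad6000ad5000ad4000ad3000ad2000ad1000ad0000ace000acc000acb000aca000ac8000ac7000ac5000ac4000ac3000ac2000aba000ab7000ab4000aa1000a94000a8e000a8d000a8a000a89000a87000a84000a83000a82000a81000a80000a7f000a7d000a76000a75000a73000a72000a71000a6f000a69000a68000a66000a65000a64000a62000a61000a5d000a5c000a5a000a57000a4a000a49000a39000a35000a34000a31000a2f000a2c000a2a000a27000a24000a19000a18000a16000a11000a020009fc0009fa0009f80009f60009ea0009e90009e70009e40009e30009e20009e10009de0009dd0009dc0009da0009d90009d80009d70009d20009d00009ce0009c90009bf0009be0009bc0009bb0009ba0009b90009b60009b50009b20009b10009b00009ad0009ac else nat_lit 0xd76000d74000d72000d69000d66000d65000d59000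d51000d50000d44000d40000d3e000d3d000d30000d2e000d2d000d29000d27000d26000d25000d24000d15000d11000d0f000d0d000d0c000d09000d06000d00000cfe000cfd000cfb000cf9000cf8000cf7000cf0000ce5000ce4000ce3000cdc000cd8000cd6000cd1000ccf000cce000cba000cb8000ca4000c9b000c99000c96000c7e000c7b000c7a000c79000c78000c77000c76000c75000c74000c72000c6e000c6d000c54000c4c000c48000c3f000c3e000c3d000c33000c30000c2f000c2e000c28000c26000c25000c23000c22000bf2000bf1000bee000bed000bec000beb000bdf000bd5000bd4000bd3000bd2000bcd000bc7000bc2000bc1000bc0000bbb000bba000bb8000bb7000bb6000bb5000bb4000bb0000baf000bac000ba7000ba1000ba0000b9f000b9d000b92000b91000b90000b8e000b8d000b85000b84000b83000b80000b7e000b7c000b7b000b7a000b77000b76000b6d000b6c000b69000b67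
def cT_9_13 (j : ℕ) : ℕ := bif Nat.blt j 11 then (cT_9_11 j) else (cT_11_13 j)
def cT_13_15 (j : ℕ) : ℕ := bif Nat.blt j 14 then nat_lit 0xf3d000f3a000f34000f33000f32000f2f000f1d000f19000f13000f0d000efc000ef6000ef5000ef3000ef1000eed000eea000ee9000ee8000ee6000ee5000ee2000edf000edd000edb000ed9000ed8000ed7000ed5000ed4000ec4000ec3000ec2000ec1000ec0000ebd000eba000eb7000e99000e96000e93000e91000e8f000e8d000e88000e86000e85000e82000e7e000e78000e75000e6f000e6e000e6d000e69000e67000e64000e63000e5b000e57000e55000e53000e4d000e4a000e47000e46000e44000e43000e41000e40000e3f000e3d000e3c000e3b000e3a000e38000e35000e33000e31000e2e000e2d000e2b000e29000e27000e26000e25000e23000e21000e1e000e1c000e1b000e1a000e19000e17000e16000e15000e0e000e02000e00000dfe000df3000deb000de9000de8000de7000de6000de4000dc9000dc3000dc2000dbf000dbe000db4000db0000daf000d9f000d98000d93000d92000d91000d8e000d8d000d8b000d8a000d86000d83000d79000d77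 else nat_lit 0x11b30011b20011a60011a40011a000119f00119b00119900119800119700118f00118b00118500117d00117800117000113f00113d00113c00113900113200112d00112600112500112400112300112200111e00111000110f00110e00110d0011050011010010fb0010f70010f50010f40010f30010f20010e90010e70010cd0010cb0010c50010b60010b50010aa0010a90010a30010a20010a000109f00109c00109a00109900109500109100109000108f00108600108500108400108200107900107800106900105500105400105300103d00103900103200103000102c00102a00102800102700101d00101b000ffd000ff6000ff3000fe6000fe3000fde000fdb000fd9000fd6000fd5000fd3000fd2000fd1000fcf000fc1000fbf000fbe000fb9000faf000fae000fad000fac000f9a000f99000f98000f93000f92000f91000f7d000f7b000f74000f6f000f6e000f6a000f67000f65000f61000f60000f5c000f5b000f59000f56000f52000f4f000f48000f44000f43000f42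
def cT_16_18 (j : ℕ) : ℕ := bif Nat.blt j 17 then nat_lit 0x1c45001c20001c1f001c11001c0e001c0d001c09001c03001be0001bcd001bc3001bb6001bb4001ba8001b9c001b9a001b8f001b8e001b8d001b8c001b32001b31001b2b001b12001b11001ae6001ae4001ad4001ac1001ab4001ab3001ab1001a9e001a80001a7f001a7c001a68001a54001a4d001a42001a41001a32001a060019fd0019f80019f70019e70019e50019d20019c700199900196300196200195d00195c00194900194800194000193900190f0019060018ff0018c50018c40018c30018bd0018ba0018b20018af0018a60018a500189300189200188700187e00187d00187700187200186a00185300184200184100182700181700180b0018090018040018000017fd0017f50017f20017f00017df0017dd0017d80017d40017d00017c10017c00017b90017b60017b00017a90017a70017a200179b00179800178000175800173a0017390016ff0016ef0016ae0016ac0016a100168e00168c00167600167000166f00165e00165c001638001627001626001605001604 else nat_lit 0x34f70031df0031a90031a500318100300f002f390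02ea9002dc2002cc4002c9d002c1e002b70002a79002a69002a66002a4b002a45002a3100295c00293a0029330028fe0027e70027ad00277e00277300276900276100275f00275d00273c0026b90026960026560026290025fe0025b600259a00259600256900255d00254d00254000251a0025040024f30024b60024a40024a300249f00246900246700245d00245400242e0023c90023a600237e0023680023490022c400228600227d0022720022220022210021fe0021f700218700218500218100215d00214300214100213f00213e0021130020eb0020bd00209000208f00208e00208d00208500207100206e002053002030001f9a001f46001f41001ed6001ecf001eca001ec9001ec4001ec1001eab001ea9001ea0001e97001e96001e95001e28001e1f001e1e001e09001df0001de6001de5001de3001dd7001dc0001dbf001db1001d93001d51001d46001d44001d2e001d25001d20001d1f001d1e001cb9001c92001c61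
def cT_15_18 (j : ℕ) : ℕ := bif Nat.blt j 16 then nat_lit 0x16020015fd0015fb0015b00015af0015ab0015a90015a200159800159700158c00157400157300156700156600156000155700155500153900153800151c00151100150d00150c00150a0014c40014ba0014b80014b50014b40014a300149600148500147500147000146f00146c00146b00146500144a00144000143800143600143200143100142000141f00141e00141d00141b00141800140b0013e80013e70013e50013e40013e30013e20013e10013e00013dd0013d00013c60013c00013ae0013ad0013aa0013a000139e00139b00139400139200138d00138c00138a00138900138200137d00136b00136a00136900136500136400136300136200135f00135b00134600133a00131a0012e40012e30012e20012ca0012c60012c30012bb0012b90012b800127100127000126700124000123f00123e00123d00123c00123600123400123300122f00122b00122400122300121f0012160012130012060011fb0011f90011ed0011ec0011eb0011e30011e10011d90011c70011c6 else (cT_16_18 j)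
def cT_13_18 (j : ℕ) : ℕ := bif Nat.blt j 15 then (cT_13_15 j) else (cT_15_18 j)
def cT_9_18 (j : ℕ) : ℕ := bif Nat.blt j 13 then (cT_9_13 j) else (cT_13_18 j)
def cT_0_18 (j : ℕ) : ℕ := bif Nat.blt j 9 then (cT_0_9 j) else (cT_9_18 j)
def cT (j : ℕ) : ℕ := (cT_0_18 j)
noncomputable def cChunk (h : ℕ) : ℕ := Nat.rec (motive := fun _ => ℕ) (cT 0) (fun n _ => cT (Nat.succ n)) h
noncomputable def cF (i : ℕ) : ℕ := Nat.land (Nat.shiftRight (cChunk (Nat.shiftRight i 7)) (Nat.mul (Nat.land i 127) 24)) 16777215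
theorem cF_lt (i : ℕ) : cF i < 16777216 := land24_lt _
theorem cF_zero : cF 0 = 0 := by decide +kernel
def nDef : ℕ := 23143
def nEv : ℕ := 57461
def nW : ℕ := 761
def N : ℕ := 2304
def ys : List ℕ := [nat_lit 0, nat_lit 1, nat_lit 2, nat_lit 3, nat_lit 4]
def Js : List ℕ := [nat_lit 0, nat_lit 1, nat_lit 2, nat_lit 3, nat_lit 4]
def Jp : List ℕ := [nat_lit 0, nat_lit 1, nat_lit 2, nat_lit 3]
end Cfsg.Agent.Lib.ToddCox.RUC1
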